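import Groth.Agent.Lef73.SectionCrit

/-!
# The tower of infinitesimal neighbourhoods
-/

set_option backward.isDefEq.respectTransparency false
set_option backward.isDefEq.respectTransparency.types false

universe u

open CategoryTheory CategoryTheory.Limits AlgebraicGeometry TopologicalSpace Opposite

noncomputable section

namespace Groth.Agent.Lef73

open Groth.Agent

variable {X : Scheme.{u}} (𝓙 : X.IdealSheafData)

theorem range_completionToX (n : ℕ) :
    Set.range (FSch.completionToX X 𝓙 n).base = Set.range 𝓙.subschemeι.base := by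
  show Set.range (𝓙 ^ (n + 1)).subschemeι.base = _
  rw [Scheme.IdealSheafData.range_subschemeι, Scheme.IdealSheafData.range_subschemeι,
    Scheme.IdealSheafData.support_pow_succ]

theorem restrict_full_faithful_of_sectionBij (h : SectionBij (i := FSch.completionToX X 𝓙) (compl_ι_toX 𝓙)) :
    (FEt.restrict 𝓙.subschemeι).Full ∧ (FEt.restrict 𝓙.subschemeι).Faithful :=
  restrict_full_faithful (compl_ι_toX 𝓙) h 𝓙.subschemeι (range_completionToX 𝓙)

theorem restrict_full_faithful_of_homToFormal
    (h : ∀ D : X.Modules, FlatMod.IsFinLocFree D → Lef.HomToFormalBijective 𝓙 D) :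
    (FEt.restrict 𝓙.subschemeι).Full ∧ (FEt.restrict 𝓙.subschemeι).Faithful :=
  restrict_full_faithful_of_sectionBij 𝓙
    (sectionBij_of_towerBij _ fun D hD => towerBij_of_homToFormal 𝓙 (h D hD))

/-- Connectedness of `V(𝓙)` and of the whole scheme. -/
theorem connected_iff (h : SectionBij (i := FSch.completionToX X 𝓙) (compl_ι_toX 𝓙)) :
    ConnectedSpace 𝓙.subscheme ↔ ConnectedSpace X := by
  let j := 𝓙.subschemeι
  have hO := h _ isFinLocFree_pushO_id
  have hmeet : ∀ C : Set X, IsClopen C → C.Nonempty → (C ∩ Set.range j.base).Nonempty := fun C hC hne => by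
    obtain ⟨n, x, hx, hx'⟩ := clopen_inter_nonempty (𝟙 X) (compl_ι_toX 𝓙) hO C hC hne
    exact ⟨x, hx, range_completionToX 𝓙 n ▸ hx'⟩
  rw [connectedSpace_iff_clopen, connectedSpace_iff_clopen]
  constructor
  · rintro ⟨⟨y⟩, hy⟩
    refine ⟨⟨j.base y⟩, fun C hC => or_iff_not_imp_left.2 fun hne => ?_⟩
    obtain ⟨x, hx, y', rfl⟩ := hmeet C hC (Set.nonempty_iff_ne_empty.2 hne)
    rcases hy _ (hC.preimage j.continuous) with h1 | h1
    · exact absurd hx (fun hx => by
        have : y' ∈ j.base ⁻¹' C := hx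
        rw [h1] at this
        exact this)
    · by_contra hne'
      obtain ⟨x, hx, y'', rfl⟩ := hmeet Cᶜ hC.compl (Set.nonempty_compl.2 hne')
      exact hx (show y'' ∈ j.base ⁻¹' C from h1 ▸ trivial)
  · rintro ⟨⟨x⟩, hx⟩
    obtain ⟨_, _, y, rfl⟩ := hmeet Set.univ isClopen_univ ⟨x, trivial⟩
    refine ⟨⟨y⟩, fun C hC => ?_⟩
    obtain ⟨G, hG, rfl⟩ := exists_isClopen_of_closed (𝟙 X) (compl_ι_toX 𝓙) hO j
      (fun n => (range_completionToX 𝓙 n)) C hC
    rcases hx G hG with rfl | rfl
    · exact Or.inl rfl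
    · exact Or.inr rfl

end Groth.Agent.Lef73
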