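import Groth.Agent.Lef73.Algebraize
import Groth.Agent.Lef73.LefTower
import Groth.Prelude.Def_LefX

/-!
# Algebraization of finite étale covers along a completion
-/

set_option backward.isDefEq.respectTransparency false
set_option backward.isDefEq.respectTransparency.types false
set_option linter.style.haveILetI false

universe u

open CategoryTheory CategoryTheory.Limits AlgebraicGeometry TopologicalSpace Opposite

noncomputable section

namespace Groth.Agent.Lef73

open Groth.Agent

variable {X : Scheme.{u}} (𝓙 : X.IdealSheafData)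

instance isClosedImmersion_ι (n : ℕ) : IsClosedImmersion ((FSch.completionAlong X 𝓙).ι n) :=
  inferInstanceAs (IsClosedImmersion (Scheme.IdealSheafData.inclusion (FSch.pow_succ_le X 𝓙 n)))

theorem surjective_completion_ι (n : ℕ) : Surjective ((FSch.completionAlong X 𝓙).ι n) := by
  refine ⟨fun y => ?_⟩
  obtain ⟨x, hx⟩ : FSch.completionToX X 𝓙 (n + 1) y ∈ Set.range (FSch.completionToX X 𝓙 n).base := by
    rw [range_completionToX, ← range_completionToX 𝓙 (n + 1)]
    exact Set.mem_range_self y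
  refine ⟨x, (FSch.completionToX X 𝓙 (n + 1)).isClosedEmbedding.injective ?_⟩
  rw [← Scheme.Hom.comp_apply, compl_ι_toX]
  exact hx

theorem eqToHom_subschemeι {I J : X.IdealSheafData} (h : I = J) :
    eqToHom (congrArg Scheme.IdealSheafData.subscheme h) ≫ J.subschemeι = I.subschemeι := by
  subst h
  simp

/-- The zeroth level of the completion. -/
def completionZeroIso : 𝓙.subscheme ≅ (FSch.completionAlong X 𝓙).X 0 :=
  eqToIso (congrArg Scheme.IdealSheafData.subscheme (pow_one 𝓙).symm)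

theorem completionZeroIso_hom : (completionZeroIso 𝓙).hom ≫ FSch.completionToX X 𝓙 0 = 𝓙.subschemeι :=
  eqToHom_subschemeι (pow_one 𝓙).symm

theorem exists_restrict_iso_completion (hMap : MapBij (i := FSch.completionToX X 𝓙) (compl_ι_toX 𝓙))
    (hEss : TowerEss (i := FSch.completionToX X 𝓙) (compl_ι_toX 𝓙)) (R : FEt.Cat 𝓙.subscheme) :
    ∃ W : FEt.Cat X, Nonempty ((FEt.restrict 𝓙.subschemeι).obj W ≅ R) :=
  haveI := surjective_completion_ι 𝓙
  exists_restrict_iso (i := FSch.completionToX X 𝓙) (compl_ι_toX 𝓙) 𝓙.subschemeι (completionZeroIso 𝓙)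
    (completionZeroIso_hom 𝓙) hMap hEss R

theorem towerEss_of_completion
    (hess : ∀ 𝔐 : FSch.ModSys (FSch.completionAlong X 𝓙), LefX.LevelwiseFinLocFree 𝔐 →
      ∃ F : X.Modules, FlatMod.IsFinLocFree F ∧ Nonempty (FSch.complMod 𝓙 F ≅ 𝔐)) :
    TowerEss (i := FSch.completionToX X 𝓙) (compl_ι_toX 𝓙) := fun M e hM => by
  obtain ⟨F, hF, ⟨φ⟩⟩ := hess ⟨M, e⟩ hM
  refine ⟨F, fun n => ⟨φ.hom.app n, φ.inv.app n,
    congrFun (congrArg FSch.ModSys.Hom.app φ.hom_inv_id) n,
    congrFun (congrArg FSch.ModSys.Hom.app φ.inv_hom_id) n⟩, hF, fun n => ?_⟩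
  rw [← complTransIso_eq]
  exact φ.hom.comm n

theorem restrict_isEquivalence_of_completion
    (h : ∀ F G : X.Modules, FlatMod.IsFinLocFree F → FlatMod.IsFinLocFree G →
      Function.Bijective (fun φ : F ⟶ G => FSch.complModMap 𝓙 φ))
    (hess : ∀ 𝔐 : FSch.ModSys (FSch.completionAlong X 𝓙), LefX.LevelwiseFinLocFree 𝔐 →
      ∃ F : X.Modules, FlatMod.IsFinLocFree F ∧ Nonempty (FSch.complMod 𝓙 F ≅ 𝔐)) :
    (FEt.restrict 𝓙.subschemeι).IsEquivalence := by
  obtain ⟨h1, h2⟩ := restrict_full_faithful_of_sectionBij _ (sectionBij_of_completion 𝓙 h)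
  haveI : (FEt.restrict 𝓙.subschemeι).EssSurj :=
    ⟨fun R => exists_restrict_iso_completion 𝓙 (mapBij_of_completion 𝓙 h) (towerEss_of_completion 𝓙 hess) R⟩
  exact { }

end Groth.Agent.Lef73
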