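import Groth.Agent.Lef73.CompFF
import Groth.Agent.ModPairLib.Basic
import Groth.Agent.HensCouple7.Gamma

/-!
# Functions on an affine scheme over `S` as limits, and lifting of clopen subsets
-/

set_option backward.isDefEq.respectTransparency false
set_option backward.isDefEq.respectTransparency.types false

universe u

open CategoryTheory CategoryTheory.Limits AlgebraicGeometry TopologicalSpace Opposite

noncomputable section

namespace Groth.Agent.Lef73

open Groth.Agent Groth.Agent.AModX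

variable {S W : Scheme.{u}} (π : W ⟶ S) [IsAffineHom π]
  {Z : ℕ → Scheme.{u}} {i : ∀ n, Z n ⟶ S} [∀ n, IsClosedImmersion (i n)]
  {t : ∀ n, Z n ⟶ Z (n + 1)} (ht : ∀ n, t n ≫ i (n + 1) = i n)

/-- `π_* O`. -/
abbrev pushO : S.Modules := (Scheme.Modules.pushforward π).obj (Coh.structureModule W)

/-- The `n`-th level of `W`. -/
abbrev preLvl (i : ∀ n, Z n ⟶ S) (n : ℕ) : W.IdealSheafData := (i n).ker.comap π

include ht in
theorem preLvl_le (n : ℕ) : preLvl π i (n + 1) ≤ preLvl π i n := by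
  refine Scheme.IdealSheafData.comap_mono π ?_
  have h := (t n).le_ker_comp (i (n + 1))
  rwa [ht n] at h

theorem isQCoh_pushO : Coh.IsQCoh (pushO π) :=
  QCoh.isQCoh_pushforward π QCoh.isQCoh_structureModule

/-- A section restricted to the level `n` vanishes iff it vanishes in `i_* i^* π_* O`. -/
theorem toRed_eq_zero_iff (n : ℕ) {V : S.Opens} (hV : IsAffineOpen V) (e : Γ(W, π ⁻¹ᵁ V)) :
    (toRed (i n) (pushO π)).app V e = 0 ↔ (preLvl π i n).subschemeι.app (π ⁻¹ᵁ V) e = 0 := by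
  letI : Algebra Γ(S, V) Γ(W, π ⁻¹ᵁ V) := (π.app V).hom.toAlgebra
  let l : Γ(pushO π, V) ≃ₗ[Γ(S, V)] Γ(W, π ⁻¹ᵁ V) :=
    { toFun := fun x => x, invFun := fun x => x, left_inv := fun _ => rfl, right_inv := fun _ => rfl,
      map_add' := fun _ _ => rfl, map_smul' := fun _ _ => rfl }
  refine Iff.trans ((QCoh.unit_app_closed (i n) (isQCoh_pushO π) hV).2 e) ?_
  have hk : RingHom.ker ((preLvl π i n).subschemeι.app (π ⁻¹ᵁ V)).hom =
      ((i n).ker.ideal ⟨V, hV⟩).map (π.app V).hom := by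
    have h := ModPairLib.ideal_comap (i n).ker π ⟨V, hV⟩ ⟨π ⁻¹ᵁ V, hV.preimage π⟩ le_rfl
    rw [← Scheme.Hom.app_eq_appLE] at h
    rw [← h]
    have h2 := (preLvl π i n).subschemeι.ker_apply ⟨π ⁻¹ᵁ V, hV.preimage π⟩
    rw [Scheme.IdealSheafData.ker_subschemeι] at h2
    exact h2.symm
  have hl : ((i n).ker.ideal ⟨V, hV⟩ • (⊤ : Submodule Γ(S, V) Γ(pushO π, V))).map
      (l : Γ(pushO π, V) →ₗ[Γ(S, V)] Γ(W, π ⁻¹ᵁ V)) =
      (((i n).ker.ideal ⟨V, hV⟩).map (π.app V).hom).restrictScalars Γ(S, V) := by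
    rw [Submodule.map_smul'', Submodule.map_top, LinearEquiv.range, Ideal.smul_top_eq_map]
    rfl
  rw [← RingHom.mem_ker, hk]
  refine Iff.trans ?_ (Submodule.restrictScalars_mem Γ(S, V) _ _)
  rw [← hl, Submodule.mem_map]
  exact ⟨fun h => ⟨e, h, rfl⟩, fun ⟨x, hx, hxe⟩ => hxe ▸ hx⟩

theorem toRed_eq_iff (n : ℕ) {V : S.Opens} (hV : IsAffineOpen V) (e e' : Γ(W, π ⁻¹ᵁ V)) :
    (toRed (i n) (pushO π)).app V e = (toRed (i n) (pushO π)).app V e' ↔
      (preLvl π i n).subschemeι.app (π ⁻¹ᵁ V) e = (preLvl π i n).subschemeι.app (π ⁻¹ᵁ V) e' := by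
  rw [← sub_eq_zero, ← sub_eq_zero (a := (preLvl π i n).subschemeι.app (π ⁻¹ᵁ V) e), ← map_sub]
  exact (toRed_eq_zero_iff π n hV (e - e')).trans (by rw [map_sub])

theorem app_of_fac {P Q Y : Scheme.{u}} (f : P ⟶ Q) (g : Q ⟶ Y) {k : P ⟶ Y} (hk : f ≫ g = k) {V : Y.Opens}
    (e : Γ(Y, V)) (a : Γ(Q, ⊤)) (he : g.app V e = resR le_top a) :
    k.app V e = resR le_top (f.appTop a) := by
  subst hk
  show f.app (g ⁻¹ᵁ V) (g.app V e) = _
  rw [he]
  show (Q.presheaf.map (homOfLE le_top).op ≫ f.app (g ⁻¹ᵁ V)) a = _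
  rw [Scheme.Hom.naturality]
  rfl

theorem subschemeι_app_res (I : W.IdealSheafData) {V V' : W.Opens} (h : V' ≤ V) (e : Γ(W, V)) :
    I.subschemeι.app V' (resR h e) =
      resR (Scheme.Hom.preimage_mono I.subschemeι h) (I.subschemeι.app V e) := by
  show (W.presheaf.map (homOfLE h).op ≫ I.subschemeι.app V') e = _
  rw [Scheme.Hom.naturality]
  rfl

/-- A family of functions on the levels gives a family of sections of the reductions of `π_* O`. -/
theorem exists_redSection (n : ℕ) (ε : Γ((preLvl π i n).subscheme, ⊤)) :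
    ∃ y : Γ(red (i n) (pushO π), ⊤), ∀ (V : S.Opens), IsAffineOpen V → ∀ e : Γ(W, π ⁻¹ᵁ V),
      ((toRed (i n) (pushO π)).app V e = res (red (i n) (pushO π)) le_top y ↔
        (preLvl π i n).subschemeι.app (π ⁻¹ᵁ V) e = resR le_top ε) := by
  let j := (preLvl π i n).subschemeι
  have hs : ∀ V : S.affineOpens, ∃ e : Γ(W, π ⁻¹ᵁ V.1), j.app (π ⁻¹ᵁ V.1) e = resR le_top ε := fun V =>
    j.app_surjective _ (V.2.preimage π) _
  choose e he using hs
  obtain ⟨y, hy, -⟩ := existsUnique_glue (M := red (i n) (pushO π)) (V := ⊤) (fun V : S.affineOpens => V.1)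
    (fun _ => le_top)
    (fun p _ => by
      obtain ⟨_, ⟨V, hV, rfl⟩, hpV, -⟩ :=
        S.isBasis_affineOpens.exists_subset_of_mem_open (Set.mem_univ p) isOpen_univ
      exact ⟨⟨V, hV⟩, hpV⟩)
    (fun V => (toRed (i n) (pushO π)).app V.1 (e V)) fun V V' => eq_of_locally _ _ fun p hp => by
      obtain ⟨_, ⟨T, hT, rfl⟩, hpT, hTle⟩ :=
        S.isBasis_affineOpens.exists_subset_of_mem_open hp (V.1 ⊓ V'.1).2
      have hTle' : T ≤ V.1 ⊓ V'.1 := hTle
      refine ⟨T, hTle', hpT, ?_⟩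
      rw [res_res, res_res, ← app_res, ← app_res]
      refine (toRed_eq_iff π n hT _ _).2 ?_
      show j.app _ (resR (Scheme.Hom.preimage_mono π (hTle'.trans inf_le_left)) (e V)) =
        j.app _ (resR (Scheme.Hom.preimage_mono π (hTle'.trans inf_le_right)) (e V'))
      rw [subschemeι_app_res, subschemeι_app_res, he, he, resR_resR, resR_resR]
  refine ⟨y, fun V hV a => ?_⟩
  have := hy ⟨V, hV⟩
  rw [← he ⟨V, hV⟩]
  rw [show res (red (i n) (pushO π)) le_top y = _ from this]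
  exact toRed_eq_iff π n hV _ _

variable (h : ∀ y : ∀ n, Γ(red (i n) (pushO π), ⊤),
  (∀ n, (redTrans (t n) (ht n) (pushO π)).app ⊤ (y (n + 1)) = y n) →
    ∃! σ : Γ(pushO π, ⊤), ∀ n, (toRed (i n) (pushO π)).app ⊤ σ = y n)

include h in
/-- Functions on `W` are the compatible families of functions on the levels. -/
theorem existsUnique_function (ε : ∀ n, Γ((preLvl π i n).subscheme, ⊤))
    (hε : ∀ n, (Scheme.IdealSheafData.inclusion (preLvl_le π ht n)).appTop (ε (n + 1)) = ε n) :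
    ∃! σ : Γ(W, ⊤), ∀ n, (preLvl π i n).subschemeι.appTop σ = ε n := by
  choose y hy using fun n => exists_redSection π n (ε n)
  have hcompat : ∀ n, (redTrans (t n) (ht n) (pushO π)).app ⊤ (y (n + 1)) = y n := fun n =>
    eq_of_locally _ _ fun p _ => by
      obtain ⟨_, ⟨V, hV, rfl⟩, hpV, -⟩ :=
        S.isBasis_affineOpens.exists_subset_of_mem_open (Set.mem_univ p) isOpen_univ
      have hV' : IsAffineOpen V := hV
      obtain ⟨e, he⟩ := (preLvl π i (n + 1)).subschemeι.app_surjective _ (hV'.preimage π) (resR le_top (ε (n + 1)))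
      refine ⟨V, le_top, hpV, ?_⟩
      rw [← app_res, ← (hy (n + 1) V hV' e).2 he]
      have hn : (toRed (i n) (pushO π)).app V e = res (red (i n) (pushO π)) le_top (y n) := by
        refine (hy n V hV' e).2 ?_
        rw [← hε n]
        exact app_of_fac _ _ (Scheme.IdealSheafData.inclusion_subschemeι (preLvl_le π ht n)) e _ he
      exact (congr(($(toRed_redTrans (t n) (ht n) (pushO π))).app V e)).trans hn
  obtain ⟨σ, hσ, huniq⟩ := h y hcompat
  have key : ∀ (σ : Γ(W, ⊤)) n,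
      ((toRed (i n) (pushO π)).app ⊤ σ = y n ↔ (preLvl π i n).subschemeι.appTop σ = ε n) := fun σ n => by
    refine ⟨fun e => ?_, fun e => eq_of_locally _ _ fun p _ => ?_⟩
    · refine TopCat.Sheaf.eq_of_locally_eq' ⟨(preLvl π i n).subscheme.presheaf, (preLvl π i n).subscheme.IsSheaf⟩
        (fun V : S.affineOpens => (preLvl π i n).subschemeι ⁻¹ᵁ (π ⁻¹ᵁ V.1)) ⊤ (fun _ => homOfLE le_top)
        (fun p _ => ?_) _ _ fun V => ?_
      · obtain ⟨_, ⟨V, hV, rfl⟩, hpV, -⟩ := S.isBasis_affineOpens.exists_subset_of_mem_open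
          (Set.mem_univ (π ((preLvl π i n).subschemeι p))) isOpen_univ
        exact Opens.mem_iSup.2 ⟨⟨V, hV⟩, hpV⟩
      · show resR le_top ((preLvl π i n).subschemeι.app ⊤ σ) = resR le_top (ε n)
        rw [← (hy n V.1 V.2 (resR le_top σ)).1 (by rw [← e, ← app_res]; rfl), subschemeι_app_res]
        rfl
    · obtain ⟨_, ⟨V, hV, rfl⟩, hpV, -⟩ :=
        S.isBasis_affineOpens.exists_subset_of_mem_open (Set.mem_univ p) isOpen_univ
      refine ⟨V, le_top, hpV, ?_⟩
      rw [← app_res]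
      refine (hy n V hV (resR le_top σ)).2 ?_
      rw [subschemeι_app_res, ← e]
      rfl
  exact ⟨σ, fun n => (key σ n).1 (hσ n), fun σ' hσ' => huniq σ' fun n => (key σ' n).2 (hσ' n)⟩

end Groth.Agent.Lef73
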