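import Groth.Agent.Lef73.MapBij
import Groth.Agent.Lef73.ClopenLift
import Groth.Agent.H23.TensorDesc
import Groth.Agent.AmpleVan.Mul
import Groth.Agent.QCoh.Qcqs
import Groth.Prelude.Def_RelSpec

/-!
# An algebra structure from a compatible family of algebras
-/

set_option backward.isDefEq.respectTransparency false
set_option backward.isDefEq.respectTransparency.types false
set_option linter.unusedSectionVars false
set_option linter.style.haveILetI false

universe u

open CategoryTheory CategoryTheory.Limits AlgebraicGeometry TopologicalSpace Opposite MonoidalCategory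

noncomputable section

namespace Groth.Agent.Lef73

open Groth.Agent Groth.Agent.AModX

variable {X : Scheme.{u}}

/-- A section of a direct image as a function. -/
abbrev fn {R : Scheme.{u}} {ρ : R ⟶ X} {U : X.Opens} (a : Γ(pushO ρ, U)) : Γ(R, ρ ⁻¹ᵁ U) := a

theorem smul_pushO {R : Scheme.{u}} (ρ : R ⟶ X) {U : X.Opens} (r : Γ(X, U)) (a : Γ(pushO ρ, U)) :
    fn (r • a) = (ρ.app U).hom r * fn a := rfl

theorem res_pushO {R : Scheme.{u}} (ρ : R ⟶ X) {U V : X.Opens} (h : V ≤ U) (a : Γ(pushO ρ, U)) :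
    fn (res (pushO ρ) h a) = resR (ρ.preimage_mono h) (fn a) := rfl

theorem oTrans_mul {R R' : Scheme.{u}} {ρ : R ⟶ X} {ρ' : R' ⟶ X} (s : R ⟶ R') (h : s ≫ ρ' = ρ) (U : X.Opens)
    (a b : Γ(pushO ρ', U)) :
    (oTrans s h).app U (show Γ(pushO ρ', U) from fn a * fn b) =
      (show Γ(pushO ρ, U) from fn ((oTrans s h).app U a) * fn ((oTrans s h).app U b)) := by
  subst h
  rw [oTrans, pushforwardCongr_rfl_hom_app, Category.comp_id]
  exact map_mul (s.app (ρ' ⁻¹ᵁ U)).hom _ _

theorem oTrans_one {R R' : Scheme.{u}} {ρ : R ⟶ X} {ρ' : R' ⟶ X} (s : R ⟶ R') (h : s ≫ ρ' = ρ) (U : X.Opens) :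
    (oTrans s h).app U (show Γ(pushO ρ', U) from (1 : Γ(R', ρ' ⁻¹ᵁ U))) =
      (show Γ(pushO ρ, U) from (1 : Γ(R, ρ ⁻¹ᵁ U))) := by
  subst h
  rw [oTrans, pushforwardCongr_rfl_hom_app, Category.comp_id]
  exact map_one (s.app (ρ' ⁻¹ᵁ U)).hom

theorem tmul_add_right {M N : X.Modules} {U : X.Opens} (a : Γ(M, U)) (b b' : Γ(N, U)) :
    InvX.tmul a (b + b') = InvX.tmul a b + InvX.tmul a b' :=
  tmul_add_right' a b b'

/-- Morphisms out of an iterated tensor product agree if they agree on pure tensors. -/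
theorem hom_ext_tmul₂ {M N P T : X.Modules} {φ ψ : (AmpleVan.tw P).obj (CohB1.tensorMod M N) ⟶ T}
    (h : ∀ (U : X.Opens) (a : Γ(M, U)) (b : Γ(N, U)) (c : Γ(P, U)),
      φ.app U (InvX.tmul (InvX.tmul a b) c) = ψ.app U (InvX.tmul (InvX.tmul a b) c)) : φ = ψ := by
  refine AmpleVan.hom_ext_tmul fun U x c => ?_
  let A := DCoh.toP.obj M
  let B := DCoh.toP.obj N
  let C := DCoh.toP.obj P
  let u := KFlatLib.unitShP (A ⊗ B)
  haveI := KFlatLib.isIso_shP_map_unit_whiskerRight (A ⊗ B) C
  have e : DCoh.shP.map (u ▷ C) ≫ φ = DCoh.shP.map (u ▷ C) ≫ ψ := by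
    let Q := (A ⊗ B) ⊗ C
    refine ((PresheafOfModules.sheafificationAdjunction (𝟙 X.ringCatSheaf.obj)).homEquiv Q T).injective ?_
    rw [Adjunction.homEquiv_unit, Adjunction.homEquiv_unit]
    ext V z
    induction z using KFlatLib.tm_induction with
    | h0 => simp
    | hadd a b ha hb => rw [map_add, map_add, ha, hb]
    | htm m d =>
      have hu : ∀ (χ : (AmpleVan.tw P).obj (CohB1.tensorMod M N) ⟶ T) (m : (A ⊗ B).obj V),
          (DCoh.shP.map (u ▷ C) ≫ χ).app V.unop
              ((KFlatLib.unitShP ((A ⊗ B) ⊗ C)).app V (KFlatLib.tm (P := A ⊗ B) m d)) =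
            χ.app V.unop (InvX.tmul (show Γ(CohB1.tensorMod M N, V.unop) from u.app V m) d) := fun χ m => by
        show χ.app V.unop ((DCoh.shP.map (u ▷ C)).app V.unop _) = _
        congr 1
        exact congr(($(KFlatLib.unitShP_naturality (u ▷ C))).app V (KFlatLib.tm (P := A ⊗ B) m d)).symm
      show (DCoh.shP.map (u ▷ C) ≫ φ).app V.unop _ = (DCoh.shP.map (u ▷ C) ≫ ψ).app V.unop _
      refine (hu φ m).trans (Eq.trans ?_ (hu ψ m).symm)
      induction m using KFlatLib.tm_induction with
      | h0 => rw [map_zero, AmpleVan.tmul_zero_left, map_zero, map_zero]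
      | hadd a b ha hb => rw [map_add, AmpleVan.tmul_add_left, map_add, map_add, ha, hb]
      | htm a b => exact h V.unop a b d
  rw [cancel_epi] at e
  rw [e]

variable {R : ℕ → Scheme.{u}} {ρ : ∀ n, R n ⟶ X} {s : ∀ n, R n ⟶ R (n + 1)}
  (hs : ∀ n, s n ≫ ρ (n + 1) = ρ n) {A : X.Modules}

/-- A compatible family of maps to the direct images, universal for locally free sources. -/
structure AlgData (q : ∀ n, A ⟶ pushO (ρ n)) : Prop where
  locFree : FlatMod.IsFinLocFree A
  compat : ∀ n, q (n + 1) ≫ oTrans (s n) (hs n) = q n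
  lift : ∀ F : X.Modules, FlatMod.IsFinLocFree F → ∀ w : ∀ n, F ⟶ pushO (ρ n),
    (∀ n, w (n + 1) ≫ oTrans (s n) (hs n) = w n) → ∃! φ : F ⟶ A, ∀ n, φ ≫ q n = w n

variable {hs} {q : ∀ n, A ⟶ pushO (ρ n)}

theorem q_app_res (φ : ∀ n, A ⟶ pushO (ρ n)) (n : ℕ) {U V : X.Opens} (h : V ≤ U) (a : Γ(A, U)) :
    fn ((φ n).app V (res A h a)) = resR ((ρ n).preimage_mono h) (fn ((φ n).app U a)) := by
  rw [app_res]; rfl

theorem oTrans_q (D : AlgData hs q) (n : ℕ) (U : X.Opens) (a : Γ(A, U)) :
    (oTrans (s n) (hs n)).app U ((q (n + 1)).app U a) = (q n).app U a :=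
  congr(($(D.compat n)).app U a)

/-- The product of the two projections, levelwise. -/
def bil (q : ∀ n, A ⟶ pushO (ρ n)) (n : ℕ) : H23.TensorDesc.Bilin A A (pushO (ρ n)) where
  b U a b := show Γ(pushO (ρ n), U) from fn ((q n).app U a) * fn ((q n).app U b)
  add_left U a a' b := by
    show fn ((q n).app U (a + a')) * _ = fn ((q n).app U a) * _ + fn ((q n).app U a') * _
    rw [map_add]; exact add_mul _ _ _
  smul_left U r a b := by
    show fn ((q n).app U (r • a)) * _ = ((ρ n).app U).hom r * (fn ((q n).app U a) * _)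
    rw [Scheme.Modules.Hom.app_smul, smul_pushO, mul_assoc]
  add_right U a b b' := by
    show _ * fn ((q n).app U (b + b')) = _ * fn ((q n).app U b) + _ * fn ((q n).app U b')
    rw [map_add]; exact mul_add _ _ _
  smul_right U r a b := by
    show _ * fn ((q n).app U (r • b)) = ((ρ n).app U).hom r * (_ * fn ((q n).app U b))
    rw [Scheme.Modules.Hom.app_smul, smul_pushO, mul_left_comm]
  res {U V} h a b := by
    show resR ((ρ n).preimage_mono h) (fn ((q n).app U a) * fn ((q n).app U b)) =
      fn ((q n).app V (res A h a)) * fn ((q n).app V (res A h b))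
    rw [map_mul, q_app_res, q_app_res]

namespace AlgData

variable (D : AlgData hs q)

include D in
theorem isFinLocFree_tensor : FlatMod.IsFinLocFree (CohB1.tensorMod A A) :=
  KFlatLib.isFinLocFree_tensor D.locFree D.locFree

include D in
theorem exists_mul : ∃! m : CohB1.tensorMod A A ⟶ A, ∀ n, m ≫ q n = H23.TensorDesc.desc (bil q n) :=
  D.lift _ D.isFinLocFree_tensor _ fun n => AmpleVan.hom_ext_tmul fun U a b => by
    show (oTrans (s n) (hs n)).app U ((H23.TensorDesc.desc (bil q (n + 1))).app U (InvX.tmul a b)) =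
      (H23.TensorDesc.desc (bil q n)).app U (InvX.tmul a b)
    rw [show (H23.TensorDesc.desc (bil q (n + 1))).app U (InvX.tmul a b) = (bil q (n + 1)).b U a b from
        H23.TensorDesc.desc_tmul _ _ _ _,
      show (H23.TensorDesc.desc (bil q n)).app U (InvX.tmul a b) = (bil q n).b U a b from
        H23.TensorDesc.desc_tmul _ _ _ _]
    refine (oTrans_mul (s n) (hs n) U _ _).trans ?_
    rw [oTrans_q D, oTrans_q D]
    rfl

/-- The multiplication. -/
def m : CohB1.tensorMod A A ⟶ A := D.exists_mul.choose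

/-- The product of two local sections. -/
def mul {U : X.Opens} (a b : Γ(A, U)) : Γ(A, U) := D.m.app U (InvX.tmul a b)

theorem q_mul (n : ℕ) {U : X.Opens} (a b : Γ(A, U)) :
    fn ((q n).app U (D.mul a b)) = fn ((q n).app U a) * fn ((q n).app U b) :=
  (congr(($(D.exists_mul.choose_spec.1 n)).app U (InvX.tmul a b))).trans (H23.TensorDesc.desc_tmul _ _ _ _)

include D in
theorem exists_one : ∃! σ : Coh.structureModule X ⟶ A, ∀ n, σ ≫ q n = ClSub.unitToPush (ρ n) :=
  D.lift _ isFinLocFree_structureModule _ fun n => toSub_oTrans (s n) (hs n)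

/-- The unit section. -/
def one (U : X.Opens) : Γ(A, U) := D.exists_one.choose.app U (1 : Γ(X, U))

theorem q_one (n : ℕ) (U : X.Opens) : fn ((q n).app U (D.one U)) = 1 :=
  (congr(($(D.exists_one.choose_spec.1 n)).app U (1 : Γ(X, U)))).trans (map_one ((ρ n).app U).hom)

theorem res_mul {U V : X.Opens} (h : V ≤ U) (a b : Γ(A, U)) :
    res A h (D.mul a b) = D.mul (res A h a) (res A h b) := by
  rw [mul, ← app_res, InvX.res_tmul]; rfl

theorem res_one {U V : X.Opens} (h : V ≤ U) : res A h (D.one U) = D.one V := by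
  rw [one, ← app_res]
  exact congrArg _ (map_one (resR h))

theorem add_mul {U : X.Opens} (a a' b : Γ(A, U)) : D.mul (a + a') b = D.mul a b + D.mul a' b := by
  rw [mul, AmpleVan.tmul_add_left, map_add]; rfl

theorem mul_add {U : X.Opens} (a b b' : Γ(A, U)) : D.mul a (b + b') = D.mul a b + D.mul a b' := by
  rw [mul, tmul_add_right, map_add]; rfl

theorem smul_mul {U : X.Opens} (r : Γ(X, U)) (a b : Γ(A, U)) : D.mul (r • a) b = r • D.mul a b := by
  rw [mul, InvX.tmul_smul_left, Scheme.Modules.Hom.app_smul]; rfl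

/-- The braiding composed with the multiplication. -/
def bilSwap : H23.TensorDesc.Bilin A A A where
  b _ a b := D.mul b a
  add_left _ a a' b := D.mul_add b a a'
  smul_left _ r a b := by rw [mul, InvX.tmul_smul_right, Scheme.Modules.Hom.app_smul]; rfl
  add_right _ a b b' := D.add_mul b b' a
  smul_right _ r a b := D.smul_mul r b a
  res h a b := D.res_mul h b a

theorem mul_comm {U : X.Opens} (a b : Γ(A, U)) : D.mul a b = D.mul b a := by
  have h : H23.TensorDesc.desc D.bilSwap = D.m :=
    D.exists_mul.unique (fun n => AmpleVan.hom_ext_tmul fun V a b => by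
      show (q n).app V ((H23.TensorDesc.desc D.bilSwap).app V (InvX.tmul a b)) =
        (H23.TensorDesc.desc (bil q n)).app V (InvX.tmul a b)
      rw [show (H23.TensorDesc.desc D.bilSwap).app V (InvX.tmul a b) = D.mul b a from
          H23.TensorDesc.desc_tmul _ _ _ _,
        show (H23.TensorDesc.desc (bil q n)).app V (InvX.tmul a b) = (bil q n).b V a b from
          H23.TensorDesc.desc_tmul _ _ _ _]
      exact (D.q_mul n b a).trans (_root_.mul_comm _ _)) D.exists_mul.choose_spec.1
  exact (congr(($h).app U (InvX.tmul a b))).symm.trans (H23.TensorDesc.desc_tmul _ _ _ _)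

/-- `a ⊗ x ↦ a · m(x)`. -/
def bilRight : H23.TensorDesc.Bilin A (CohB1.tensorMod A A) A where
  b U a x := D.mul a (D.m.app U x)
  add_left _ a a' x := D.add_mul a a' _
  smul_left _ r a x := D.smul_mul r a _
  add_right _ a x x' := by rw [map_add]; exact D.mul_add a _ _
  smul_right _ r a x := by
    rw [Scheme.Modules.Hom.app_smul, mul, InvX.tmul_smul_right, Scheme.Modules.Hom.app_smul]; rfl
  res h a x := by
    show res A h (D.mul a (D.m.app _ x)) = D.mul (res A h a) (D.m.app _ (res _ h x))
    rw [D.res_mul, app_res]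

set_option maxHeartbeats 800000 in
theorem mul_assoc {U : X.Opens} (a b c : Γ(A, U)) : D.mul (D.mul a b) c = D.mul a (D.mul b c) := by
  let φ₁ : (AmpleVan.tw A).obj (CohB1.tensorMod A A) ⟶ A := (AmpleVan.tw A).map D.m ≫ D.m
  let φ₂ : (AmpleVan.tw A).obj (CohB1.tensorMod A A) ⟶ A :=
    (AmpleVan.assocT A A A).hom ≫ H23.TensorDesc.desc D.bilRight
  have h₁ : ∀ {V : X.Opens} (a b c : Γ(A, V)),
      φ₁.app V (InvX.tmul (InvX.tmul a b) c) = D.mul (D.mul a b) c := fun a b c =>
    congrArg _ (AmpleVan.map_tmul_left D.m (InvX.tmul a b) c)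
  have h₂ : ∀ {V : X.Opens} (a b c : Γ(A, V)),
      φ₂.app V (InvX.tmul (InvX.tmul a b) c) = D.mul a (D.mul b c) := fun a b c =>
    (congrArg _ (AmpleVan.assoc_tmul a b c)).trans (H23.TensorDesc.desc_tmul _ _ _ _)
  have hq : ∀ n, φ₁ ≫ q n = φ₂ ≫ q n := fun n => hom_ext_tmul₂ fun V a b c => by
    show fn ((q n).app V (φ₁.app V _)) = fn ((q n).app V (φ₂.app V _))
    rw [h₁, h₂, D.q_mul, D.q_mul, D.q_mul, D.q_mul, _root_.mul_assoc]
  have hT : FlatMod.IsFinLocFree ((AmpleVan.tw A).obj (CohB1.tensorMod A A)) :=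
    KFlatLib.isFinLocFree_tensor D.isFinLocFree_tensor D.locFree
  have e : φ₁ = φ₂ :=
    (D.lift _ hT (fun n => φ₂ ≫ q n) fun n => by rw [Category.assoc, D.compat n]).unique hq fun n => rfl
  rw [← h₁, ← h₂, e]

/-- `a ↦ 1 · a`. -/
def oneMul : A ⟶ A :=
  ⟨PresheafOfModules.homMk
    { app := fun U => AddCommGrpCat.ofHom (AddMonoidHom.mk' (fun a : Γ(A, U.unop) => D.mul (D.one U.unop) a)
        fun a b => D.mul_add _ a b)
      naturality := fun U V i => by
        ext a
        show D.mul (D.one V.unop) (res A i.unop.le a) = res A i.unop.le (D.mul (D.one U.unop) a)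
        rw [D.res_mul, D.res_one] }
    (fun U r a => by
      show D.mul (D.one U.unop) ((show Γ(X, U.unop) from r) • (show Γ(A, U.unop) from a)) =
        (show Γ(X, U.unop) from r) • D.mul (D.one U.unop) a
      rw [mul, InvX.tmul_smul_right, Scheme.Modules.Hom.app_smul]; rfl)⟩

theorem one_mul {U : X.Opens} (a : Γ(A, U)) : D.mul (D.one U) a = a := by
  have e : D.oneMul = 𝟙 A :=
    (D.lift A D.locFree q D.compat).unique (fun n => QCoh.hom_ext_app fun V x => by
      show fn ((q n).app V (D.mul (D.one V) x)) = fn ((q n).app V x)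
      rw [D.q_mul, D.q_one, _root_.one_mul]) fun n => Category.id_comp _
  exact congr(($e).app U a)

theorem zero_mul' {U : X.Opens} (a : Γ(A, U)) : D.mul 0 a = 0 := by
  have h := D.add_mul 0 0 a
  rw [add_zero] at h
  exact left_eq_add.1 h

/-- The ring structure on sections. -/
@[reducible] def commRing (U : X.Opens) : CommRing Γ(A, U) :=
  { (inferInstance : AddCommGroup Γ(A, U)) with
    mul := fun a b => D.mul a b
    one := D.one U
    mul_assoc := D.mul_assoc
    one_mul := D.one_mul
    mul_one := fun a => (D.mul_comm a _).trans (D.one_mul a)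
    left_distrib := D.mul_add
    right_distrib := D.add_mul
    zero_mul := D.zero_mul'
    mul_zero := fun a => (D.mul_comm a 0).trans (D.zero_mul' a)
    mul_comm := D.mul_comm }

/-- The sections with the ring structure. -/
def Sec (_D : AlgData hs q) (U : X.Opens) : Type u := Γ(A, U)

instance instCommRingSec (U : X.Opens) : CommRing (D.Sec U) := D.commRing U

/-- Restriction as a ring homomorphism. -/
def resHom {U V : X.Opens} (h : V ≤ U) : D.Sec U →+* D.Sec V where
  toFun a := res A h a
  map_zero' := map_zero (res A h)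
  map_add' a b := map_add (res A h) a b
  map_one' := D.res_one h
  map_mul' a b := D.res_mul h a b

/-- The presheaf of rings. -/
def ringPresheaf : TopCat.Presheaf CommRingCat.{u} X.carrier where
  obj U := CommRingCat.of (D.Sec U.unop)
  map {U V} i := CommRingCat.ofHom (D.resHom i.unop.le)
  map_id U := by
    ext a
    exact res_self (M := A) a
  map_comp {U V W} i j := by
    ext a
    exact (res_res (M := A) i.unop.le j.unop.le a).symm

theorem isSheaf_ringPresheaf : D.ringPresheaf.IsSheaf :=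
  (TopCat.Presheaf.isSheaf_iff_isSheaf_comp (forget CommRingCat) _).mpr
    (TopCat.Presheaf.isSheaf_of_iso
      (show A.presheaf ⋙ forget AddCommGrpCat ≅ D.ringPresheaf ⋙ forget CommRingCat from
        NatIso.ofComponents (fun _ => Iso.refl _) (fun f => by ext a; rfl))
      ((TopCat.Presheaf.isSheaf_iff_isSheaf_comp (forget AddCommGrpCat) _).mp A.isSheaf))

/-- The structure map on sections. -/
def strHom (U : X.Opens) : Γ(X, U) →+* D.Sec U where
  toFun r := (show Γ(A, U) from r • D.one U)
  map_zero' := show (0 : Γ(X, U)) • D.one U = (0 : Γ(A, U)) from zero_smul Γ(X, U) (D.one U)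
  map_add' r r' := show (r + r') • D.one U = r • D.one U + r' • D.one U from add_smul r r' (D.one U)
  map_one' := show (1 : Γ(X, U)) • D.one U = D.one U from one_smul Γ(X, U) (D.one U)
  map_mul' r r' := by
    show (r * r') • D.one U = D.mul (r • D.one U) (r' • D.one U)
    rw [D.smul_mul, D.one_mul, mul_smul]

/-- The structure map. -/
def str : X.presheaf ⟶ D.ringPresheaf where
  app U := CommRingCat.ofHom (D.strHom U.unop)
  naturality {U V} i := by
    ext r
    show resR i.unop.le (show Γ(X, U.unop) from r) • D.one V.unop =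
      res A i.unop.le ((show Γ(X, U.unop) from r) • D.one U.unop)
    rw [res_smul, D.res_one]

theorem strHom_mul {U : X.Opens} (r : Γ(X, U)) (a : D.Sec U) :
    D.strHom U r * a = (show Γ(A, U) from r • (show Γ(A, U) from a)) := by
  show D.mul (r • D.one U) a = r • (show Γ(A, U) from a)
  rw [D.smul_mul, D.one_mul]

theorem isQC : RelSpec.IsQC D.ringPresheaf D.str := by
  intro U hU r
  have hA : Coh.IsQCoh A := QCoh.isQCoh_of_isFinLocFree D.locFree
  set V := X.basicOpen r
  let ρ := D.resHom (X.basicOpen_le r)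
  letI := (D.ringPresheaf.map (homOfLE (X.basicOpen_le r)).op).hom.toAlgebra
  have hnat : ρ (D.strHom U r) = D.strHom V (resR (X.basicOpen_le r) r) := by
    show res A _ (r • D.one U) = _
    rw [res_smul, D.res_one]
    rfl
  refine (isLocalization_iff _ _).mpr ⟨fun ⟨_, n, rfl⟩ => ?_, fun z => ?_, fun {x y} hxy => ?_⟩
  · show IsUnit (ρ (D.strHom U r ^ n))
    rw [map_pow, hnat]
    exact (((isUnit_resR (X.basicOpen_le r) r le_rfl)).map (D.strHom V)).pow n
  · obtain ⟨n, t, ht⟩ := QCoh.exists_pow_smul_eq_map hA hU r (show Γ(A, V) from z)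
    refine ⟨(t, ⟨_, n, rfl⟩), ?_⟩
    show (show D.Sec V from z) * ρ (D.strHom U r ^ n) = ρ t
    rw [map_pow, hnat, ← map_pow, _root_.mul_comm, strHom_mul]
    exact ht.symm
  · have h0 : res A (X.basicOpen_le r) (show Γ(A, U) from (show D.Sec U from x) - (show D.Sec U from y)) = 0 := by
      show ρ ((show D.Sec U from x) - (show D.Sec U from y)) = 0
      rw [map_sub]
      exact sub_eq_zero.mpr hxy
    obtain ⟨n, hn⟩ := QCoh.exists_pow_smul_eq_zero hA hU r _ h0
    refine ⟨⟨_, n, rfl⟩, ?_⟩
    show D.strHom U r ^ n * (show D.Sec U from x) = D.strHom U r ^ n * (show D.Sec U from y)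
    rw [← sub_eq_zero, ← _root_.mul_sub, ← map_pow, strHom_mul]
    exact hn

/-- The quasi-coherent algebra. -/
def qcAlg : RelSpec.QCAlg X where
  presheaf := D.ringPresheaf
  isSheaf := D.isSheaf_ringPresheaf
  str := D.str
  isQC := D.isQC

theorem q_str (n : ℕ) (U : X.Opens) (r : Γ(X, U)) :
    fn ((q n).app U (r • D.one U)) = ((ρ n).app U).hom r := by
  rw [Scheme.Modules.Hom.app_smul, smul_pushO, D.q_one, _root_.mul_one]

end AlgData

end Groth.Agent.Lef73
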