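import Groth.Agent.Lef73.ClopenFF
import Mathlib.AlgebraicGeometry.Morphisms.FlatRank

/-!
# Étaleness propagates from the closed fibre
-/

set_option backward.isDefEq.respectTransparency false
set_option backward.isDefEq.respectTransparency.types false
set_option linter.unusedSectionVars false
set_option linter.style.haveILetI false

universe u

open CategoryTheory CategoryTheory.Limits AlgebraicGeometry TopologicalSpace Opposite

noncomputable section

namespace Groth.Agent.Lef73

open Groth.Agent

variable {S W Y : Scheme.{u}}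
  {Z : ℕ → Scheme.{u}} {i : ∀ n, Z n ⟶ S} [∀ n, IsClosedImmersion (i n)]
  {t : ∀ n, Z n ⟶ Z (n + 1)} (ht : ∀ n, t n ≫ i (n + 1) = i n)

theorem isFinLocFree_pushO {π : W ⟶ S} [IsFinite π] [Flat π] [LocallyOfFinitePresentation π] :
    FlatMod.IsFinLocFree (pushO π) :=
  ((S9716.result π).2 ⟨inferInstance, inferInstance, inferInstance⟩).2

/-- A finite locally free morphism which is étale over the closed subscheme is étale. -/
theorem etale_of_closed_fibre (hS : SectionBij ht) (c₀ : Y ⟶ S) [IsClosedImmersion c₀]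
    (hr : ∀ n, Set.range (i n).base = Set.range c₀.base) (π : W ⟶ S) [IsFinite π] [Flat π]
    [LocallyOfFinitePresentation π] (hét : Etale (pullback.snd π c₀)) : Etale π := by
  let pr₁ := pullback.fst π π
  let π₂ : pullback π π ⟶ S := pr₁ ≫ π
  haveI : IsFinite π₂ := inferInstanceAs (IsFinite (pullback.fst π π ≫ π))
  haveI : Flat π₂ := inferInstanceAs (Flat (pullback.fst π π ≫ π))
  haveI : LocallyOfFinitePresentation π₂ :=
    inferInstanceAs (LocallyOfFinitePresentation (pullback.fst π π ≫ π))
  let j := pullback.fst π c₀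
  let rY := pullback.snd π c₀
  let c := pullback.fst π₂ c₀
  let q := pullback.snd π₂ c₀
  haveI : IsClosedImmersion c := inferInstanceAs (IsClosedImmersion (pullback.fst π₂ c₀))
  have hrY : FEt.prop rY := ⟨inferInstanceAs (IsFinite (pullback.snd π c₀)), hét⟩
  let a₁ : pullback π₂ c₀ ⟶ pullback π c₀ := pullback.lift (c ≫ pr₁) q (by
    rw [Category.assoc]; exact pullback.condition)
  let a₂ : pullback π₂ c₀ ⟶ pullback π c₀ := pullback.lift (c ≫ pullback.snd π π) q (by
    rw [Category.assoc, ← pullback.condition (f := π) (g := π)]; exact pullback.condition)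
  have ha₁j : a₁ ≫ j = c ≫ pr₁ := pullback.lift_fst _ _ _
  have ha₁q : a₁ ≫ rY = q := pullback.lift_snd _ _ _
  have h1 : IsPullback c a₁ pr₁ j :=
    IsPullback.of_bot (by rw [ha₁q]; exact IsPullback.of_hasPullback π₂ c₀) ha₁j.symm
      (IsPullback.of_hasPullback π c₀)
  have hFa₁ : FEt.prop a₁ := by
    have h2 : IsPullback (c ≫ pullback.snd π π) a₁ π (j ≫ π) :=
      h1.paste_horiz (IsPullback.of_hasPullback π π).flip
    have h2' : IsPullback (a₂ ≫ j) a₁ π (rY ≫ c₀) := by
      rw [show a₂ ≫ j = c ≫ pullback.snd π π from pullback.lift_fst _ _ _,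
        show rY ≫ c₀ = j ≫ π from pullback.condition.symm]
      exact h2
    exact MorphismProperty.of_isPullback
      (IsPullback.of_right h2' ((pullback.lift_snd _ _ _).trans ha₁q.symm)
        (IsPullback.of_hasPullback π c₀)) hrY
  have hq : FEt.prop q := ha₁q ▸ MorphismProperty.comp_mem _ _ _ hFa₁ hrY
  let Δ' : pullback π c₀ ⟶ pullback π₂ c₀ := pullback.lift (j ≫ pullback.diagonal π) rY (by
    show (j ≫ pullback.diagonal π) ≫ pr₁ ≫ π = _
    rw [Category.assoc, pullback.diagonal_fst_assoc]
    exact pullback.condition)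
  have hΔ' : FEt.prop Δ' := Pi1X.prop_of_comp Δ' q hq (by rw [pullback.lift_snd]; exact hrY)
  obtain ⟨G, hG, hGC⟩ := exists_isClopen_of_closed π₂ ht (hS _ isFinLocFree_pushO) c
    (fun n => by rw [hr n, Scheme.Pullback.range_fst]) _ (Pi1X.isClopen_range hΔ')
  have hΔc : j ≫ pullback.diagonal π = Δ' ≫ c := (pullback.lift_fst _ _ _).symm
  -- the diagonal lands in `G`
  have hsub : Set.range (pullback.diagonal π).base ⊆ G := by
    by_contra hcon
    obtain ⟨_, ⟨w, rfl⟩, hw⟩ := Set.not_subset.1 hcon
    obtain ⟨n, v, hv, hv'⟩ := clopen_inter_nonempty π ht (hS _ isFinLocFree_pushO) _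
      (hG.preimage (pullback.diagonal π).continuous).compl ⟨w, hw⟩
    have hvj : v ∈ Set.range j.base := by rw [Scheme.Pullback.range_fst, ← hr n]; exact hv'
    obtain ⟨r, rfl⟩ := hvj
    apply hv
    show (j ≫ pullback.diagonal π) r ∈ G
    rw [hΔc]
    exact Set.ext_iff.1 hGC (Δ' r) |>.2 ⟨r, rfl⟩
  let GO : (pullback π π).Opens := ⟨G, hG.2⟩
  haveI : IsClosedImmersion GO.ι :=
    IsClosedImmersion.of_isPreimmersion GO.ι (by rw [Scheme.Opens.range_ι]; exact hG.1)
  let p : (GO : Scheme.{u}) ⟶ W := GO.ι ≫ pr₁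
  haveI : IsFinite p := inferInstanceAs (IsFinite (GO.ι ≫ pullback.fst π π))
  haveI : Flat p := inferInstanceAs (Flat (GO.ι ≫ pullback.fst π π))
  haveI : LocallyOfFinitePresentation p :=
    inferInstanceAs (LocallyOfFinitePresentation (GO.ι ≫ pullback.fst π π))
  let σ : W ⟶ GO := IsOpenImmersion.lift GO.ι (pullback.diagonal π) (by rwa [Scheme.Opens.range_ι])
  have hσ : σ ≫ GO.ι = pullback.diagonal π := IsOpenImmersion.lift_fac _ _ _
  have hσp : σ ≫ p = 𝟙 W := by rw [← Category.assoc, hσ]; exact pullback.diagonal_fst π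
  -- over the closed fibre `p` is an isomorphism
  have hiso : IsIso (pullback.snd p j) := by
    let s : pullback π c₀ ⟶ pullback p j :=
      pullback.lift (j ≫ σ) (𝟙 _) (by rw [Category.assoc, hσp, Category.comp_id, Category.id_comp])
    have hs : s ≫ pullback.snd p j = 𝟙 _ := pullback.lift_snd _ _ _
    haveI : IsClosedImmersion (pullback.fst p j) := inferInstance
    have hsurj : Function.Surjective s.base := fun z => by
      have hzG : GO.ι ((pullback.fst p j) z) ∈ G := ((pullback.fst p j) z).2
      have hzf : GO.ι ((pullback.fst p j) z) ∈ Set.range c.base := by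
        rw [Scheme.Pullback.range_fst]
        show (pr₁ ≫ π) (GO.ι ((pullback.fst p j) z)) ∈ Set.range c₀.base
        have : (pullback.fst p j ≫ p ≫ π) z = (pullback.snd p j ≫ rY ≫ c₀) z := by
          rw [pullback.condition_assoc, pullback.condition]
        exact ⟨_, this.symm⟩
      obtain ⟨x, hx⟩ := hzf
      have hxC : x ∈ c.base ⁻¹' G := by
        show c x ∈ G
        rw [hx]; exact hzG
      rw [hGC] at hxC
      obtain ⟨r, rfl⟩ := hxC
      refine ⟨r, (pullback.fst p j).isClosedEmbedding.injective (GO.ι.injective ?_)⟩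
      rw [← hx, ← Scheme.Hom.comp_apply, ← Scheme.Hom.comp_apply, ← Scheme.Hom.comp_apply, ← hΔc]
      congr 2
      rw [← Category.assoc, pullback.lift_fst, Category.assoc, hσ]
    haveI : IsOpenImmersion GO.ι := inferInstance
    have hps : FEt.prop (pullback.snd p j) := by
      let b : pullback p j ⟶ pullback π₂ c₀ :=
        pullback.lift (pullback.fst p j ≫ GO.ι) (pullback.snd p j ≫ rY) (by
          show (pullback.fst p j ≫ GO.ι) ≫ pr₁ ≫ π = (pullback.snd p j ≫ rY) ≫ c₀
          rw [Category.assoc, Category.assoc, ← pullback.condition (f := π) (g := c₀)]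
          exact pullback.condition_assoc π)
      have hb1 : b ≫ c = pullback.fst p j ≫ GO.ι := pullback.lift_fst _ _ _
      have hba : b ≫ a₁ = pullback.snd p j := by
        refine pullback.hom_ext ?_ ?_
        · rw [Category.assoc, ha₁j, reassoc_of% hb1]
          exact pullback.condition
        · rw [Category.assoc, ha₁q]
          exact pullback.lift_snd _ _ _
      have hb : IsPullback (pullback.fst p j) b GO.ι c :=
        IsPullback.of_bot (by rw [hba]; exact IsPullback.of_hasPullback p j) hb1.symm h1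
      rw [← hba]
      exact MorphismProperty.comp_mem _ _ _
        (MorphismProperty.of_isPullback hb (Pi1X.prop_ι_of_isClopen GO hG.1)) hFa₁
    have hs' : FEt.prop s := Pi1X.prop_of_comp s _ hps (by rw [hs]; exact MorphismProperty.id_mem _ _)
    haveI := hs'.2
    haveI : Mono s := mono_of_mono_fac hs
    haveI : Surjective s := ⟨hsurj⟩
    haveI : IsOpenImmersion s := IsOpenImmersion.of_flat_of_mono s
    haveI : IsIso s := (isIso_iff_isOpenImmersion_and_surjective _).2 ⟨inferInstance, inferInstance⟩
    exact IsIso.of_isIso_fac_left hs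
  have hrank : p.finrank = 1 := by
    by_contra hne
    obtain ⟨w, hw⟩ := Function.ne_iff.1 hne
    obtain ⟨n, v, hv, hv'⟩ := clopen_inter_nonempty π ht (hS _ isFinLocFree_pushO) (p.finrank ⁻¹' {1}ᶜ)
      (p.isLocallyConstant_finrank.isClopen_fiber 1).compl ⟨w, hw⟩
    obtain ⟨r, rfl⟩ : v ∈ Set.range j.base := by rw [Scheme.Pullback.range_fst, ← hr n]; exact hv'
    apply hv
    show p.finrank (j r) = 1
    rw [← Scheme.Hom.finrank_pullback_snd p j r, Scheme.Hom.finrank_eq_one_of_isIso]
    rfl
  haveI : IsIso p := (Scheme.Hom.isIso_iff_finrank_eq p).2 hrank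
  haveI : IsIso σ := IsIso.of_isIso_fac_right hσp
  haveI : IsOpenImmersion (pullback.diagonal π) := by rw [← hσ]; infer_instance
  exact Etale.of_formallyUnramified_of_flat π

end Groth.Agent.Lef73
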