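import Groth.Agent.Lef73.AlgLift
import Groth.Agent.Lef73.EtaleLift
import Groth.Agent.RelSpecX.AffHom
import Groth.Agent.RelSpecX.Gamma
import Groth.Agent.ConsPropLib.FibreLocFree

/-!
# The finite étale cover attached to a lifted algebra
-/

set_option backward.isDefEq.respectTransparency false
set_option backward.isDefEq.respectTransparency.types false
set_option linter.unusedSectionVars false
set_option linter.style.haveILetI false

universe u

open CategoryTheory CategoryTheory.Limits AlgebraicGeometry TopologicalSpace Opposite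

noncomputable section

namespace Groth.Agent.Lef73

open Groth.Agent Groth.Agent.AModX

variable {X : Scheme.{u}} {R : ℕ → Scheme.{u}} {ρ : ∀ n, R n ⟶ X} {s : ∀ n, R n ⟶ R (n + 1)}
  {hs : ∀ n, s n ≫ ρ (n + 1) = ρ n} {A : X.Modules} {q : ∀ n, A ⟶ pushO (ρ n)}

theorem appLE_eq_zero_iff {P Q : Scheme.{u}} (f : P ⟶ Q) {U : Q.Opens} {V : P.Opens} (h : V ≤ f ⁻¹ᵁ U)
    (hV : V = f ⁻¹ᵁ U) (a : Γ(Q, U)) : (f.appLE U V h).hom a = 0 ↔ (f.app U).hom a = 0 := by
  subst hV
  rw [Scheme.Hom.app_eq_appLE]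

namespace AlgData

variable (D : AlgData hs q)

theorem gammaMap_str (U : X.Opens) (r : Γ(X, U)) :
    (D.qcAlg.gammaMap.app (op U)).hom ((D.qcAlg.π.app U).hom r) = D.strHom U r :=
  congr(($(NatTrans.congr_app D.qcAlg.π_c_gammaMap (op U))).hom r)

/-- The direct image of the relative spectrum is `A`. -/
def gammaMod : pushO D.qcAlg.π ⟶ A :=
  ⟨PresheafOfModules.homMk
    { app := fun U => AddCommGrpCat.ofHom (AddMonoidHom.mk'
        (fun a : Γ(pushO D.qcAlg.π, U.unop) =>
          (show Γ(A, U.unop) from (D.qcAlg.gammaMap.app U).hom (fn a)))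
        fun a b => map_add (D.qcAlg.gammaMap.app U).hom a b)
      naturality := fun U V i => by
        ext a
        exact congr(($(D.qcAlg.gammaMap.naturality i)).hom a) }
    (fun U r a => by
      show (D.qcAlg.gammaMap.app U).hom ((D.qcAlg.π.app U.unop).hom r * fn a) =
        (show Γ(X, U.unop) from r) • (show Γ(A, U.unop) from (D.qcAlg.gammaMap.app U).hom (fn a))
      rw [map_mul]
      refine Eq.trans ?_ (D.strHom_mul _ _)
      exact congrArg (· * _) (D.gammaMap_str U.unop r))⟩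

theorem gammaMod_bijective (U : X.Opens) : Function.Bijective (D.gammaMod.app U) :=
  ConcreteCategory.bijective_of_isIso ((asIso D.qcAlg.gammaMap).app (op U)).hom

instance : IsIso D.gammaMod :=
  QCoh.isIso_of_isBasis _ X.isBasis_affineOpens fun U _ => D.gammaMod_bijective U

include D in
theorem finite_flat_π :
    IsFinite D.qcAlg.π ∧ Flat D.qcAlg.π ∧ LocallyOfFinitePresentation D.qcAlg.π :=
  (S9716.result D.qcAlg.π).1
    ⟨inferInstance, (ConsPropLib.isFinLocFree_iso (asIso D.gammaMod)).2 D.locFree⟩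

/-- The projection to the `n`-th algebra as a map of presheaves of rings. -/
def qRing (n : ℕ) : D.ringPresheaf ⟶ AffAlg.alg (ρ n) where
  app U := CommRingCat.ofHom
    { toFun := fun a : D.Sec U.unop => fn ((q n).app U.unop a)
      map_zero' := map_zero ((q n).app U.unop).hom
      map_add' := fun a b => map_add ((q n).app U.unop).hom a b
      map_one' := D.q_one n U.unop
      map_mul' := fun a b => D.q_mul n a b }
  naturality {U V} i := by
    ext a
    exact q_app_res q n i.unop.le a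

/-- The algebra map attached to the projection. -/
def omega : AffAlg.algHoms D.qcAlg.π (ρ 0) :=
  ⟨D.qcAlg.gammaMap ≫ D.qRing 0, by
    rw [← Category.assoc, D.qcAlg.π_c_gammaMap]
    ext U r
    exact D.q_str 0 U r⟩

/-- The map from the level zero cover to the relative spectrum. -/
def toSpec : R 0 ⟶ D.qcAlg.spec := RelSpecX.ofAlgHom D.qcAlg.π (ρ 0) D.omega

theorem toSpec_π : D.toSpec ≫ D.qcAlg.π = ρ 0 := RelSpecX.ofAlgHom_comp _ _ _

theorem algHom_toSpec (U : X.Opens) (a : Γ(D.qcAlg.spec, D.qcAlg.π ⁻¹ᵁ U)) :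
    ((AffAlg.algHom D.qcAlg.π (ρ 0) D.toSpec D.toSpec_π).app (op U)).hom a =
      fn ((q 0).app U (D.gammaMod.app U a)) :=
  congr(($(NatTrans.congr_app (RelSpecX.algHom_ofAlgHom D.qcAlg.π (ρ 0) D.omega) (op U))).hom a)

variable {Z : ℕ → Scheme.{u}} {i : ∀ n, Z n ⟶ X} [∀ n, IsClosedImmersion (i n)]
  {t : ∀ n, Z n ⟶ Z (n + 1)} {ht : ∀ n, t n ≫ i (n + 1) = i n}

include D in
/-- The finite étale cover, with its restriction. -/
theorem exists_cover (hS : SectionBij ht) (hr : ∀ n, Set.range (i n).base = Set.range (i 0).base)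
    (π₀ : R 0 ⟶ Z 0) (hπ : FEt.prop π₀) (hρ : π₀ ≫ i 0 = ρ 0)
    (hsurj : ∀ U : X.Opens, IsAffineOpen U → Function.Surjective ((q 0).app U))
    (hker : ∀ (U : X.Opens) (hU : IsAffineOpen U) (a : Γ(A, U)),
      (q 0).app U a = 0 ↔ a ∈ (i 0).ker.ideal ⟨U, hU⟩ • (⊤ : Submodule Γ(X, U) Γ(A, U))) :
    ∃ (W : FEt.Cat X) (f₀ : R 0 ⟶ W.left), IsPullback f₀ π₀ W.hom (i 0) := by
  obtain ⟨h1, h2, h3⟩ := D.finite_flat_π
  haveI : IsFinite π₀ := hπ.1
  haveI : IsAffineHom (ρ 0) := by rw [← hρ]; infer_instance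
  let π := D.qcAlg.π
  haveI : IsClosedImmersion D.toSpec :=
    RelSpecX.isClosedImmersion_of_surjective π (ρ 0) D.toSpec D.toSpec_π fun U b => by
      obtain ⟨a, ha⟩ := hsurj U.1 U.2 b
      obtain ⟨e, rfl⟩ := (D.gammaMod_bijective U.1).2 a
      exact ⟨e, (D.algHom_toSpec U.1 e).trans ha⟩
  have hsq : IsPullback D.toSpec π₀ π (i 0) := by
    refine isPullback_of_isClosedImmersion _ _ _ _ (D.toSpec_π.trans hρ.symm) ?_
    refine Scheme.IdealSheafData.ext_of_iSup_eq_top (ι := X.affineOpens)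
      (fun U => ⟨π ⁻¹ᵁ U.1, U.2.preimage π⟩)
      (IsOpenCover.comap (iSup_affineOpens_eq_top X) π.base.1) fun U => ?_
    rw [ModPairLib.ideal_comap (i 0).ker π U ⟨π ⁻¹ᵁ U.1, U.2.preimage π⟩ le_rfl, ← Scheme.Hom.app_eq_appLE,
      Scheme.Hom.ker_apply D.toSpec]
    ext a
    letI : Algebra Γ(X, U.1) Γ(D.qcAlg.spec, π ⁻¹ᵁ U.1) := (π.app U.1).hom.toAlgebra
    let g : Γ(D.qcAlg.spec, π ⁻¹ᵁ U.1) ≃ₗ[Γ(X, U.1)] Γ(A, U.1) :=
      LinearEquiv.ofBijective
        { toFun := fun a => D.gammaMod.app U.1 a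
          map_add' := fun a b => map_add (D.gammaMod.app U.1).hom a b
          map_smul' := fun r a => Scheme.Modules.Hom.app_smul D.gammaMod r a } (D.gammaMod_bijective U.1)
    have hI : (((i 0).ker.ideal U).map (π.app U.1).hom).restrictScalars Γ(X, U.1) =
        ((i 0).ker.ideal U • (⊤ : Submodule Γ(X, U.1) Γ(A, U.1))).map
          (g.symm : Γ(A, U.1) →ₗ[Γ(X, U.1)] Γ(D.qcAlg.spec, π ⁻¹ᵁ U.1)) := by
      rw [Submodule.map_smul'', Submodule.map_top, LinearEquiv.range, Ideal.smul_top_eq_map]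
      rfl
    refine Iff.trans (Submodule.restrictScalars_mem Γ(X, U.1) _ a).symm ?_
    rw [hI, Submodule.mem_map_equiv, LinearEquiv.symm_symm, RingHom.mem_ker]
    refine (hker U.1 U.2 (g a)).symm.trans ?_
    have e := D.algHom_toSpec U.1 a
    rw [RelSpecX.algHom_app] at e
    show fn ((q 0).app U.1 (g a)) = 0 ↔ _
    rw [show fn ((q 0).app U.1 (g a)) = _ from e.symm]
    have hpre : ρ 0 ⁻¹ᵁ U.1 = D.toSpec ⁻¹ᵁ (π ⁻¹ᵁ U.1) := RelSpecX.preimage_eq _ _ _ D.toSpec_π U.1
    exact appLE_eq_zero_iff D.toSpec _ hpre a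
  haveI := h1; haveI := h2; haveI := h3
  have hét : Etale (pullback.snd π (i 0)) := by
    have := hπ.2
    rw [← hsq.isoPullback_inv_snd]
    infer_instance
  haveI : Etale π := etale_of_closed_fibre ht hS (i 0) hr π hét
  exact ⟨MorphismProperty.Over.mk ⊤ π ⟨inferInstance, inferInstance⟩, D.toSpec, hsq⟩

end AlgData

end Groth.Agent.Lef73
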