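import Groth.Agent.Lef73.AlgLift

/-!
# Direct images along a cartesian square of thickenings
-/

set_option backward.isDefEq.respectTransparency false
set_option backward.isDefEq.respectTransparency.types false
set_option linter.unusedSectionVars false
set_option linter.style.haveILetI false

universe u

open CategoryTheory CategoryTheory.Limits AlgebraicGeometry TopologicalSpace Opposite

noncomputable section

namespace Groth.Agent.Lef73

open Groth.Agent Groth.Agent.AModX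

theorem appLE_eq_zero_iff' {P Q : Scheme.{u}} (f : P ⟶ Q) {U : Q.Opens} {V : P.Opens} (h : V ≤ f ⁻¹ᵁ U)
    (hV : V = f ⁻¹ᵁ U) (a : Γ(Q, U)) : (f.appLE U V h).hom a = 0 ↔ (f.app U).hom a = 0 := by
  subst hV
  rw [Scheme.Hom.app_eq_appLE]

/-- `oTrans` on sections. -/
theorem oTrans_app {X R R' : Scheme.{u}} {ρ : R ⟶ X} {ρ' : R' ⟶ X} (s : R ⟶ R') (h : s ≫ ρ' = ρ) (U : X.Opens)
    (a : Γ(pushO ρ', U)) :
    fn ((oTrans s h).app U a) =
      (s.appLE (ρ' ⁻¹ᵁ U) (ρ ⁻¹ᵁ U) (le_of_eq (by subst h; rfl))).hom (fn a) := by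
  subst h
  rw [oTrans, pushforwardCongr_rfl_hom_app, Category.comp_id]
  show (s.app (ρ' ⁻¹ᵁ U)).hom (fn a) = _
  rw [Scheme.Hom.app_eq_appLE]
  rfl

section Square

variable {Z Z' R R' : Scheme.{u}} {t : Z ⟶ Z'} {π : R ⟶ Z} {π' : R' ⟶ Z'} {s : R ⟶ R'} (w : s ≫ π' = π ≫ t)

/-- `π'_* O ⟶ t_* π_* O`. -/
def kappa : pushO π' ⟶ (Scheme.Modules.pushforward t).obj (pushO π) :=
  oTrans s w ≫ (Scheme.Modules.pushforwardComp π t).inv.app _

theorem kappa_app (U : Z'.Opens) (a : Γ(pushO π', U)) :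
    fn (show Γ(pushO π, t ⁻¹ᵁ U) from (kappa w).app U a) =
      (s.appLE (π' ⁻¹ᵁ U) (π ⁻¹ᵁ (t ⁻¹ᵁ U))
        (le_of_eq (by rw [← Scheme.Hom.comp_preimage, ← Scheme.Hom.comp_preimage, w]))).hom (fn a) :=
  oTrans_app s w U a

/-- `t^* π'_* O ⟶ π_* O`. -/
def baseHom : (Scheme.Modules.pullback t).obj (pushO π') ⟶ pushO π :=
  ((Scheme.Modules.pullbackPushforwardAdjunction t).homEquiv _ _).symm (kappa w)

theorem toRed_baseHom :
    toRed t (pushO π') ≫ (Scheme.Modules.pushforward t).map (baseHom w) = kappa w := by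
  erw [← Adjunction.homEquiv_unit, baseHom, Equiv.apply_symm_apply]

theorem isIso_baseHom [IsClosedImmersion t] [Surjective t] [IsAffineHom π'] (h : IsPullback s π π' t) :
    IsIso (baseHom h.w) := by
  haveI : IsClosedImmersion s := MorphismProperty.of_isPullback h.flip inferInstance
  refine QCoh.isIso_of_isBasis _ (B := {V | ∃ U : Z'.Opens, IsAffineOpen U ∧ t ⁻¹ᵁ U = V})
    (Opens.isBasis_iff_nbhd.2 fun {V z} hz => ?_) fun V hV => ?_
  · obtain ⟨O, hO, hOV⟩ := t.isClosedEmbedding.isInducing.isOpen_iff.1 V.2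
    obtain ⟨_, ⟨U, hU, rfl⟩, hzU, hUO⟩ := Z'.isBasis_affineOpens.exists_subset_of_mem_open
      (show t z ∈ O from (Set.ext_iff.1 hOV z).2 hz) hO
    exact ⟨t ⁻¹ᵁ U, ⟨U, hU, rfl⟩, hzU, fun y hy => (Set.ext_iff.1 hOV y).1 (hUO hy)⟩
  obtain ⟨U, hU, rfl⟩ := hV
  have hM := isQCoh_pushO π'
  obtain ⟨hsurj, hker⟩ := QCoh.unit_app_closed t hM hU
  have hb : ∀ a, (baseHom h.w).app (t ⁻¹ᵁ U) ((toRed t (pushO π')).app U a) = (kappa h.w).app U a := fun a =>
    congr(($(toRed_baseHom h.w)).app U a)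
  have hpre : π ⁻¹ᵁ (t ⁻¹ᵁ U) = s ⁻¹ᵁ (π' ⁻¹ᵁ U) := by
    rw [← Scheme.Hom.comp_preimage, ← Scheme.Hom.comp_preimage, h.w]
  refine ⟨(injective_iff_map_eq_zero _).2 fun x hx => ?_, fun y => ?_⟩
  · obtain ⟨a, rfl⟩ := hsurj x
    refine (hker a).2 ?_
    erw [hb] at hx
    have h0 : (s.app (π' ⁻¹ᵁ U)).hom (fn a) = 0 :=
      (appLE_eq_zero_iff' s _ hpre _).1 ((kappa_app h.w U a).symm.trans hx)
    have hk : RingHom.ker (s.app (π' ⁻¹ᵁ U)).hom = (t.ker.ideal ⟨U, hU⟩).map (π'.app U).hom := by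
      have e : s.ker = t.ker.comap π' := by
        rw [← h.isoPullback_hom_fst, Scheme.Hom.ker_comp_of_isIso, Scheme.IdealSheafData.ker_fst_of_isClosedImmersion]
      have h2 := ModPairLib.ideal_comap t.ker π' ⟨U, hU⟩ ⟨π' ⁻¹ᵁ U, hU.preimage π'⟩ le_rfl
      rw [← e, ← Scheme.Hom.app_eq_appLE] at h2
      exact (s.ker_apply ⟨π' ⁻¹ᵁ U, hU.preimage π'⟩).symm.trans h2
    rw [← RingHom.mem_ker, hk] at h0
    letI : Algebra Γ(Z', U) Γ(R', π' ⁻¹ᵁ U) := (π'.app U).hom.toAlgebra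
    let l : Γ(pushO π', U) ≃ₗ[Γ(Z', U)] Γ(R', π' ⁻¹ᵁ U) :=
      { toFun := fun x => x, invFun := fun x => x, left_inv := fun _ => rfl, right_inv := fun _ => rfl,
        map_add' := fun _ _ => rfl, map_smul' := fun _ _ => rfl }
    have hl : (t.ker.ideal ⟨U, hU⟩ • (⊤ : Submodule Γ(Z', U) Γ(pushO π', U))).map
        (l : Γ(pushO π', U) →ₗ[Γ(Z', U)] Γ(R', π' ⁻¹ᵁ U)) =
        ((t.ker.ideal ⟨U, hU⟩).map (π'.app U).hom).restrictScalars Γ(Z', U) := by
      rw [Submodule.map_smul'', Submodule.map_top, LinearEquiv.range, Ideal.smul_top_eq_map]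
      rfl
    have h1 : l a ∈ (t.ker.ideal ⟨U, hU⟩ • (⊤ : Submodule Γ(Z', U) Γ(pushO π', U))).map
        (l : Γ(pushO π', U) →ₗ[Γ(Z', U)] Γ(R', π' ⁻¹ᵁ U)) := by
      rw [hl]; exact h0
    obtain ⟨x, hx', hxe⟩ := Submodule.mem_map.1 h1
    exact (show x = a from hxe) ▸ hx'
  · obtain ⟨a, ha⟩ := s.app_surjective _ (hU.preimage π') (resR hpre.ge (fn y))
    refine ⟨(toRed t (pushO π')).app U (show Γ(pushO π', U) from a), (hb _).trans ?_⟩
    refine (kappa_app h.w U _).trans ?_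
    rw [Scheme.Hom.appLE]
    show resR hpre.le ((s.app (π' ⁻¹ᵁ U)).hom a) = _
    rw [ha, resR_resR]
    exact resR_self _

end Square

section Levels

variable {X Z Z' R R' : Scheme.{u}} {i : Z ⟶ X} {i' : Z' ⟶ X} {t : Z ⟶ Z'} (ht : t ≫ i' = i)
  {π : R ⟶ Z} {π' : R' ⟶ Z'} {s : R ⟶ R'} (w : s ≫ π' = π ≫ t) {F : X.Modules}

theorem pushforward_comp_congr_naturality (ht : t ≫ i' = i) {A B : Z.Modules} (f : A ⟶ B) :
    (Scheme.Modules.pushforwardComp t i').hom.app A ≫ (Scheme.Modules.pushforwardCongr ht).hom.app A ≫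
        (Scheme.Modules.pushforward i).map f =
      (Scheme.Modules.pushforward i').map ((Scheme.Modules.pushforward t).map f) ≫
        (Scheme.Modules.pushforwardComp t i').hom.app B ≫ (Scheme.Modules.pushforwardCongr ht).hom.app B :=
  (congrArg (_ ≫ ·) ((Scheme.Modules.pushforwardCongr ht).hom.naturality f).symm).trans
    ((Category.assoc _ _ _).symm.trans
      ((congrArg (· ≫ _) ((Scheme.Modules.pushforwardComp t i').hom.naturality f).symm).trans
        (Category.assoc _ _ _)))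

/-- The algebra of a level seen on `X`. -/
def theta (ψ : (Scheme.Modules.pullback i).obj F ≅ pushO π) : red i F ≅ pushO (π ≫ i) :=
  (Scheme.Modules.pushforward i).mapIso ψ ≪≫ (Scheme.Modules.pushforwardComp π i).app _

theorem redTrans_theta (ψ : (Scheme.Modules.pullback i).obj F ≅ pushO π)
    (ψ' : (Scheme.Modules.pullback i').obj F ≅ pushO π')
    (hψ : (Scheme.Modules.pullback t).map ψ'.hom ≫ baseHom w =
      (Scheme.Modules.pullbackComp t i' ≪≫ Scheme.Modules.pullbackCongr ht).hom.app F ≫ ψ.hom)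
    (hs : s ≫ π' ≫ i' = π ≫ i) :
    redTrans t ht F ≫ (theta ψ).hom = (theta ψ').hom ≫ oTrans s hs := by
  have key : (Scheme.Modules.pushforward i').map (kappa w) ≫
      (Scheme.Modules.pushforwardComp t i').hom.app _ ≫ (Scheme.Modules.pushforwardCongr ht).hom.app _ ≫
        (Scheme.Modules.pushforwardComp π i).hom.app _ =
      (Scheme.Modules.pushforwardComp π' i').hom.app _ ≫ oTrans s hs := by
    subst ht
    rw [pushforwardCongr_rfl_hom_app, Category.id_comp]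
    refine QCoh.hom_ext_app fun U a => ?_
    show fn (show Γ(pushO π, t ⁻¹ᵁ (i' ⁻¹ᵁ U)) from (kappa w).app (i' ⁻¹ᵁ U) a) =
      fn ((oTrans s hs).app U (show Γ(pushO (π' ≫ i'), U) from a))
    rw [kappa_app, oTrans_app]
    rfl
  show redTrans t ht F ≫ (Scheme.Modules.pushforward i).map ψ.hom ≫ (Scheme.Modules.pushforwardComp π i).hom.app _ =
    ((Scheme.Modules.pushforward i').map ψ'.hom ≫ (Scheme.Modules.pushforwardComp π' i').hom.app _) ≫ _
  rw [Category.assoc, ← key, redTrans]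
  simp only [Category.assoc]
  rw [← Functor.map_comp_assoc (Scheme.Modules.pushforward i), ← hψ]
  rw [reassoc_of% pushforward_comp_congr_naturality ht]
  rw [← Functor.map_comp_assoc, ← Functor.map_comp_assoc]
  congr 2
  show _ ≫ (Scheme.Modules.pushforward t).map _ = _
  erw [← Adjunction.homEquiv_unit, Adjunction.homEquiv_naturality_left]
  rw [baseHom, Equiv.apply_symm_apply]

end Levels

end Groth.Agent.Lef73
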