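import Groth.Agent.Lef73.AlgSpec
import Groth.Agent.Lef73.PushTrans
import Groth.Agent.S0289

/-!
# Algebraization of finite étale covers of the formal neighbourhood
-/

set_option backward.isDefEq.respectTransparency false
set_option backward.isDefEq.respectTransparency.types false
set_option linter.unusedSectionVars false
set_option linter.style.haveILetI false

universe u

open CategoryTheory CategoryTheory.Limits AlgebraicGeometry TopologicalSpace Opposite

noncomputable section

namespace Groth.Agent.Lef73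

open Groth.Agent Groth.Agent.AModX

/-- A finite étale cover lifts along a thickening. -/
theorem exists_lift_thickening {Z Z' : Scheme.{u}} (t : Z ⟶ Z') [IsClosedImmersion t] [Surjective t]
    (R : FEt.Cat Z) : ∃ (R' : FEt.Cat Z') (s : R.left ⟶ R'.left), IsPullback s R.hom R'.hom t := by
  haveI := S0289.result t
  let R' := (FEt.restrict t).objPreimage R
  let e : (FEt.restrict t).obj R' ≅ R := (FEt.restrict t).objObjPreimageIso R
  let el := (MorphismProperty.Over.forget FEt.prop ⊤ Z ⋙ Over.forget Z).mapIso e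
  exact ⟨R', el.inv ≫ pullback.fst R'.hom t,
    (IsPullback.of_hasPullback R'.hom t).of_iso el (Iso.refl _) (Iso.refl _) (Iso.refl _)
      (by simp) (by simp only [Iso.refl_hom, Category.comp_id]; exact (Over.w e.hom.hom).symm) (by simp) (by simp)⟩

/-- Levelwise finite locally free systems on the tower come from finite locally free modules. -/
def TowerEss {X : Scheme.{u}} {Z : ℕ → Scheme.{u}} {i : ∀ n, Z n ⟶ X}
    {t : ∀ n, Z n ⟶ Z (n + 1)} (ht : ∀ n, t n ≫ i (n + 1) = i n) : Prop :=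
  ∀ (M : ∀ n, (Z n).Modules) (e : ∀ n, (Scheme.Modules.pullback (t n)).obj (M (n + 1)) ≅ M n),
    (∀ n, FlatMod.IsFinLocFree (M n)) →
      ∃ (F : X.Modules) (ψ : ∀ n, (Scheme.Modules.pullback (i n)).obj F ≅ M n), FlatMod.IsFinLocFree F ∧
        ∀ n, (Scheme.Modules.pullback (t n)).map (ψ (n + 1)).hom ≫ (e n).hom =
          (Scheme.Modules.pullbackComp (t n) (i (n + 1)) ≪≫ Scheme.Modules.pullbackCongr (ht n)).hom.app F ≫
            (ψ n).hom

variable {X : Scheme.{u}} {Z : ℕ → Scheme.{u}} {i : ∀ n, Z n ⟶ X} [∀ n, IsClosedImmersion (i n)]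
  {t : ∀ n, Z n ⟶ Z (n + 1)} [∀ n, IsClosedImmersion (t n)] [∀ n, Surjective (t n)]
  (ht : ∀ n, t n ≫ i (n + 1) = i n)

omit [∀ n, IsClosedImmersion (i n)] in
include ht in
theorem range_tower (n : ℕ) : Set.range (i n).base = Set.range (i 0).base := by
  induction n with
  | zero => rfl
  | succ n ih =>
    rw [← ih, ← ht n]
    exact (Function.Surjective.range_comp (t n).surjective (i (n + 1)).base).symm

omit [∀ n, IsClosedImmersion (i n)] in
/-- A finite étale cover of the first level lifts to all levels. -/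
theorem exists_tower (t : ∀ n, Z n ⟶ Z (n + 1)) [∀ n, IsClosedImmersion (t n)] [∀ n, Surjective (t n)]
    (R₀ : FEt.Cat (Z 0)) :
    ∃ (R : ∀ n, FEt.Cat (Z n)) (s : ∀ n, (R n).left ⟶ (R (n + 1)).left),
      (∀ n, IsPullback (s n) (R n).hom (R (n + 1)).hom (t n)) ∧ R 0 = R₀ := by
  choose next s₀ hs₀ using fun n (R : FEt.Cat (Z n)) => exists_lift_thickening (t n) R
  let R : ∀ n, FEt.Cat (Z n) := fun n => Nat.rec R₀ next n
  exact ⟨R, fun n => s₀ n (R n), fun n => hs₀ n (R n), rfl⟩

omit [∀ n, IsClosedImmersion (i n)] in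
theorem isFinLocFree_level {R : ∀ n, FEt.Cat (Z n)} (n : ℕ) : FlatMod.IsFinLocFree (pushO (R n).hom) := by
  haveI : IsFinite (R n).hom := (R n).prop.1
  haveI : Etale (R n).hom := (R n).prop.2
  haveI : Flat (R n).hom := inferInstance
  haveI : LocallyOfFinitePresentation (R n).hom := inferInstance
  exact isFinLocFree_pushO

/-- A tower of covers whose algebras come from a finite locally free module algebraizes. -/
theorem exists_cover_of_system (hMap : MapBij ht) (R : ∀ n, FEt.Cat (Z n))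
    (s : ∀ n, (R n).left ⟶ (R (n + 1)).left) (hsq : ∀ n, IsPullback (s n) (R n).hom (R (n + 1)).hom (t n))
    {F : X.Modules} (hF : FlatMod.IsFinLocFree F)
    (ψ : ∀ n, (Scheme.Modules.pullback (i n)).obj F ≅ pushO (R n).hom)
    (hψ : ∀ n, (Scheme.Modules.pullback (t n)).map (ψ (n + 1)).hom ≫ baseHom (hsq n).w =
      (Scheme.Modules.pullbackComp (t n) (i (n + 1)) ≪≫ Scheme.Modules.pullbackCongr (ht n)).hom.app F ≫
        (ψ n).hom) :
    ∃ (W : FEt.Cat X) (f₀ : (R 0).left ⟶ W.left), IsPullback f₀ (R 0).hom W.hom (i 0) := by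
  let π : ∀ n, (R n).left ⟶ Z n := fun n => (R n).hom
  let θ : ∀ n, red (i n) F ≅ pushO (π n ≫ i n) := fun n => theta (ψ n)
  let q : ∀ n, F ⟶ pushO (π n ≫ i n) := fun n => toRed (i n) F ≫ (θ n).hom
  have hs : ∀ n, s n ≫ π (n + 1) ≫ i (n + 1) = π n ≫ i n := fun n => by
    rw [← Category.assoc, (hsq n).w, Category.assoc, ht n]
  have hθ : ∀ n, redTrans (t n) (ht n) F ≫ (θ n).hom = (θ (n + 1)).hom ≫ oTrans (s n) (hs n) := fun n =>
    redTrans_theta (ht n) (hsq n).w (ψ n) (ψ (n + 1)) (hψ n) (hs n)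
  have D : AlgData hs q := by
    refine ⟨hF, fun n => ?_, fun G hG w hw => ?_⟩
    · show (toRed _ _ ≫ (θ (n + 1)).hom) ≫ _ = toRed _ _ ≫ _
      rw [Category.assoc, ← hθ n, ← Category.assoc, toRed_redTrans]
    · obtain ⟨φ, hφ, huniq⟩ := hMap G F hG hF (fun n => w n ≫ (θ n).inv) fun n => by
        rw [← cancel_mono (θ n).hom, Category.assoc, Category.assoc, hθ n, Iso.inv_hom_id_assoc, hw n,
          Category.assoc, Iso.inv_hom_id, Category.comp_id]
      refine ⟨φ, fun n => ?_, fun φ' hφ' => huniq φ' fun n => ?_⟩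
      · show φ ≫ toRed _ _ ≫ _ = _
        rw [← Category.assoc, hφ n, Category.assoc, Iso.inv_hom_id, Category.comp_id]
      · show φ' ≫ toRed _ _ = w n ≫ (θ n).inv
        rw [Iso.eq_comp_inv, Category.assoc]
        exact hφ' n
  refine D.exists_cover (sectionBij_of_mapBij ht hMap) (range_tower ht) (π 0) (R 0).prop rfl
    (fun U hU y => ?_) fun U hU a => ?_
  · obtain ⟨a, ha⟩ := (QCoh.unit_app_closed (i 0) (QCoh.isQCoh_of_isFinLocFree hF) hU).1 ((θ 0).inv.app U y)
    refine ⟨a, ?_⟩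
    show (θ 0).hom.app U ((toRed (i 0) F).app U a) = y
    exact (congrArg ((θ 0).hom.app U) ha).trans congr(($((θ 0).inv_hom_id)).app U y)
  · show (θ 0).hom.app U ((toRed (i 0) F).app U a) = 0 ↔ _
    refine Iff.trans ?_ ((QCoh.unit_app_closed (i 0) (QCoh.isQCoh_of_isFinLocFree hF) hU).2 a)
    refine ⟨fun h => ?_, fun h => (congrArg ((θ 0).hom.app U) h).trans (map_zero _)⟩
    have := congrArg ((θ 0).inv.app U) h
    rw [map_zero] at this
    exact (congr(($((θ 0).hom_inv_id)).app U ((toRed (i 0) F).app U a))).symm.trans this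

/-- Finite étale covers of the first level algebraize. -/
theorem exists_cover_of_tower (hMap : MapBij ht) (hEss : TowerEss ht) (R₀ : FEt.Cat (Z 0)) :
    ∃ (W : FEt.Cat X) (f₀ : R₀.left ⟶ W.left), IsPullback f₀ R₀.hom W.hom (i 0) := by
  obtain ⟨R, s, hsq, rfl⟩ := exists_tower t R₀
  haveI : ∀ n, IsFinite (R n).hom := fun n => (R n).prop.1
  haveI : ∀ n, IsIso (baseHom (hsq n).w) := fun n => isIso_baseHom (hsq n)
  obtain ⟨F, ψ, hF, hψ⟩ := hEss (fun n => pushO (R n).hom) (fun n => asIso (baseHom (hsq n).w))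
    fun n => isFinLocFree_level n
  exact exists_cover_of_system ht hMap R s hsq hF ψ hψ

/-- A cartesian square identifies the restriction. -/
theorem restrict_iso_of_isPullback {S S' : Scheme.{u}} {c : S' ⟶ S} {W : FEt.Cat S} {R : FEt.Cat S'}
    {f : R.left ⟶ W.left} (h : IsPullback f R.hom W.hom c) : Nonempty ((FEt.restrict c).obj W ≅ R) :=
  ⟨(MorphismProperty.Over.isoMk h.isoPullback (by exact h.isoPullback_hom_snd)).symm⟩

/-- Restriction to a closed subscheme isomorphic to the first level is essentially surjective. -/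
theorem exists_restrict_iso {Y : Scheme.{u}} (c : Y ⟶ X) (e : Y ≅ Z 0) (he : e.hom ≫ i 0 = c)
    (hMap : MapBij ht) (hEss : TowerEss ht) (R : FEt.Cat Y) :
    ∃ W : FEt.Cat X, Nonempty ((FEt.restrict c).obj W ≅ R) := by
  let R₀ : FEt.Cat (Z 0) := MorphismProperty.Over.mk ⊤ (R.hom ≫ e.hom)
    ((FEt.prop).comp_mem _ _ R.prop ((FEt.prop).of_isIso _))
  obtain ⟨W, f₀, hf⟩ := exists_cover_of_tower ht hMap hEss R₀
  have h : IsPullback f₀ R.hom W.hom c := hf.of_iso (Iso.refl _) (Iso.refl _) e.symm (Iso.refl _)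
    (by simp) (by simp [R₀]) (by simp) (by simp [← he])
  exact ⟨W, ⟨(MorphismProperty.Over.isoMk h.isoPullback (by exact h.isoPullback_hom_snd)).symm⟩⟩

end Groth.Agent.Lef73
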