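import Groth.Agent.AmpleX.RelAffine
import Groth.Agent.AmpleX.Basis
import Groth.Agent.AmpleX.QuasiAffine
import Groth.Agent.AmpleX.Separated
import Groth.Agent.KFlatLib.Scheme.GlueD
import Groth.Agent.InvX.Tensor
import Groth.Agent.QCoh.TensorUnit

/-!
# Closed subsets away from an ample divisor
-/

set_option backward.isDefEq.respectTransparency false
set_option backward.isDefEq.respectTransparency.types false
set_option linter.unusedSectionVars false
set_option linter.style.haveILetI false

universe u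

open CategoryTheory CategoryTheory.Limits AlgebraicGeometry TopologicalSpace Opposite
open Groth.Agent.H23.PicMul

noncomputable section

namespace Groth.Agent.Lef73

open Groth.Agent Groth.Agent.AModX

variable {X : Scheme.{u}} {L : X.Modules}

/-- An ample module restricts to an ample module on a compact open. -/
theorem isAmple_pullback_opens (hL : CohB1.IsAmple L) (W : X.Opens) [CompactSpace (W : Scheme.{u})] :
    CohB1.IsAmple ((Scheme.Modules.pullback W.ι).obj L) := by
  haveI := AmpleX.isSeparated_of_isAmple hL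
  refine AmpleX.isAmple_pullback_of_isOpenImmersion W.ι hL.1 fun z => ?_
  obtain ⟨m, hm, s, h1, h2, h3⟩ := AmpleX.exists_genLocus_le hL (show W.ι z ∈ W from z.2)
  exact ⟨m, hm, s, h1, h2.trans (Scheme.Opens.opensRange_ι W).ge, h3⟩

/-- The ideal module is trivial off the support. -/
theorem nonempty_idealMod_restrict (𝓘 : X.IdealSheafData) (W : X.Opens)
    (hW : Disjoint (W : Set X) (𝓘.support : Set X)) :
    Nonempty ((Scheme.Modules.pullback W.ι).obj (ClSub.idealMod 𝓘) ≅ Coh.structureModule (W : Scheme.{u})) := by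
  let R := Scheme.Modules.restrictFunctor W.ι
  let S := ClSub.toSubscheme 𝓘
  have hz : R.map S = 0 := by
    refine QCoh.hom_ext_app fun V s => ?_
    haveI : Subsingleton Γ(𝓘.subscheme, 𝓘.subschemeι ⁻¹ᵁ (W.ι ''ᵁ V)) := by
      have : 𝓘.subschemeι ⁻¹ᵁ (W.ι ''ᵁ V) = ⊥ := by
        refine Opens.ext (Set.eq_empty_of_forall_notMem fun z hz => ?_)
        refine Set.disjoint_left.1 hW (W.ι_image_le _ hz) ?_
        rw [← Scheme.IdealSheafData.range_subschemeι]
        exact ⟨z, rfl⟩
      rw [this]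
      infer_instance
    exact Subsingleton.elim (α := Γ(𝓘.subscheme, 𝓘.subschemeι ⁻¹ᵁ (W.ι ''ᵁ V))) _ _
  haveI : IsIso (kernel.ι (R.map S)) := by
    haveI : IsIso (kernel.ι (0 : R.obj (Coh.structureModule X) ⟶ R.obj (ClSub.quotMod 𝓘))) :=
      kernel.ι_zero_isIso
    rw [← show (kernelIsoOfEq hz).hom ≫ kernel.ι 0 = kernel.ι (R.map S) from kernelIsoOfEq_hom_comp_ι _]
    infer_instance
  exact ⟨(Scheme.Modules.restrictFunctorIsoPullback W.ι).symm.app _ ≪≫ PreservesKernel.iso R S ≪≫
    asIso (kernel.ι (R.map S)) ≪≫ Scheme.Modules.restrictUnitIso W.ι⟩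

/-- The complement of an ample effective divisor is quasi-affine. -/
theorem isQuasiAffine_of_disjoint (𝓘 : X.IdealSheafData) (hL : ClSub.IsInverseOf L (ClSub.idealMod 𝓘))
    (hamp : CohB1.IsAmple L) (W : X.Opens) [CompactSpace (W : Scheme.{u})]
    (hW : Disjoint (W : Set X) (𝓘.support : Set X)) : (W : Scheme.{u}).IsQuasiAffine := by
  refine AmpleX.isQuasiAffine_of_isAmple ?_
  obtain ⟨e⟩ := nonempty_idealMod_restrict 𝓘 W hW
  have h1 : PicF.cl L * PicF.cl (ClSub.idealMod 𝓘) = 1 := by
    rw [← cl_tensor]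
    exact cl_eq_iff.2 hL
  have h2 := congrArg (PicF.pullCl W.ι) h1
  rw [pullCl_mul, pullCl_one,
    show PicF.pullCl W.ι (PicF.cl (ClSub.idealMod 𝓘)) = 1 from cl_eq_iff.2 ⟨e⟩, mul_one] at h2
  obtain ⟨e'⟩ := cl_eq_iff.1 (show PicF.cl ((Scheme.Modules.pullback W.ι).obj L) =
    PicF.cl (Coh.structureModule (W : Scheme.{u})) from h2)
  exact AmpleX.isAmple_of_iso e' (isAmple_pullback_opens hamp W)

/-- A closed immersion into a proper scheme factoring through a quasi-affine open is finite over the base. -/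
theorem isFinite_of_disjoint {S : Scheme.{u}} [IsAffine S] (f : X ⟶ S) [IsProper f] [IsLocallyNoetherian X]
    (𝓘 : X.IdealSheafData) (hL : ClSub.IsInverseOf L (ClSub.idealMod 𝓘))
    (hamp : CohB1.IsAmple L) {C : Scheme.{u}} (c : C ⟶ X) [IsClosedImmersion c]
    (hC : Disjoint (Set.range c.base) (𝓘.support : Set X)) : IsFinite (c ≫ f) := by
  let W : X.Opens := ⟨(𝓘.support : Set X)ᶜ, 𝓘.support.isClosed.isOpen_compl⟩
  haveI : CompactSpace X := hamp.2.1
  haveI : IsNoetherian X := { __ := ‹IsLocallyNoetherian X›, __ := ‹CompactSpace X› }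
  haveI : CompactSpace (W : Scheme.{u}) := isCompact_iff_compactSpace.1 (NoetherianSpace.isCompact (W : Set X))
  haveI := isQuasiAffine_of_disjoint 𝓘 hL hamp W disjoint_compl_left
  have hcW : Set.range c.base ⊆ Set.range W.ι.base := by
    rw [Scheme.Opens.range_ι]
    exact fun x hx h => Set.disjoint_left.1 hC hx h
  let c' : C ⟶ W := IsOpenImmersion.lift W.ι c hcW
  haveI : IsClosedImmersion (c' ≫ W.ι) := by rw [IsOpenImmersion.lift_fac]; infer_instance
  haveI : IsClosedImmersion c' := IsClosedImmersion.of_comp c' W.ι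
  haveI : CompactSpace C := QuasiCompact.compactSpace_of_compactSpace c
  haveI : C.IsQuasiAffine := Scheme.IsQuasiAffine.of_isImmersion c'
  haveI : IsProper (C.toSpecΓ ≫ Spec.map (c ≫ f).appTop ≫ S.isoSpec.inv) := by
    rw [← Scheme.toSpecΓ_naturality_assoc, Scheme.toSpecΓ_isoSpec_inv, Category.comp_id]
    infer_instance
  haveI : IsProper C.toSpecΓ := IsProper.of_comp C.toSpecΓ (Spec.map (c ≫ f).appTop ≫ S.isoSpec.inv)
  haveI : IsClosedImmersion C.toSpecΓ :=
    (IsClosedImmersion.iff_isProper_and_mono _).2 ⟨inferInstance, inferInstance⟩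
  haveI : IsAffine C := isAffine_of_isAffineHom C.toSpecΓ
  exact IsFinite.iff_isProper_and_isAffineHom.2 ⟨inferInstance, inferInstance⟩

end Groth.Agent.Lef73
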