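import Groth.Agent.Lef73.Trans
import Groth.Prelude.Def_FSch3
import Groth.Agent.InvX.Tensor

/-!
# The Lefschetz condition makes completion fully faithful on finite locally free modules
-/

set_option backward.isDefEq.respectTransparency false
set_option backward.isDefEq.respectTransparency.types false

universe u

open CategoryTheory CategoryTheory.Limits AlgebraicGeometry TopologicalSpace Opposite

noncomputable section

namespace Groth.Agent.Lef73

open Groth.Agent Groth.Agent.AModX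

variable {X : Scheme.{u}}

section Tower

variable {Z : ℕ → Scheme.{u}} {i : ∀ n, Z n ⟶ X} [∀ n, IsClosedImmersion (i n)]
  {t : ∀ n, Z n ⟶ Z (n + 1)} (ht : ∀ n, t n ≫ i (n + 1) = i n) {F G : X.Modules}

/-- Bijectivity of `Hom(D, O) ⟶ lim Hom(D, O_n)` for a tower of closed subschemes. -/
def TowerBij (D : X.Modules) : Prop :=
  (∀ φ ψ : D ⟶ Coh.structureModule X,
    (∀ n, φ ≫ ClSub.unitToPush (i n) = ψ ≫ ClSub.unitToPush (i n)) → φ = ψ) ∧
  ∀ y : ∀ n, D ⟶ (Scheme.Modules.pushforward (i n)).obj (Coh.structureModule (Z n)),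
    (∀ n, y (n + 1) ≫ oTrans (t n) (ht n) = y n) →
      ∃ φ : D ⟶ Coh.structureModule X, ∀ n, φ ≫ ClSub.unitToPush (i n) = y n

/-- Compatible families of maps to the reductions come from a unique morphism. -/
theorem TowerBij.existsUnique (hG : FlatMod.IsFinLocFree G)
    (h : TowerBij ht ((AmpleVan.tw (dual G)).obj F))
    (y : ∀ n : ℕ, F ⟶ red (i n) G) (hy : ∀ n, y (n + 1) ≫ redTrans (t n) (ht n) G = y n) :
    ∃! φ : F ⟶ G, ∀ n, φ ≫ toRed (i n) G = y n := by
  obtain ⟨ψ, hψ⟩ := h.2 (fun n => toRedForm (i n) (y n)) fun n => by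
    show toRedForm (i (n + 1)) (y (n + 1)) ≫ _ = toRedForm (i n) (y n)
    rw [← hy n, toRedForm, toRedForm, Functor.map_comp, Category.assoc, Category.assoc,
      map_redTrans_redPair _ _ hG]
  obtain ⟨φ, rfl⟩ := (toForm_bijective (F := F) hG).2 ψ
  refine ⟨φ, fun n => toRedForm_injective _ hG ((toRedForm_comp _ φ).trans (hψ n)), fun φ' hφ' => ?_⟩
  refine (toForm_bijective hG).1 (h.1 _ _ fun n => ?_)
  rw [hψ n]
  show toForm φ' ≫ _ = _
  rw [← hφ' n, toRedForm_comp]

theorem adj_map (f : F ⟶ G) (n : ℕ) :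
    ((Scheme.Modules.pullbackPushforwardAdjunction (i n)).homEquiv _ _)
      ((Scheme.Modules.pullback (i n)).map f) = f ≫ toRed (i n) G := by
  rw [Adjunction.homEquiv_unit]
  exact ((Scheme.Modules.pullbackPushforwardAdjunction (i n)).unit.naturality f).symm

/-- Compatible families of maps between pullbacks come from a unique morphism. -/
theorem TowerBij.existsUnique_pullback (hG : FlatMod.IsFinLocFree G)
    (h : TowerBij ht ((AmpleVan.tw (dual G)).obj F))
    (v : ∀ n, (Scheme.Modules.pullback (i n)).obj F ⟶ (Scheme.Modules.pullback (i n)).obj G)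
    (hv : ∀ n, (Scheme.Modules.pullbackComp (t n) (i (n + 1)) ≪≫ Scheme.Modules.pullbackCongr (ht n)).inv.app F ≫
      (Scheme.Modules.pullback (t n)).map (v (n + 1)) ≫
      (Scheme.Modules.pullbackComp (t n) (i (n + 1)) ≪≫ Scheme.Modules.pullbackCongr (ht n)).hom.app G = v n) :
    ∃! φ : F ⟶ G, ∀ n, (Scheme.Modules.pullback (i n)).map φ = v n := by
  obtain ⟨φ, hφ, huniq⟩ := h.existsUnique ht hG
    (fun n => ((Scheme.Modules.pullbackPushforwardAdjunction (i n)).homEquiv _ _) (v n))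
    fun n => by rw [homEquiv_redTrans, hv]
  refine ⟨φ, fun n => ((Scheme.Modules.pullbackPushforwardAdjunction (i n)).homEquiv _ _).injective
    ((adj_map φ n).trans (hφ n)), fun φ' hφ' => huniq φ' fun n => ?_⟩
  rw [← adj_map, hφ']

/-- Global sections of a finite locally free module are the compatible families of sections. -/
theorem TowerBij.existsUnique_section (hG : FlatMod.IsFinLocFree G)
    (h : TowerBij ht ((AmpleVan.tw (dual G)).obj (Coh.structureModule X)))
    (y : ∀ n : ℕ, Γ(red (i n) G, ⊤)) (hy : ∀ n, (redTrans (t n) (ht n) G).app ⊤ (y (n + 1)) = y n) :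
    ∃! σ : Γ(G, ⊤), ∀ n, (toRed (i n) G).app ⊤ σ = y n := by
  have hone : ∀ {M : X.Modules} (s : Γ(M, ⊤)),
      (InvX.ofSect s).app ⊤ (1 : Γ(X, ⊤)) = s := fun s => InvX.one_ofSect s
  have hext : ∀ {M : X.Modules} (a b : Coh.structureModule X ⟶ M),
      a.app ⊤ (1 : Γ(X, ⊤)) = b.app ⊤ (1 : Γ(X, ⊤)) → a = b := fun a b e => QCoh.hom_ext_app fun W r => by
    rw [InvX.app_eq_smul a r, InvX.app_eq_smul b r, show InvX.one a = InvX.one b from e]
  obtain ⟨φ, hφ, huniq⟩ := h.existsUnique ht hG (fun n => InvX.ofSect (y n)) fun n =>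
    hext _ _ (by
      rw [hone]
      show (redTrans (t n) (ht n) G).app ⊤ ((InvX.ofSect (y (n + 1))).app ⊤ (1 : Γ(X, ⊤))) = _
      rw [hone, hy])
  refine ⟨φ.app ⊤ (1 : Γ(X, ⊤)), fun n => ?_, fun σ hσ => ?_⟩
  · have e := congr(($(hφ n)).app ⊤ (1 : Γ(X, ⊤)))
    exact e.trans (hone _)
  · rw [← huniq (InvX.ofSect σ) fun n => hext _ _ ?_, hone]
    show (toRed (i n) G).app ⊤ ((InvX.ofSect σ).app ⊤ (1 : Γ(X, ⊤))) = _
    rw [hone, hone, hσ]

end Tower

variable (𝓙 : X.IdealSheafData)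

theorem compl_ι_toX (n : ℕ) :
    (FSch.completionAlong X 𝓙).ι n ≫ FSch.completionToX X 𝓙 (n + 1) = FSch.completionToX X 𝓙 n :=
  Scheme.IdealSheafData.inclusion_subschemeι (FSch.pow_succ_le X 𝓙 n)

instance isClosedImmersion_completionToX (n : ℕ) : IsClosedImmersion (FSch.completionToX X 𝓙 n) := by
  exact inferInstanceAs (IsClosedImmersion (𝓙 ^ (n + 1)).subschemeι)

theorem towerBij_of_homToFormal {D : X.Modules} (h : Lef.HomToFormalBijective 𝓙 D) :
    TowerBij (i := FSch.completionToX X 𝓙) (compl_ι_toX 𝓙) D :=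
  ⟨h.1, fun y hy => h.2 y hy⟩

theorem complTransIso_eq (n : ℕ) :
    FSch.complTransIso 𝓙 n =
      Scheme.Modules.pullbackComp ((FSch.completionAlong X 𝓙).ι n) (FSch.completionToX X 𝓙 (n + 1)) ≪≫
        Scheme.Modules.pullbackCongr (compl_ι_toX 𝓙 n) := by
  delta FSch.complTransIso
  with_reducible rfl

variable {𝓙} {F G : X.Modules}

/-- Completion along `𝓙` is fully faithful on maps into a finite locally free module. -/
theorem complModMap_bijective (hG : FlatMod.IsFinLocFree G)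
    (h : Lef.HomToFormalBijective 𝓙 ((AmpleVan.tw (dual G)).obj F)) :
    Function.Bijective (fun φ : F ⟶ G => FSch.complModMap 𝓙 φ) := by
  have hT := towerBij_of_homToFormal 𝓙 h
  have hv : ∀ ψ : FSch.complMod 𝓙 F ⟶ FSch.complMod 𝓙 G, ∀ n,
      (FSch.complTransIso 𝓙 n).inv.app F ≫ (Scheme.Modules.pullback ((FSch.completionAlong X 𝓙).ι n)).map (ψ.app (n + 1)) ≫
        (FSch.complTransIso 𝓙 n).hom.app G = ψ.app n := fun ψ n => by
    have e : (Scheme.Modules.pullback ((FSch.completionAlong X 𝓙).ι n)).map (ψ.app (n + 1)) ≫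
        (FSch.complTransIso 𝓙 n).hom.app G = (FSch.complTransIso 𝓙 n).hom.app F ≫ ψ.app n := ψ.comm n
    rw [e]
    exact Iso.inv_hom_id_app_assoc _ _ _
  constructor
  · intro φ φ' e
    obtain ⟨φ₀, -, huniq⟩ := hT.existsUnique_pullback (compl_ι_toX 𝓙) hG (FSch.complModMap 𝓙 φ).app
      (by simpa only [complTransIso_eq] using hv _)
    rw [huniq φ fun n => rfl, huniq φ' fun n => ?_]
    exact (congrFun (congrArg FSch.ModSys.Hom.app e) n).symm
  · intro ψ
    obtain ⟨φ, hφ, -⟩ := hT.existsUnique_pullback (compl_ι_toX 𝓙) hG ψ.app (by simpa only [complTransIso_eq] using hv ψ)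
    exact ⟨φ, FSch.ModSys.Hom.ext (funext hφ)⟩

end Groth.Agent.Lef73
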