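import Groth.Agent.Lef73.ThickPic
import Groth.Agent.Lef73.CompFF
import Groth.Agent.H23.PullPush

/-!
# Invertible modules trivial on a thickening are trivial
-/

set_option backward.isDefEq.respectTransparency false
set_option backward.isDefEq.respectTransparency.types false
set_option linter.unusedSectionVars false
set_option linter.style.haveILetI false

universe u

open CategoryTheory CategoryTheory.Limits AlgebraicGeometry TopologicalSpace Opposite

noncomputable section

namespace Groth.Agent.Lef73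

open Groth.Agent

variable {V : Scheme.{u}}

theorem comap_pow {W : Scheme.{u}} (I : V.IdealSheafData) (f : W ⟶ V) (k : ℕ) :
    (I ^ k).comap f = I.comap f ^ k := by
  induction k with
  | zero => rw [pow_zero, pow_zero, Scheme.IdealSheafData.one_eq_top, Scheme.IdealSheafData.one_eq_top,
      Scheme.IdealSheafData.comap_top]
  | succ k ih => rw [pow_succ, pow_succ, ModPairLib.ideal_comap_mul, ih]

theorem sq_ker_inclusion {I J : V.IdealSheafData} (h : I ≤ J) (hsq : J * J ≤ I) :
    (Scheme.IdealSheafData.inclusion h).ker * (Scheme.IdealSheafData.inclusion h).ker = ⊥ := by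
  set j := Scheme.IdealSheafData.inclusion h with hj
  have hle : j.ker ≤ J.comap I.subschemeι := by
    have e : pullback.fst I.subschemeι J.subschemeι = pullback.snd I.subschemeι J.subschemeι ≫ j := by
      rw [← cancel_mono I.subschemeι, pullback.condition, Category.assoc, hj,
        Scheme.IdealSheafData.inclusion_subschemeι]
    show j.ker ≤ (pullback.fst I.subschemeι J.subschemeι).ker
    rw [e]
    exact Scheme.Hom.le_ker_comp _ _
  have hbot : I.comap I.subschemeι = ⊥ :=
    Scheme.Hom.ker_eq_bot_of_isIso (pullback.fst I.subschemeι I.subschemeι)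
  rw [eq_bot_iff, ← hbot]
  refine le_trans ?_ (Scheme.IdealSheafData.comap_mono _ hsq)
  show j.ker * j.ker ≤ (J * J).comap I.subschemeι
  rw [ModPairLib.ideal_comap_mul]
  exact mul_le_mul' hle hle

theorem pow_sq_le (𝓙 : V.IdealSheafData) (m : ℕ) : 𝓙 ^ (m + 1) * 𝓙 ^ (m + 1) ≤ 𝓙 ^ (m + 2) := by
  rw [← pow_add, show m + 1 + (m + 1) = (m + 2) + m from by omega, pow_add]
  exact mul_le_of_le_one_right' le_top

theorem hom_ext_one {Z : Scheme.{u}} {M : Z.Modules} (a b : Coh.structureModule Z ⟶ M)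
    (e : a.app ⊤ (1 : Γ(Z, ⊤)) = b.app ⊤ (1 : Γ(Z, ⊤))) : a = b :=
  QCoh.hom_ext_app fun W r => by
    rw [InvX.app_eq_smul a r, InvX.app_eq_smul b r, show InvX.one a = InvX.one b from e]

theorem ofSect_app_one {Z : Scheme.{u}} {M : Z.Modules} (s : Γ(M, ⊤)) :
    (InvX.ofSect s).app ⊤ (1 : Γ(Z, ⊤)) = s := InvX.one_ofSect s

/-- The unit isomorphism of a pullback of the structure module. -/
def unitIso {Z W : Scheme.{u}} (f : Z ⟶ W) :
    (Scheme.Modules.pullback f).obj (Coh.structureModule W) ≅ Coh.structureModule Z :=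
  @asIso _ _ _ _ (show (Scheme.Modules.pullback f).obj (Coh.structureModule W) ⟶ Coh.structureModule Z from
      SheafOfModules.pullbackObjUnitToUnit f.toRingCatSheafHom)
    (inferInstanceAs (IsIso (SheafOfModules.pullbackObjUnitToUnit f.toRingCatSheafHom)))

theorem homEquiv_unitIso {Z W : Scheme.{u}} (f : Z ⟶ W) :
    ((Scheme.Modules.pullbackPushforwardAdjunction f).homEquiv _ _) (unitIso f).hom = ClSub.unitToPush f :=
  Eq.trans (Equiv.apply_symm_apply _ _) (QCoh.hom_ext_app fun _ _ => rfl)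

/-- Multiplication by a function on the structure module pulls back to multiplication by its image. -/
theorem map_ofSect {Z W : Scheme.{u}} (f : Z ⟶ W) (a : Γ(W, ⊤)) :
    (Scheme.Modules.pullback f).map (InvX.ofSect (M := Coh.structureModule W) a) ≫ (unitIso f).hom =
      (unitIso f).hom ≫ InvX.ofSect (M := Coh.structureModule Z) (f.appTop a) := by
  refine ((Scheme.Modules.pullbackPushforwardAdjunction f).homEquiv _ _).injective ?_
  rw [Adjunction.homEquiv_naturality_left, Adjunction.homEquiv_naturality_right, homEquiv_unitIso]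
  refine hom_ext_one _ _ ?_
  show f.app ⊤ ((InvX.ofSect (M := Coh.structureModule W) a).app ⊤ (1 : Γ(W, ⊤))) =
    (InvX.ofSect (M := Coh.structureModule Z) (f.appTop a)).app ⊤ (f.app ⊤ (1 : Γ(W, ⊤)))
  rw [ofSect_app_one]
  erw [map_one, ofSect_app_one]
  rfl

/-- An endomorphism of the structure module is multiplication by a function. -/
theorem eq_ofSect {Z : Scheme.{u}} (φ : Coh.structureModule Z ⟶ Coh.structureModule Z) :
    φ = InvX.ofSect (M := Coh.structureModule Z) (φ.app ⊤ (1 : Γ(Z, ⊤))) :=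
  hom_ext_one _ _ (ofSect_app_one _).symm

theorem app_top_smul {Z : Scheme.{u}} (φ : Coh.structureModule Z ⟶ Coh.structureModule Z) (a : Γ(Z, ⊤)) :
    φ.app ⊤ a = a * (show Γ(Z, ⊤) from φ.app ⊤ (1 : Γ(Z, ⊤))) := by
  have h := Scheme.Modules.Hom.app_smul φ a (show Γ(Coh.structureModule Z, ⊤) from (1 : Γ(Z, ⊤)))
  rw [show a • (show Γ(Coh.structureModule Z, ⊤) from (1 : Γ(Z, ⊤))) = a from mul_one a] at h
  exact h

theorem ofSect_comp {Z : Scheme.{u}} (a b : Γ(Z, ⊤)) :
    InvX.ofSect (M := Coh.structureModule Z) a ≫ InvX.ofSect (M := Coh.structureModule Z) b =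
      InvX.ofSect (M := Coh.structureModule Z) (a * b) := by
  refine hom_ext_one _ _ ?_
  show (InvX.ofSect (M := Coh.structureModule Z) b).app ⊤
    ((InvX.ofSect (M := Coh.structureModule Z) a).app ⊤ (1 : Γ(Z, ⊤))) = _
  rw [ofSect_app_one, ofSect_app_one, app_top_smul, ofSect_app_one]

theorem ofSect_one {Z : Scheme.{u}} : InvX.ofSect (M := Coh.structureModule Z) (1 : Γ(Z, ⊤)) = 𝟙 _ :=
  hom_ext_one _ _ (ofSect_app_one _)

/-- Automorphisms of the structure module lift when units lift. -/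
theorem exists_aut_lift {Z W : Scheme.{u}} (f : Z ⟶ W)
    (hu : ∀ v : (Γ(Z, ⊤))ˣ, ∃ w : (Γ(W, ⊤))ˣ, f.appTop (w : Γ(W, ⊤)) = (v : Γ(Z, ⊤)))
    (α : Coh.structureModule Z ≅ Coh.structureModule Z) :
    ∃ β : Coh.structureModule W ≅ Coh.structureModule W,
      (Scheme.Modules.pullback f).map β.hom ≫ (unitIso f).hom = (unitIso f).hom ≫ α.hom := by
  have h1 : (show Γ(Z, ⊤) from α.hom.app ⊤ (1 : Γ(Z, ⊤))) * (show Γ(Z, ⊤) from α.inv.app ⊤ (1 : Γ(Z, ⊤))) = 1 := by
    rw [← app_top_smul]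
    exact congr(($(α.hom_inv_id)).app ⊤ (1 : Γ(Z, ⊤)))
  obtain ⟨w, hw⟩ := hu ⟨_, _, h1, (mul_comm _ _).trans h1⟩
  refine ⟨⟨InvX.ofSect (M := Coh.structureModule W) (w : Γ(W, ⊤)),
    InvX.ofSect (M := Coh.structureModule W) ((w⁻¹ : (Γ(W, ⊤))ˣ) : Γ(W, ⊤)),
    by rw [ofSect_comp, Units.mul_inv, ofSect_one], by rw [ofSect_comp, Units.inv_mul, ofSect_one]⟩, ?_⟩
  refine (map_ofSect f _).trans ?_
  rw [hw]
  conv_rhs => rw [eq_ofSect α.hom]

/-- Choice of a compatible sequence through a given term. -/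
theorem exists_compat {A : ℕ → Type*} (r : ∀ m, A (m + 1) → A m) (n : ℕ)
    (hs : ∀ m, n ≤ m → Function.Surjective (r m)) (a : A n) :
    ∃ f : ∀ m, A m, (∀ m, r m (f (m + 1)) = f m) ∧ f n = a := by
  induction n generalizing A with
  | zero =>
    choose s hs using fun m => hs m (Nat.zero_le m)
    exact ⟨fun m => Nat.rec a (fun m x => s m x) m, fun m => hs m _, rfl⟩
  | succ n ih =>
    obtain ⟨g, hg, hga⟩ := ih (A := fun m => A (m + 1)) (fun m => r (m + 1))
      (fun m hm => hs (m + 1) (by omega)) a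
    exact ⟨fun m => Nat.casesOn m (r 0 (g 0)) g, fun m => by cases m with
      | zero => rfl
      | succ m => exact hg m, hga⟩

/-- Isomorphisms with a pullback of the structure module lift when units lift. -/
theorem exists_iso_lift {Z Z' : Scheme.{u}} {i' : Z' ⟶ V} {i : Z ⟶ V} (t : Z ⟶ Z')
    (E : Scheme.Modules.pullback i' ⋙ Scheme.Modules.pullback t ≅ Scheme.Modules.pullback i)
    (hu : ∀ v : (Γ(Z, ⊤))ˣ, ∃ w : (Γ(Z', ⊤))ˣ, t.appTop (w : Γ(Z', ⊤)) = (v : Γ(Z, ⊤))) {G : V.Modules}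
    (w : (Scheme.Modules.pullback i').obj (Coh.structureModule V) ≅ (Scheme.Modules.pullback i').obj G)
    (v : (Scheme.Modules.pullback i).obj (Coh.structureModule V) ≅ (Scheme.Modules.pullback i).obj G) :
    ∃ w' : (Scheme.Modules.pullback i').obj (Coh.structureModule V) ≅ (Scheme.Modules.pullback i').obj G,
      (E.app _).symm ≪≫ (Scheme.Modules.pullback t).mapIso w' ≪≫ E.app G = v := by
  let u' := unitIso i'
  let c := (Scheme.Modules.pullback t).mapIso u' ≪≫ unitIso t
  let γ := E.app (Coh.structureModule V) ≪≫ v ≪≫ (E.app G).symm ≪≫ ((Scheme.Modules.pullback t).mapIso w).symm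
  obtain ⟨β, hβ⟩ := exists_aut_lift t hu (c.symm ≪≫ γ ≪≫ c)
  refine ⟨u' ≪≫ β ≪≫ u'.symm ≪≫ w, ?_⟩
  have hγ : (Scheme.Modules.pullback t).mapIso (u' ≪≫ β ≪≫ u'.symm) = γ := by
    refine Iso.ext ?_
    show (Scheme.Modules.pullback t).map (u'.hom ≫ β.hom ≫ u'.inv) = γ.hom
    rw [← cancel_mono c.hom]
    show _ ≫ (Scheme.Modules.pullback t).map u'.hom ≫ (unitIso t).hom = _
    simp only [Functor.map_comp, Category.assoc, Iso.map_inv_hom_id_assoc]
    rw [hβ]
    show _ ≫ (unitIso t).hom ≫ c.inv ≫ γ.hom ≫ c.hom = _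
    rw [← Category.assoc]
    show c.hom ≫ c.inv ≫ γ.hom ≫ c.hom = _
    rw [Iso.hom_inv_id_assoc]
  calc (E.app _).symm ≪≫ (Scheme.Modules.pullback t).mapIso (u' ≪≫ β ≪≫ u'.symm ≪≫ w) ≪≫ E.app G
      = (E.app _).symm ≪≫ (γ ≪≫ (Scheme.Modules.pullback t).mapIso w) ≪≫ E.app G := by
        rw [← hγ, ← Functor.mapIso_trans]
        simp only [Iso.trans_assoc]
    _ = v := by simp [γ]

section Tower

variable {Z : ℕ → Scheme.{u}} {i : ∀ m, Z m ⟶ V} [∀ m, IsClosedImmersion (i m)]
  {t : ∀ m, Z m ⟶ Z (m + 1)} [∀ m, IsClosedImmersion (t m)] (ht : ∀ m, t m ≫ i (m + 1) = i m)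

/-- An invertible module trivial at level `n` of a tower is trivial, given formal functions and `H¹` vanishing. -/
theorem trivial_of_tower (hT : ∀ D : V.Modules, FlatMod.IsFinLocFree D → TowerBij ht D) (n : ℕ)
    (hsq : ∀ m, (t m).ker * (t m).ker = ⊥)
    (hH : ∀ m, n ≤ m → Subsingleton (Coh.HH (Z (m + 1)) (kerMod (t m)) 1))
    {G : V.Modules} (hG : PicF.IsInvertible G)
    (e : Nonempty ((Scheme.Modules.pullback (i n)).obj G ≅ Coh.structureModule _)) :
    Nonempty (G ≅ Coh.structureModule V) := by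
  let E : ∀ m, Scheme.Modules.pullback (i (m + 1)) ⋙ Scheme.Modules.pullback (t m) ≅
      Scheme.Modules.pullback (i m) := fun m =>
    Scheme.Modules.pullbackComp (t m) (i (m + 1)) ≪≫ Scheme.Modules.pullbackCongr (ht m)
  have htriv : ∀ m, n ≤ m →
      Nonempty ((Scheme.Modules.pullback (i m)).obj G ≅ Coh.structureModule _) := fun m hm => by
    induction m, hm using Nat.le_induction with
    | base => exact e
    | succ m hm ih =>
      obtain ⟨a⟩ := ih
      exact trivial_of_pullback_trivial (t m) (hsq m) (hH m hm)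
        (PicClLib.isInvertible_pullback _ hG) ⟨(E m).app G ≪≫ a⟩
  let O := Coh.structureModule V
  let A : ℕ → Type u := fun m => (Scheme.Modules.pullback (i m)).obj O ≅ (Scheme.Modules.pullback (i m)).obj G
  let r : ∀ m, A (m + 1) → A m := fun m w =>
    ((E m).app _).symm ≪≫ (Scheme.Modules.pullback (t m)).mapIso w ≪≫ (E m).app G
  obtain ⟨f, hf, -⟩ := exists_compat (A := A) r n (fun m hm v => by
    obtain ⟨a⟩ := htriv (m + 1) (by omega)
    exact exists_iso_lift (t m) (E m) (exists_unit_lift (t m) (hsq m) (hH m hm)) (unitIso _ ≪≫ a.symm) v)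
    (unitIso _ ≪≫ e.some.symm)
  have hO : FlatMod.IsFinLocFree O := H23.PullPush.isFinLocFree_of_isInvertible InvX.isInvertible_structureModule
  have hGf : FlatMod.IsFinLocFree G := H23.PullPush.isFinLocFree_of_isInvertible hG
  have hc : ∀ m, (E m).inv.app O ≫ (Scheme.Modules.pullback (t m)).map (f (m + 1)).hom ≫ (E m).hom.app G =
      (f m).hom := fun m => congrArg Iso.hom (hf m)
  have hc' : ∀ m, (E m).inv.app G ≫ (Scheme.Modules.pullback (t m)).map (f (m + 1)).inv ≫ (E m).hom.app O =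
      (f m).inv := fun m => by
    have h := congrArg Iso.inv (hf m)
    refine Eq.trans ?_ h
    exact (Category.assoc _ _ _).symm
  obtain ⟨φ, hφm, -⟩ := (hT _ (isFinLocFree_tw_dual hO hGf)).existsUnique_pullback ht hGf (fun m => (f m).hom) hc
  obtain ⟨ψ, hψm, -⟩ := (hT _ (isFinLocFree_tw_dual hGf hO)).existsUnique_pullback ht hO (fun m => (f m).inv) hc'
  have huniq : ∀ {H : V.Modules}, FlatMod.IsFinLocFree H → ∀ χ : H ⟶ H,
      (∀ m, (Scheme.Modules.pullback (i m)).map χ = 𝟙 _) → χ = 𝟙 H := fun {H} hH χ hχ => by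
    obtain ⟨χ₀, -, hu⟩ := (hT _ (isFinLocFree_tw_dual hH hH)).existsUnique_pullback ht hH
      (fun m => 𝟙 ((Scheme.Modules.pullback (i m)).obj H)) fun m => by
        rw [CategoryTheory.Functor.map_id]
        erw [Category.id_comp]
        exact (E m).inv_hom_id_app H
    exact (hu χ hχ).trans (hu (𝟙 H) fun m => CategoryTheory.Functor.map_id _ _).symm
  refine ⟨⟨ψ, φ, huniq hGf _ fun m => ?_, huniq hO _ fun m => ?_⟩⟩
  · rw [Functor.map_comp, hφm, hψm, Iso.inv_hom_id]
  · rw [Functor.map_comp, hφm, hψm, Iso.hom_inv_id]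

end Tower

variable (𝓙 : V.IdealSheafData)

/-- An invertible module trivial on the `n`-th neighbourhood is trivial, given `H¹` vanishing and formal functions. -/
theorem trivial_of_thickening
    (hLef : ∀ D : V.Modules, FlatMod.IsFinLocFree D → Lef.HomToFormalBijective 𝓙 D) (n : ℕ)
    (hH : ∀ m, n ≤ m → Subsingleton (Coh.HH ((FSch.completionAlong V 𝓙).X (m + 1))
      (kerMod ((FSch.completionAlong V 𝓙).ι m)) 1))
    {G : V.Modules} (hG : PicF.IsInvertible G)
    (e : Nonempty ((Scheme.Modules.pullback (FSch.completionToX V 𝓙 n)).obj G ≅ Coh.structureModule _)) :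
    Nonempty (G ≅ Coh.structureModule V) := by
  haveI : ∀ m, IsClosedImmersion ((FSch.completionAlong V 𝓙).ι m) := fun m =>
    inferInstanceAs (IsClosedImmersion (Scheme.IdealSheafData.inclusion (FSch.pow_succ_le V 𝓙 m)))
  exact trivial_of_tower (compl_ι_toX 𝓙) (fun D hD => towerBij_of_homToFormal 𝓙 (hLef D hD)) n
    (fun m => sq_ker_inclusion (FSch.pow_succ_le V 𝓙 m) (pow_sq_le 𝓙 m)) hH hG e

end Groth.Agent.Lef73
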