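import Groth.Agent.Lef73.Restrict
import Groth.Agent.Lef73.PicLef
import Groth.Agent.AmpleX.Generated
import Groth.Agent.AmpleX.Separated
import Groth.Agent.AmpleVan.FinGen
import Groth.Agent.AmpleVan.Tw
import Groth.Agent.VarDepth.Basic
import Groth.Agent.InvX.GenEpi
import Groth.Agent.ConsPropLib.FibreLocFree

/-!
# The formal Hom condition from negative powers of an ample module
-/

set_option backward.isDefEq.respectTransparency false
set_option backward.isDefEq.respectTransparency.types false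
set_option linter.unusedSectionVars false
set_option linter.style.haveILetI false

universe u

open CategoryTheory CategoryTheory.Limits AlgebraicGeometry TopologicalSpace Opposite
open Groth.Agent.H23.PicMul

noncomputable section

namespace Groth.Agent.Lef73

open Groth.Agent Groth.Agent.AModX

variable {X : Scheme.{u}} {Z : ℕ → Scheme.{u}} {i : ∀ n, Z n ⟶ X} [∀ n, IsClosedImmersion (i n)]
  {t : ∀ n, Z n ⟶ Z (n + 1)} (ht : ∀ n, t n ≫ i (n + 1) = i n)

/-- `TowerBij` is invariant under isomorphism. -/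
theorem TowerBij.of_iso {D D' : X.Modules} (e : D ≅ D') (h : TowerBij ht D) : TowerBij ht D' := by
  refine ⟨fun φ ψ hφψ => (cancel_epi e.hom).1 (h.1 _ _ fun n => by rw [Category.assoc, Category.assoc, hφψ n]),
    fun y hy => ?_⟩
  obtain ⟨φ, hφ⟩ := h.2 (fun n => e.hom ≫ y n) fun n => by rw [Category.assoc, hy n]
  exact ⟨e.inv ≫ φ, fun n => by rw [Category.assoc, hφ n, Iso.inv_hom_id_assoc]⟩

/-- `TowerBij` passes to coproducts. -/
theorem TowerBij.of_cofan {σ : Type*} {f : σ → X.Modules} {c : Cofan f} (hc : IsColimit c)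
    (h : ∀ k, TowerBij ht (f k)) : TowerBij ht c.pt := by
  refine ⟨fun φ ψ e => Cofan.IsColimit.hom_ext hc _ _ fun k =>
    (h k).1 _ _ fun n => ?_, fun y hy => ?_⟩
  · rw [Category.assoc, Category.assoc, e n]
  · choose φ hφ using fun k : σ => (h k).2 (fun n => c.inj k ≫ y n) fun n => by rw [Category.assoc, hy n]
    refine ⟨Cofan.IsColimit.desc hc φ, fun n => Cofan.IsColimit.hom_ext hc _ _ fun k => ?_⟩
    rw [← Category.assoc, Cofan.IsColimit.fac, hφ]

/-- Every finite locally free module is a quotient of one with the property, by one with the property. -/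
theorem towerBij_of_ample [IsLocallyNoetherian X] {L M : X.Modules} (hL : CohB1.IsAmple L)
    (hM : ClSub.IsInverseOf L M) (h : ∀ N, TowerBij ht (CohB1.tensorPow M N))
    {D : X.Modules} (hD : FlatMod.IsFinLocFree D) : TowerBij ht D := by
  haveI : CompactSpace X := hL.2.1
  haveI := AmpleX.isSeparated_of_isAmple hL
  have hMi := VarDepth.isInvertible_inverse hL.1 hM
  have h1 : PicF.cl L * PicF.cl M = 1 := cl_eq_iff.2 hM
  have key : ∀ {E : X.Modules}, FlatMod.IsFinLocFree E → ∃ (P : X.Modules) (p : P ⟶ E),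
      FlatMod.IsFinLocFree P ∧ Epi p ∧ TowerBij ht P := fun {E} hE => by
    obtain ⟨n₀, hn₀⟩ := AmpleX.eventually_generated hL (QCoh.isQCoh_of_isFinLocFree hE)
      (QCoh.isFT_of_isFP (QCoh.isFP_of_isFinLocFree hE))
    obtain ⟨G, e, _, s, hs⟩ := hn₀ n₀ le_rfl
    have hG : FlatMod.IsFinLocFree G :=
      (ConsPropLib.isFinLocFree_iso e).2 (KFlatLib.isFinLocFree_tensor hE
        (H23.PullPush.isFinLocFree_of_isInvertible (InvX.isInvertible_tensorPow hL.1 n₀)))
    obtain ⟨k, j, hj⟩ := AmpleVan.exists_fin_generatedBy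
      ⟨QCoh.isQCoh_of_isFinLocFree hG, QCoh.isFT_of_isFP (QCoh.isFP_of_isFinLocFree hG)⟩ s hs
    obtain ⟨p, hp⟩ := InvX.exists_epi_freeMod hj
    have hT := InvX.isInvertible_tensorPow hMi n₀
    let T := AmpleVan.tw (CohB1.tensorPow M n₀)
    haveI : T.IsEquivalence := AmpleVan.isEquivalence_tw hT
    obtain ⟨e'⟩ : Nonempty (T.obj G ≅ E) := cl_eq_iff.1 (by
      show PicF.cl (CohB1.tensorMod G (CohB1.tensorPow M n₀)) = _
      rw [cl_tensor, cl_eq_iff.2 ⟨e⟩, cl_tensor, cl_tensorPow, cl_tensorPow, mul_assoc, ← mul_pow, h1, one_pow, mul_one])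
    haveI := hp
    haveI : Epi (T.map p) := inferInstance
    refine ⟨T.obj (FlatMod.freeMod X k), T.map p ≫ e'.hom, ?_, epi_comp _ _, ?_⟩
    · show FlatMod.IsFinLocFree (CohB1.tensorMod (FlatMod.freeMod X k) (CohB1.tensorPow M n₀))
      exact KFlatLib.isFinLocFree_tensor (KFlatLib.isFinLocFree_freeMod k)
        (H23.PullPush.isFinLocFree_of_isInvertible hT)
    refine TowerBij.of_cofan ht (isColimitCofanMkObjOfIsColimit T _ _
      (coproductIsCoproduct (fun _ : Fin k => Coh.structureModule X))) fun _ => ?_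
    obtain ⟨e₁⟩ : Nonempty (CohB1.tensorPow M n₀ ≅ T.obj (Coh.structureModule X)) := cl_eq_iff.1 (by
      show _ = PicF.cl (CohB1.tensorMod (Coh.structureModule X) (CohB1.tensorPow M n₀))
      rw [cl_tensor]
      exact (one_mul _).symm)
    exact (h n₀).of_iso ht e₁
  obtain ⟨P, p, hP, hp, hPb⟩ := key hD
  haveI := hp
  obtain ⟨R, q, -, hq, hRb⟩ := key (KFlatLib.isFinLocFree_kernel p hP hD)
  haveI := hq
  exact TowerBij.of_presentation ht p q hPb hRb

end Groth.Agent.Lef73
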