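import Groth.Agent.Lef73.ClopenLift
import Groth.Agent.Pi1X.FEtFull
import Groth.Agent.S9716

/-!
# Full faithfulness of restriction of finite étale covers from formal functions
-/

set_option backward.isDefEq.respectTransparency false
set_option backward.isDefEq.respectTransparency.types false

universe u

open CategoryTheory CategoryTheory.Limits AlgebraicGeometry TopologicalSpace Opposite

noncomputable section

namespace Groth.Agent.Lef73

open Groth.Agent Groth.Agent.AModX

variable {S W Y : Scheme.{u}} (π : W ⟶ S) [IsAffineHom π]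
  {Z : ℕ → Scheme.{u}} {i : ∀ n, Z n ⟶ S} [∀ n, IsClosedImmersion (i n)]
  {t : ∀ n, Z n ⟶ Z (n + 1)} (ht : ∀ n, t n ≫ i (n + 1) = i n)

/-- Sections of every finite locally free module are the compatible families of sections. -/
def SectionBij : Prop :=
  ∀ G : S.Modules, FlatMod.IsFinLocFree G → ∀ y : ∀ n, Γ(red (i n) G, ⊤),
    (∀ n, (redTrans (t n) (ht n) G).app ⊤ (y (n + 1)) = y n) →
      ∃! σ : Γ(G, ⊤), ∀ n, (toRed (i n) G).app ⊤ σ = y n

theorem range_preLvl (n : ℕ) :
    Set.range (preLvl π i n).subschemeι.base = π.base ⁻¹' Set.range (i n).base := by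
  rw [Scheme.IdealSheafData.range_subschemeι, Scheme.IdealSheafData.support_comap,
    TopologicalSpace.Closeds.coe_preimage, Scheme.Hom.support_ker,
    ((i n).isClosedEmbedding).isClosed_range.closure_eq]

theorem isClopen_basicOpen_of_idem {P : Scheme.{u}} {a : Γ(P, ⊤)} (ha : a * a = a) :
    IsClopen (P.basicOpen a : Set P) := by
  refine ⟨?_, (P.basicOpen a).isOpen⟩
  rw [← isOpen_compl_iff, ← HensCouple7.basicOpen_compl_of_idem ha]
  exact (P.basicOpen (1 - a)).isOpen

theorem coe_basicOpen_appTop {P Q : Scheme.{u}} (f : P ⟶ Q) (a : Γ(Q, ⊤)) :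
    (P.basicOpen (f.appTop a) : Set P) = f.base ⁻¹' (Q.basicOpen a : Set Q) := by
  rw [← Scheme.preimage_basicOpen_top]
  rfl

variable (h : ∀ y : ∀ n, Γ(red (i n) (pushO π), ⊤),
  (∀ n, (redTrans (t n) (ht n) (pushO π)).app ⊤ (y (n + 1)) = y n) →
    ∃! σ : Γ(pushO π, ⊤), ∀ n, (toRed (i n) (pushO π)).app ⊤ σ = y n)

include h in
/-- Clopen subsets of the closed fibre extend. -/
theorem exists_isClopen_of_closed (c : Y ⟶ W) [IsClosedImmersion c]
    (hr : ∀ n, π.base ⁻¹' Set.range (i n).base = Set.range c.base) (C : Set Y) (hC : IsClopen C) :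
    ∃ G : Set W, IsClopen G ∧ c.base ⁻¹' G = C := by
  have hrange : ∀ n, Set.range (preLvl π i n).subschemeι.base = Set.range c.base := fun n =>
    (range_preLvl π n).trans (hr n)
  have hinj : Function.Injective c.base := (c.isClosedEmbedding).injective
  have hcl : ∀ A : Set Y, IsClosed A → IsClosed (c.base '' A) := fun A hA =>
    (c.isClosedEmbedding).isClosedMap _ hA
  have hD : ∀ n, IsClopen ((preLvl π i n).subschemeι.base ⁻¹' (c.base '' C)) := fun n => by
    refine ⟨(hcl C hC.1).preimage (preLvl π i n).subschemeι.continuous, ?_⟩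
    rw [← isClosed_compl_iff]
    convert (hcl _ hC.compl.1).preimage (preLvl π i n).subschemeι.continuous using 1
    ext p
    obtain ⟨y, hy⟩ : (preLvl π i n).subschemeι.base p ∈ Set.range c.base := hrange n ▸ ⟨p, rfl⟩
    simp only [Set.mem_compl_iff, Set.mem_preimage]
    rw [← hy, hinj.mem_set_image, hinj.mem_set_image]
    rfl
  choose ε hε hεD using fun n => HensCouple7.exists_idempotent_of_isClopen (hD n)
  obtain ⟨σ, hσ, huniq⟩ := existsUnique_function π ht h ε fun n => by
    refine HensCouple7.eq_of_basicOpen_eq (by rw [← map_mul, hε]) (hε n) ?_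
    rw [coe_basicOpen_appTop, hεD, hεD, ← Set.preimage_comp]
    congr 1
    funext p
    show (Scheme.IdealSheafData.inclusion (preLvl_le π ht n) ≫ (preLvl π i (n + 1)).subschemeι) p = _
    rw [Scheme.IdealSheafData.inclusion_subschemeι]
  have hσ2 : σ * σ = σ := huniq _ fun n => by rw [map_mul, hσ, hε]
  refine ⟨(W.basicOpen σ : Set W), isClopen_basicOpen_of_idem hσ2, ?_⟩
  ext y
  obtain ⟨p, hp⟩ : c.base y ∈ Set.range (preLvl π i 0).subschemeι.base := (hrange 0).symm ▸ ⟨y, rfl⟩
  rw [Set.mem_preimage, ← hp, ← Set.mem_preimage, ← coe_basicOpen_appTop, hσ, hεD, Set.mem_preimage,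
    hp, hinj.mem_set_image]

include h in
/-- The closed fibre meets every nonempty clopen subset. -/
theorem clopen_inter_nonempty (G : Set W) (hG : IsClopen G) (hne : G.Nonempty) :
    ∃ n, (G ∩ π.base ⁻¹' Set.range (i n).base).Nonempty := by
  by_contra hcon
  push Not at hcon
  obtain ⟨e, he, heG⟩ := HensCouple7.exists_idempotent_of_isClopen hG
  have h0 : ∀ n, (preLvl π i n).subschemeι.appTop e = 0 := fun n => by
    refine HensCouple7.eq_of_basicOpen_eq (by rw [← map_mul, he]) (mul_zero _) ?_
    rw [coe_basicOpen_appTop, heG, Scheme.basicOpen_zero]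
    refine Set.eq_empty_iff_forall_notMem.2 fun p hp => ?_
    exact (Set.eq_empty_iff_forall_notMem.1 (hcon n)) _ ⟨hp, range_preLvl (i := i) π n ▸ ⟨p, rfl⟩⟩
  obtain ⟨σ, -, huniq⟩ := existsUnique_function π ht h (fun _ => 0) fun n => map_zero _
  have : e = 0 := (huniq e h0).trans (huniq 0 fun n => map_zero _).symm
  rw [this, Scheme.basicOpen_zero] at heG
  exact hne.ne_empty heG.symm

omit π h in
theorem isFinLocFree_pushO_of_prop {f : W ⟶ S} (hf : FEt.prop f) :
    FlatMod.IsFinLocFree (pushO f) := by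
  haveI : IsFinite f := hf.1
  haveI : Etale f := hf.2
  exact ((S9716.result f).2 ⟨inferInstance, inferInstance, inferInstance⟩).2

theorem isFinLocFree_pushO_id : FlatMod.IsFinLocFree (pushO (𝟙 S)) :=
  ((S9716.result (𝟙 S)).2 ⟨inferInstance, inferInstance, inferInstance⟩).2

include ht in
/-- Restriction of finite étale covers to a closed subscheme with the same support is fully faithful. -/
theorem restrict_full_faithful (hS : SectionBij ht) (c₀ : Y ⟶ S) [IsClosedImmersion c₀]
    (hr : ∀ n, Set.range (i n).base = Set.range c₀.base) :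
    (FEt.restrict c₀).Full ∧ (FEt.restrict c₀).Faithful := by
  have hmeet : ∀ C : Set S, IsClopen C → C.Nonempty → (C ∩ Set.range c₀.base).Nonempty := fun C hC hne => by
    obtain ⟨n, x, hx, hx'⟩ := clopen_inter_nonempty (𝟙 S) ht (hS _ isFinLocFree_pushO_id) C hC hne
    exact ⟨x, hx, hr n ▸ hx'⟩
  refine ⟨Pi1X.restrict_full c₀ hmeet fun W C hC => ?_, Pi1X.restrict_faithful c₀ hmeet⟩
  let g : W.left ⟶ S := W.hom
  haveI : IsFinite g := W.prop.1
  haveI : IsClosedImmersion (pullback.fst W.hom c₀) := inferInstance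
  exact exists_isClopen_of_closed g ht (hS _ (isFinLocFree_pushO_of_prop (f := g) W.prop))
    (pullback.fst W.hom c₀) (fun n => by rw [hr n, Scheme.Pullback.range_fst]; rfl) C hC

end Groth.Agent.Lef73
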