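import Groth.Agent.AModX.Res
import Groth.Agent.H23.Frame
import Groth.Agent.H23.TensorDesc
import Groth.Agent.AmpleVan.Mul

/-!
# The dual of a module and the evaluation pairing

Sections of the dual over `W` are families of linear forms on the smaller opens, compatible with
restriction.  Over a frame of the module the coordinate forms make a frame of the dual.
-/

set_option backward.isDefEq.respectTransparency false
set_option backward.isDefEq.respectTransparency.types false

universe u

open CategoryTheory CategoryTheory.Limits AlgebraicGeometry TopologicalSpace Opposite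

noncomputable section

namespace Groth.Agent.Lef73

open Groth.Agent Groth.Agent.AModX

variable {X : Scheme.{u}} (G : X.Modules)

/-- Families of linear forms on the opens below `W`. -/
abbrev FormFam (W : X.Opens) : Type u :=
  ∀ V : {V : X.Opens // V ≤ W}, Γ(G, V.1) →ₗ[Γ(X, V.1)] Γ(X, V.1)

/-- Compatibility with restriction. -/
def IsNat {W : X.Opens} (f : FormFam G W) : Prop :=
  ∀ (V V' : X.Opens) (h : V ≤ W) (h' : V' ≤ V) (m : Γ(G, V)),
    resR h' (f ⟨V, h⟩ m) = f ⟨V', h'.trans h⟩ (res G h' m)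

/-- Linear forms over `W`. -/
def formGrp (W : X.Opens) : AddSubgroup (FormFam G W) where
  carrier := {f | IsNat G f}
  add_mem' := fun {a b} ha hb V V' h h' m => by
    simp only [Pi.add_apply, LinearMap.add_apply, map_add, ha V V' h h' m, hb V V' h h' m]
  zero_mem' := fun V V' h h' m => by simp
  neg_mem' := fun {a} ha V V' h h' m => by
    simp only [Pi.neg_apply, LinearMap.neg_apply, map_neg, ha V V' h h' m]

variable {G}

theorem formGrp_ext {W : X.Opens} {a b : formGrp G W}
    (h : ∀ (V : X.Opens) (hV : V ≤ W) (m : Γ(G, V)), a.1 ⟨V, hV⟩ m = b.1 ⟨V, hV⟩ m) : a = b :=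
  Subtype.ext (funext fun V => LinearMap.ext (h V.1 V.2))

instance formModule (W : X.Opens) : Module Γ(X, W) (formGrp G W) where
  smul r a := ⟨fun V => resR V.2 r • a.1 V, fun V V' h h' m => by
    simp only [LinearMap.smul_apply, smul_eq_mul, map_mul, resR_resR, a.2 V V' h h' m]⟩
  one_smul a := formGrp_ext fun V hV m => by
    show resR hV 1 * a.1 ⟨V, hV⟩ m = _
    rw [map_one, one_mul]
  mul_smul r s a := formGrp_ext fun V hV m => by
    show resR hV (r * s) * _ = resR hV r * (resR hV s * _)
    rw [map_mul, mul_assoc]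
  smul_zero r := formGrp_ext fun V hV m => by
    show resR hV r * 0 = 0
    rw [mul_zero]
  smul_add r a b := formGrp_ext fun V hV m => by
    show resR hV r * (a.1 ⟨V, hV⟩ m + b.1 ⟨V, hV⟩ m) = resR hV r * _ + resR hV r * _
    rw [mul_add]
  add_smul r s a := formGrp_ext fun V hV m => by
    show resR hV (r + s) * _ = resR hV r * _ + resR hV s * _
    rw [map_add, add_mul]
  zero_smul a := formGrp_ext fun V hV m => by
    show resR hV 0 * _ = 0
    rw [map_zero, zero_mul]

theorem form_smul_val {W : X.Opens} (r : Γ(X, W)) (a : formGrp G W) (V : X.Opens) (hV : V ≤ W)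
    (m : Γ(G, V)) : (r • a).1 ⟨V, hV⟩ m = resR hV r * a.1 ⟨V, hV⟩ m := rfl

variable (G)

/-- Restriction of forms. -/
def formRes {W W' : X.Opens} (h : W' ≤ W) : formGrp G W →+ formGrp G W' where
  toFun a := ⟨fun V => a.1 ⟨V.1, V.2.trans h⟩, fun V V' h₁ h₂ m => a.2 V V' (h₁.trans h) h₂ m⟩
  map_zero' := rfl
  map_add' _ _ := rfl

/-- The presheaf of forms. -/
def formPsh : (X.Opens)ᵒᵖ ⥤ Ab.{u} where
  obj W := AddCommGrpCat.of (formGrp G W.unop)
  map {W W'} i := AddCommGrpCat.ofHom (formRes G i.unop.le)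

instance (W : (X.Opens)ᵒᵖ) : Module (X.ringCatSheaf.obj.obj W) ((formPsh G).obj W) :=
  inferInstanceAs (Module Γ(X, W.unop) (formGrp G W.unop))

/-- The dual as a presheaf of modules. -/
def formPMod : X.PresheafOfModules :=
  PresheafOfModules.ofPresheaf (R := X.ringCatSheaf.obj) (formPsh G) fun W W' i r a =>
    formGrp_ext fun V hV m => by
      show resR _ (show Γ(X, W.unop) from r) * _ = resR _ (resR _ (show Γ(X, W.unop) from r)) * _
      rw [resR_resR]
      rfl

theorem formPMod_isSheaf :
    Presheaf.IsSheaf (Opens.grothendieckTopology X) (formPMod G).presheaf := by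
  refine (TopCat.Presheaf.isSheaf_iff_isSheafUniqueGluing (X := X.toPresheafedSpace.carrier)
    (formPsh G)).2 fun J W sf hsf => ?_
  have hex : ∀ (V : X.Opens) (_ : V ≤ iSup W) (m : Γ(G, V)), ∃! g : Γ(X, V),
      ∀ j, resR (inf_le_left : V ⊓ W j ≤ V) g =
        (sf j).1 ⟨V ⊓ W j, inf_le_right⟩ (res G inf_le_left m) := fun V hV m => by
    refine existsUnique_glue (M := Coh.structureModule X) (fun j => V ⊓ W j) (fun j => inf_le_left)
      (fun p hp => ?_) (fun j => (sf j).1 ⟨V ⊓ W j, inf_le_right⟩ (res G inf_le_left m)) fun i j => ?_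
    · obtain ⟨j, hj⟩ := Opens.mem_iSup.1 (hV hp)
      exact ⟨j, hp, hj⟩
    · refine (((sf i).2 _ _ inf_le_right inf_le_left _).trans ?_).trans
        ((sf j).2 _ _ inf_le_right inf_le_right _).symm
      rw [res_res, res_res]
      exact congrArg (fun a : formGrp G (W i ⊓ W j) => a.1 ⟨(V ⊓ W i) ⊓ (V ⊓ W j),
        le_inf (inf_le_left.trans inf_le_right) (inf_le_right.trans inf_le_right)⟩
          (res G (inf_le_left.trans inf_le_left) m)) (hsf i j)
  choose g hg huniq using hex
  have hadd : ∀ V hV (m m' : Γ(G, V)), g V hV (m + m') = g V hV m + g V hV m' := fun V hV m m' =>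
    (huniq V hV _ _ fun j => by simp only [map_add, hg V hV m j, hg V hV m' j]).symm
  have hsmul : ∀ V hV (r : Γ(X, V)) (m : Γ(G, V)), g V hV (r • m) = r * g V hV m := fun V hV r m =>
    (huniq V hV _ _ fun j => by
      simp only [map_mul, hg V hV m j, res_smul, map_smul]; rfl).symm
  let t : FormFam G (iSup W) := fun V =>
    { toFun := g V.1 V.2, map_add' := hadd V.1 V.2, map_smul' := hsmul V.1 V.2 }
  have ht : IsNat G t := fun V V' h h' m => huniq V' (h'.trans h) _ _ fun j => by
    have e := congrArg (resR (inf_le_inf_right (W j) h' : V' ⊓ W j ≤ V ⊓ W j)) (hg V h m j)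
    rw [resR_resR, (sf j).2 _ _ _ _, res_res] at e
    rw [resR_resR, res_res]
    exact e
  refine ⟨(⟨t, ht⟩ : formGrp G (iSup W)), fun j => formGrp_ext fun V hV m => ?_, fun t' ht' =>
    formGrp_ext fun V hV m => huniq V hV m _ fun j => ?_⟩
  · show g V _ m = (sf j).1 ⟨V, hV⟩ m
    refine (huniq V _ m _ fun i => ?_).symm
    rw [(sf j).2 V (V ⊓ W i) hV inf_le_left]
    exact congrArg (fun a : formGrp G (W j ⊓ W i) => a.1 ⟨V ⊓ W i, le_inf (inf_le_left.trans hV) inf_le_right⟩
      (res G inf_le_left m)) (hsf j i)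
  · rw [(show formGrp G (iSup W) from t').2 V (V ⊓ W j) hV inf_le_left]
    exact congrArg (fun a : formGrp G (W j) => a.1 ⟨V ⊓ W j, inf_le_right⟩ (res G inf_le_left m)) (ht' j)

/-- The dual module. -/
def dual : X.Modules := ⟨formPMod G, formPMod_isSheaf G⟩

variable {G}

/-- A section of the dual as a family of forms. -/
def forms {W : X.Opens} (f : Γ(dual G, W)) : formGrp G W := f

/-- A family of forms as a section of the dual. -/
def ofForms {W : X.Opens} (f : formGrp G W) : Γ(dual G, W) := f

theorem forms_res {W W' : X.Opens} (h : W' ≤ W) (f : Γ(dual G, W)) (V : X.Opens) (hV : V ≤ W') (m : Γ(G, V)) :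
    (forms (res (dual G) h f)).1 ⟨V, hV⟩ m = (forms f).1 ⟨V, hV.trans h⟩ m := rfl

theorem forms_smul {W : X.Opens} (r : Γ(X, W)) (f : Γ(dual G, W)) (V : X.Opens) (hV : V ≤ W) (m : Γ(G, V)) :
    (forms (r • f)).1 ⟨V, hV⟩ m = resR hV r * (forms f).1 ⟨V, hV⟩ m := rfl

theorem dual_ext {W : X.Opens} {f f' : Γ(dual G, W)}
    (h : ∀ (V : X.Opens) (hV : V ≤ W) (m : Γ(G, V)), (forms f).1 ⟨V, hV⟩ m = (forms f').1 ⟨V, hV⟩ m) : f = f' :=
  formGrp_ext (a := forms f) (b := forms f') h

/-- Evaluation of a form at a section. -/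
def pairVal {W : X.Opens} (m : Γ(G, W)) (f : Γ(dual G, W)) : Γ(X, W) := (forms f).1 ⟨W, le_rfl⟩ m

theorem pairVal_res {W V : X.Opens} (h : V ≤ W) (m : Γ(G, W)) (f : Γ(dual G, W)) :
    resR h (pairVal m f) = pairVal (res G h m) (res (dual G) h f) :=
  (forms f).2 W V le_rfl h m

theorem pairVal_smul_left {W : X.Opens} (r : Γ(X, W)) (m : Γ(G, W)) (f : Γ(dual G, W)) :
    pairVal (r • m) f = r * pairVal m f := map_smul _ _ _

theorem pairVal_smul_right {W : X.Opens} (r : Γ(X, W)) (m : Γ(G, W)) (f : Γ(dual G, W)) :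
    pairVal m (r • f) = r * pairVal m f := by
  rw [pairVal, forms_smul, resR_self]; rfl

variable (G)

/-- Evaluation as bilinear maps. -/
def pairBilin : H23.TensorDesc.Bilin G (dual G) (Coh.structureModule X) where
  b _ m f := pairVal m f
  add_left _ _ _ _ := map_add _ _ _
  smul_left _ r m f := pairVal_smul_left r m f
  add_right _ _ _ _ := rfl
  smul_right _ r m f := pairVal_smul_right r m f
  res h m f := pairVal_res h m f

/-- The evaluation pairing. -/
def evPair : (AmpleVan.tw (dual G)).obj G ⟶ Coh.structureModule X :=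
  H23.TensorDesc.desc (pairBilin G)

theorem evPair_tmul {W : X.Opens} (m : Γ(G, W)) (f : Γ(dual G, W)) :
    (evPair G).app W (InvX.tmul m f) = pairVal m f :=
  H23.TensorDesc.desc_tmul (pairBilin G) W m f

section Frame

variable {G} {n : ℕ} {U : X.Opens} {s : Fin n → Γ(G, U)} (hs : H23.Frame.IsFrame G s)

theorem comb_eq (W : X.Opens) (h : W ≤ U) (c : Fin n → Γ(X, W)) :
    H23.Frame.comb G s W h c = ∑ i, c i • res G h (s i) := rfl

/-- Coordinates in a frame. -/
def coord (W : X.Opens) (h : W ≤ U) (m : Γ(G, W)) : Fin n → Γ(X, W) :=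
  (Equiv.ofBijective _ (hs W h)).symm m

theorem sum_coord (W : X.Opens) (h : W ≤ U) (m : Γ(G, W)) :
    ∑ i, coord hs W h m i • res G h (s i) = m :=
  (Equiv.ofBijective _ (hs W h)).apply_symm_apply m

theorem coord_eq {W : X.Opens} (h : W ≤ U) {m : Γ(G, W)} {c : Fin n → Γ(X, W)}
    (hc : ∑ i, c i • res G h (s i) = m) : coord hs W h m = c :=
  (Equiv.ofBijective _ (hs W h)).symm_apply_eq.2 hc.symm

theorem coord_res {W W' : X.Opens} (h : W ≤ U) (h' : W' ≤ W) (m : Γ(G, W)) (i : Fin n) :
    resR h' (coord hs W h m i) = coord hs W' (h'.trans h) (res G h' m) i := by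
  refine (congrFun (coord_eq hs (h'.trans h) (c := fun i => resR h' (coord hs W h m i)) ?_) i).symm
  conv_rhs => rw [← sum_coord hs W h m, map_sum]
  simp only [res_smul, res_res]

theorem coord_frame (W : X.Opens) (h : W ≤ U) (i j : Fin n) :
    coord hs W h (res G h (s i)) j = if i = j then 1 else 0 := by
  classical
  refine congrFun (coord_eq hs h (c := fun j => if i = j then 1 else 0) ?_) j
  simp [ite_smul]

theorem coord_add (W : X.Opens) (h : W ≤ U) (m m' : Γ(G, W)) :
    coord hs W h (m + m') = coord hs W h m + coord hs W h m' :=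
  coord_eq hs h (by simp only [Pi.add_apply, add_smul, Finset.sum_add_distrib, sum_coord])

theorem coord_smul (W : X.Opens) (h : W ≤ U) (r : Γ(X, W)) (m : Γ(G, W)) :
    coord hs W h (r • m) = r • coord hs W h m :=
  coord_eq hs h (by simp only [Pi.smul_apply, smul_eq_mul, mul_smul, ← Finset.smul_sum, sum_coord])

/-- The coordinate forms. -/
def coordForm (i : Fin n) : Γ(dual G, U) :=
  ofForms ⟨fun V =>
    { toFun := fun m => coord hs V.1 V.2 m i
      map_add' := fun m m' => congrFun (coord_add hs V.1 V.2 m m') i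
      map_smul' := fun r m => congrFun (coord_smul hs V.1 V.2 r m) i },
    fun V V' h h' m => coord_res hs h h' m i⟩

theorem pairVal_coordForm (W : X.Opens) (h : W ≤ U) (m : Γ(G, W)) (i : Fin n) :
    pairVal m (res (dual G) h (coordForm hs i)) = coord hs W h m i := rfl

/-- The coordinate forms make a frame of the dual. -/
theorem isFrame_coordForm : H23.Frame.IsFrame (dual G) (coordForm hs) := by
  classical
  intro W h
  have key : ∀ (c : Fin n → Γ(X, W)) (V : X.Opens) (hV : V ≤ W) (m : Γ(G, V)),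
      (forms (H23.Frame.comb (dual G) (coordForm hs) W h c)).1 ⟨V, hV⟩ m =
        ∑ i, resR hV (c i) * coord hs V (hV.trans h) m i := by
    intro c V hV m
    let g : Γ(dual G, W) →+ Γ(X, V) :=
      { toFun := fun f => (forms f).1 ⟨V, hV⟩ m, map_zero' := rfl, map_add' := fun _ _ => rfl }
    show g (∑ i, c i • res (dual G) h (coordForm hs i)) = _
    rw [map_sum]
    rfl
  refine ⟨fun c c' hcc => funext fun j => ?_, fun f => ⟨fun i => pairVal (res G h (s i)) f, dual_ext fun V hV m => ?_⟩⟩
  · have e := congrArg (fun f => (forms f).1 ⟨W, le_rfl⟩ (res G h (s j))) hcc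
    simp only [key, resR_self, coord_frame, mul_ite, mul_one, mul_zero, Finset.sum_ite_eq,
      Finset.mem_univ, if_true] at e
    exact e
  · rw [key]
    conv_rhs => rw [← sum_coord hs V (hV.trans h) m, map_sum]
    refine Finset.sum_congr rfl fun i _ => ?_
    rw [pairVal, (forms f).2 W V le_rfl hV, res_res, map_smul, smul_eq_mul, mul_comm]

end Frame

variable {G}

/-- The dual of a finite locally free module is finite locally free. -/
theorem isFinLocFree_dual (hG : FlatMod.IsFinLocFree G) : FlatMod.IsFinLocFree (dual G) := fun x => by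
  obtain ⟨U, n, hx, ⟨e⟩⟩ := hG x
  obtain ⟨s, hs⟩ := H23.Frame.exists_frame e
  exact ⟨U, n, hx, H23.Frame.exists_iso_of_frame _ (isFrame_coordForm hs)⟩

end Groth.Agent.Lef73
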