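import Groth.Agent.Lef73.PicLef

/-!
# Thickenings inside an open neighbourhood
-/

set_option backward.isDefEq.respectTransparency false
set_option backward.isDefEq.respectTransparency.types false
set_option linter.unusedSectionVars false
set_option linter.style.haveILetI false

universe u

open CategoryTheory CategoryTheory.Limits AlgebraicGeometry TopologicalSpace Opposite

noncomputable section

namespace Groth.Agent.Lef73

open Groth.Agent

variable {X : Scheme.{u}}

/-- A closed subscheme contained in an open is a closed subscheme of that open. -/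
theorem exists_subscheme_iso_open (U : X.Opens) (K : X.IdealSheafData) (hK : (K.support : Set X) ⊆ (U : Set X))
    (K' : (U : Scheme.{u}).IdealSheafData) (h : K' = K.comap U.ι) :
    ∃ e : K'.subscheme ⟶ K.subscheme, IsIso e ∧ e ≫ K.subschemeι = K'.subschemeι ≫ U.ι := by
  subst h
  haveI : Surjective (pullback.snd U.ι K.subschemeι) := by
    refine ⟨Set.range_eq_univ.1 ?_⟩
    rw [Scheme.Pullback.range_snd, Scheme.Opens.range_ι, Set.eq_univ_iff_forall]
    intro z
    exact hK (Scheme.IdealSheafData.range_subschemeι K ▸ ⟨z, rfl⟩ : K.subschemeι z ∈ (K.support : Set X))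
  haveI : IsIso (pullback.snd U.ι K.subschemeι) :=
    (isIso_iff_isOpenImmersion_and_surjective _).2 ⟨inferInstance, inferInstance⟩
  refine ⟨(K.comapIso U.ι).hom ≫ pullback.snd U.ι K.subschemeι, inferInstance, ?_⟩
  rw [Category.assoc, ← pullback.condition, Scheme.IdealSheafData.comapIso_hom_fst_assoc]

/-- Vanishing for the graded pieces on `X` gives it on the thickenings inside `U`. -/
theorem subsingleton_HH_step (𝓘 : X.IdealSheafData) (U : X.Opens) (hU : (𝓘.support : Set X) ⊆ (U : Set X))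
    (m p : ℕ) (h : Subsingleton (Coh.HH X (kernel (Lef.quotMap (Lef.pow_succ_le 𝓘 m))) p)) :
    Subsingleton (Coh.HH ((FSch.completionAlong (U : Scheme.{u}) (𝓘.comap U.ι)).X (m + 1))
      (kerMod ((FSch.completionAlong (U : Scheme.{u}) (𝓘.comap U.ι)).ι m)) p) := by
  obtain ⟨e, he, hec⟩ := exists_subscheme_iso_open U (𝓘 ^ (m + 1))
    (by rwa [Scheme.IdealSheafData.support_pow_succ]) _ (comap_pow 𝓘 U.ι (m + 1)).symm
  obtain ⟨e', he', hec'⟩ := exists_subscheme_iso_open U (𝓘 ^ (m + 2))
    (by rwa [Scheme.IdealSheafData.support_pow_succ]) _ (comap_pow 𝓘 U.ι (m + 2)).symm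
  haveI : IsClosedImmersion ((FSch.completionAlong (U : Scheme.{u}) (𝓘.comap U.ι)).ι m) :=
    inferInstanceAs (IsClosedImmersion (Scheme.IdealSheafData.inclusion (FSch.pow_succ_le _ _ m)))
  refine subsingleton_HH_kerMod_of_square _ (Scheme.IdealSheafData.inclusion (Lef.pow_succ_le 𝓘 m)) e e' ?_ p
    (subsingleton_HH_kerMod_inclusion _ p h)
  rw [← cancel_mono (𝓘 ^ (m + 2)).subschemeι, Category.assoc, Category.assoc, hec',
    Scheme.IdealSheafData.inclusion_subschemeι, hec]
  exact congrArg (fun z => z ≫ U.ι) (Scheme.IdealSheafData.inclusion_subschemeι (FSch.pow_succ_le _ (𝓘.comap U.ι) m))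

/-- Two invertible modules on `U` isomorphic on a thickening are isomorphic. -/
theorem iso_of_thickening (𝓘 : X.IdealSheafData) (hLef : Lef.LefCond X 𝓘) (p : ℕ)
    (hH : ∀ m, p ≤ m → Subsingleton (Coh.HH X (kernel (Lef.quotMap (Lef.pow_succ_le 𝓘 m))) 1))
    (U : X.Opens) (hU : (𝓘.support : Set X) ⊆ (U : Set X)) (n : ℕ) (hn : p ≤ n)
    {L L' : (U : Scheme.{u}).Modules} (hL : PicF.IsInvertible L) (hL' : PicF.IsInvertible L')
    (e : Nonempty ((Scheme.Modules.pullback (FSch.completionToX (U : Scheme.{u}) (𝓘.comap U.ι) n)).obj L ≅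
      (Scheme.Modules.pullback (FSch.completionToX (U : Scheme.{u}) (𝓘.comap U.ι) n)).obj L')) :
    Nonempty (L ≅ L') := by
  let f := FSch.completionToX (U : Scheme.{u}) (𝓘.comap U.ι) n
  letI := H23.PicMul.law (U : Scheme.{u})
  letI := H23.PicMul.law ((FSch.completionAlong (U : Scheme.{u}) (𝓘.comap U.ι)).X n)
  let hf := H23.PicMul.pullMul f
  obtain ⟨G, hG, hc⟩ := PicGrp.exists_eq_cls (PicGrp.cls L hL * (PicGrp.cls L' hL')⁻¹)
  have h1 : PicGrp.pullHom f hf (PicGrp.cls G hG) = 1 := by
    rw [← hc, map_mul, map_inv, mul_inv_eq_one, cls_pullback, cls_pullback, PicGrp.cls_eq_cls_iff]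
    exact e
  rw [cls_pullback, PicGrp.cls_eq_one_iff] at h1
  have h2 := trivial_of_thickening (𝓘.comap U.ι) (hLef U hU) n
    (fun m hm => subsingleton_HH_step 𝓘 U hU m 1 (hH m (hn.trans hm))) hG h1
  rw [← PicGrp.cls_eq_one_iff hG, ← hc, mul_inv_eq_one, PicGrp.cls_eq_cls_iff] at h2
  exact h2

end Groth.Agent.Lef73
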