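import Groth.Agent.Lef73.SectionCrit

/-!
# Maps into finite locally free modules as compatible families
-/

set_option backward.isDefEq.respectTransparency false
set_option backward.isDefEq.respectTransparency.types false
set_option linter.unusedSectionVars false

universe u

open CategoryTheory CategoryTheory.Limits AlgebraicGeometry TopologicalSpace Opposite

noncomputable section

namespace Groth.Agent.Lef73

open Groth.Agent Groth.Agent.AModX

variable {X : Scheme.{u}}
  {Z : ℕ → Scheme.{u}} {i : ∀ n, Z n ⟶ X} [∀ n, IsClosedImmersion (i n)]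
  {t : ∀ n, Z n ⟶ Z (n + 1)} (ht : ∀ n, t n ≫ i (n + 1) = i n)

/-- Maps between finite locally free modules are the compatible families of maps to the reductions. -/
def MapBij : Prop :=
  ∀ F G : X.Modules, FlatMod.IsFinLocFree F → FlatMod.IsFinLocFree G → ∀ y : ∀ n, F ⟶ red (i n) G,
    (∀ n, y (n + 1) ≫ redTrans (t n) (ht n) G = y n) → ∃! φ : F ⟶ G, ∀ n, φ ≫ toRed (i n) G = y n

theorem mapBij_of_towerBij (hD : ∀ D : X.Modules, FlatMod.IsFinLocFree D → TowerBij ht D) : MapBij ht :=
  fun _ _ hF hG => (hD _ (isFinLocFree_tw_dual hF hG)).existsUnique ht hG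

theorem sectionBij_of_mapBij (h : MapBij ht) : SectionBij ht := by
  intro G hG
  refine existsUnique_section_of_pullback ht fun v hv => ?_
  obtain ⟨φ, hφ, huniq⟩ := h _ G isFinLocFree_structureModule hG
    (fun n => ((Scheme.Modules.pullbackPushforwardAdjunction (i n)).homEquiv _ _) (v n)) fun n => by
      rw [homEquiv_redTrans]
      congr 1
      exact (Iso.inv_comp_eq ((Scheme.Modules.pullbackComp (t n) (i (n + 1)) ≪≫
        Scheme.Modules.pullbackCongr (ht n)).app (Coh.structureModule X))).2 (hv n)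
  refine ⟨φ, fun n => ((Scheme.Modules.pullbackPushforwardAdjunction (i n)).homEquiv _ _).injective
    ((adj_map φ n).trans (hφ n)), fun φ' hφ' => huniq φ' fun n => ?_⟩
  rw [← adj_map, hφ']

/-- Levelwise bijectivity for maps of pullbacks gives `MapBij`. -/
theorem mapBij_of_pullback
    (h : ∀ F G : X.Modules, FlatMod.IsFinLocFree F → FlatMod.IsFinLocFree G →
      ∀ v : ∀ n, (Scheme.Modules.pullback (i n)).obj F ⟶ (Scheme.Modules.pullback (i n)).obj G,
      (∀ n, (Scheme.Modules.pullback (t n)).map (v (n + 1)) ≫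
          (Scheme.Modules.pullbackComp (t n) (i (n + 1)) ≪≫ Scheme.Modules.pullbackCongr (ht n)).hom.app G =
        (Scheme.Modules.pullbackComp (t n) (i (n + 1)) ≪≫ Scheme.Modules.pullbackCongr (ht n)).hom.app F ≫ v n) →
      ∃! φ : F ⟶ G, ∀ n, (Scheme.Modules.pullback (i n)).map φ = v n) : MapBij ht := by
  intro F G hF hG y hy
  let A := fun n => (Scheme.Modules.pullbackPushforwardAdjunction (i n)).homEquiv F
    ((Scheme.Modules.pullback (i n)).obj G)
  obtain ⟨φ, hφ, huniq⟩ := h F G hF hG (fun n => (A n).symm (y n)) fun n => by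
    have e := congrArg (A n).symm (hy n)
    rw [show y (n + 1) = (A (n + 1)) ((A (n + 1)).symm (y (n + 1))) from (Equiv.apply_symm_apply _ _).symm,
      homEquiv_redTrans, Equiv.symm_apply_apply] at e
    exact (Iso.inv_comp_eq ((Scheme.Modules.pullbackComp (t n) (i (n + 1)) ≪≫
      Scheme.Modules.pullbackCongr (ht n)).app F)).1 e
  refine ⟨φ, fun n => ?_, fun φ' hφ' => huniq φ' fun n => ?_⟩
  · rw [← adj_map φ n, hφ n]
    exact Equiv.apply_symm_apply _ _
  · rw [Equiv.eq_symm_apply]
    exact (adj_map φ' n).trans (hφ' n)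

omit ht

theorem mapBij_of_completion (𝓙 : X.IdealSheafData)
    (h : ∀ F G : X.Modules, FlatMod.IsFinLocFree F → FlatMod.IsFinLocFree G →
      Function.Bijective (fun φ : F ⟶ G => FSch.complModMap 𝓙 φ)) :
    MapBij (i := FSch.completionToX X 𝓙) (compl_ι_toX 𝓙) :=
  mapBij_of_pullback (compl_ι_toX 𝓙) fun F G hF hG v hv => by
    simp only [← complTransIso_eq] at hv
    obtain ⟨φ, hφ⟩ := (h F G hF hG).2 ⟨v, hv⟩
    refine ⟨φ, fun n => congrFun (congrArg FSch.ModSys.Hom.app hφ) n, fun φ' hφ' => (h F G hF hG).1 ?_⟩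
    exact (FSch.ModSys.Hom.ext (funext hφ')).trans hφ.symm

theorem mapBij_of_lef (𝓙 : X.IdealSheafData)
    (h : ∀ D : X.Modules, FlatMod.IsFinLocFree D → Lef.HomToFormalBijective 𝓙 D) :
    MapBij (i := FSch.completionToX X 𝓙) (compl_ι_toX 𝓙) :=
  mapBij_of_towerBij _ fun D hD => towerBij_of_homToFormal 𝓙 (h D hD)

end Groth.Agent.Lef73
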