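import Groth.Agent.Lef73.AmpleTower
import Groth.Agent.Lef73.Ample
import Groth.Agent.Lef73.MapBij
import Groth.Agent.Lef73.LefSteps
import Groth.Agent.VarDepth.ConnZero
import Groth.Agent.ArSurfX.IdealFrame
import Groth.Agent.QCoh.HHExact
import Groth.Agent.S8914

/-!
# The Lefschetz condition for an ample divisor over a field
-/

set_option backward.isDefEq.respectTransparency false
set_option backward.isDefEq.respectTransparency.types false
set_option linter.unusedSectionVars false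
set_option linter.style.haveILetI false

universe u

open CategoryTheory CategoryTheory.Limits AlgebraicGeometry TopologicalSpace Opposite
open Groth.Agent.H23.PicMul

noncomputable section

namespace Groth.Agent.Lef73

open Groth.Agent Groth.Agent.AModX

variable {X : Scheme.{u}}

theorem epi_unitToPush {Z : Scheme.{u}} (i : Z ⟶ X) [IsClosedImmersion i] : Epi (ClSub.unitToPush i) := by
  haveI := epi_toRed i (QCoh.isQCoh_structureModule (X := X))
  rw [← homEquiv_unitIso, Adjunction.homEquiv_unit]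
  exact epi_comp' inferInstance inferInstance

theorem shortExact_idealMod (K : X.IdealSheafData) :
    (ShortComplex.mk (ClSub.idealModι K) (ClSub.toSubscheme K) (kernel.condition _)).ShortExact :=
  haveI := epi_unitToPush K.subschemeι
  { exact := ShortComplex.exact_kernel _
    mono_f := inferInstanceAs (Mono (kernel.ι _))
    epi_g := inferInstanceAs (Epi (ClSub.unitToPush K.subschemeι)) }

theorem cl_idealMod_pow {𝓘 : X.IdealSheafData} (h : BlowUp.IsEffCartierIdeal 𝓘) (n : ℕ) :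
    PicF.cl (ClSub.idealMod (𝓘 ^ n)) = PicF.cl (ClSub.idealMod 𝓘) ^ n := by
  induction n with
  | zero =>
    obtain ⟨e⟩ := ArSurfX.nonempty_idealMod_one (X := X)
    rw [pow_zero, pow_zero, ← cl_eq_iff.2 ⟨e⟩]
    rfl
  | succ n ih =>
    rw [pow_succ, pow_succ, ← cl_eq_iff.2 (ArSurfX.nonempty_idealMod_mul (ArSurfX.isEffCartier_pow h n) h),
      cl_tensor, ih]

/-- Homomorphisms out of `P` as sections after twisting by an inverse: uniqueness. -/
theorem hom_eq_zero_of_twist (T : X.Modules ⥤ X.Modules) [T.IsEquivalence] {P I : X.Modules}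
    (e : T.obj P ≅ Coh.structureModule X) (h : Subsingleton (Coh.HH X (T.obj I) 0)) (ψ : P ⟶ I) : ψ = 0 := by
  refine T.map_injective ?_
  rw [← cancel_epi e.inv]
  refine hom_ext_one _ _ ?_
  haveI : Subsingleton Γ(T.obj I, ⊤) :=
    (Sheaf.H.equiv₀ (Coh.toAb (T.obj I)) isTerminalTop).toEquiv.symm.subsingleton
  exact Subsingleton.elim _ _

/-- Homomorphisms out of `P` as sections after twisting by an inverse: existence. -/
theorem exists_lift_of_twist (T : X.Modules ⥤ X.Modules) [T.IsEquivalence] {P : X.Modules}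
    (e : T.obj P ≅ Coh.structureModule X) {S : ShortComplex X.Modules} (hS : S.ShortExact)
    (h : Subsingleton (Coh.HH X (T.obj S.X₁) 1)) (y : P ⟶ S.X₃) : ∃ φ : P ⟶ S.X₂, φ ≫ S.g = y := by
  have hT : (S.map T).ShortExact := hS.map_of_exact T
  obtain ⟨s, hs⟩ := QCoh.app_top_surjective_of_HH_one hT h ((e.inv ≫ T.map y).app ⊤ (1 : Γ(X, ⊤)))
  obtain ⟨φ, hφ⟩ := T.map_surjective (e.hom ≫ InvX.ofSect (M := T.obj S.X₂) s)
  refine ⟨φ, T.map_injective ?_⟩
  rw [T.map_comp, hφ, ← cancel_epi e.inv, Category.assoc, Iso.inv_hom_id_assoc]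
  refine hom_ext_one _ _ ?_
  show (T.map S.g).app ⊤ ((InvX.ofSect (M := T.obj S.X₂) s).app ⊤ (1 : Γ(X, ⊤))) = _
  rw [ofSect_app_one]
  exact hs

variable (k : Type u) [Field k] [X.Over (Spec (CommRingCat.of k))] [IsProper (X ↘ Spec (CommRingCat.of k))]
  (𝓘 : X.IdealSheafData) {L : X.Modules}

include k in
theorem towerBij_pow (hL : ClSub.IsInverseOf L (ClSub.idealMod 𝓘)) (hamp : CohB1.IsAmple L)
    (hdepth : ∀ x : X, IsClosed ({x} : Set X) → (2 : ℕ∞) ≤ LocCoh.depth (X.presheaf.stalk x) (X.presheaf.stalk x))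
    (a : ℕ) : TowerBij (i := FSch.completionToX X 𝓘) (compl_ι_toX 𝓘) (CohB1.tensorPow (ClSub.idealMod 𝓘) a) := by
  obtain ⟨n₀, hv⟩ := VarDepth.vanish_pow k hamp hL hdepth
  have hMi := VarDepth.isInvertible_inverse hamp.1 hL
  have hE := (S8914.result 𝓘).1 hMi
  have h1 : PicF.cl L * PicF.cl (ClSub.idealMod 𝓘) = 1 := cl_eq_iff.2 hL
  let P := CohB1.tensorPow (ClSub.idealMod 𝓘) a
  let T := AmpleVan.tw (CohB1.tensorPow L a)
  haveI : T.IsEquivalence := AmpleVan.isEquivalence_tw (InvX.isInvertible_tensorPow hamp.1 a)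
  obtain ⟨e⟩ : Nonempty (T.obj P ≅ Coh.structureModule X) := cl_eq_iff.1 (by
    show PicF.cl (CohB1.tensorMod P (CohB1.tensorPow L a)) = _
    rw [cl_tensor, cl_tensorPow, cl_tensorPow, ← mul_pow, mul_comm, h1, one_pow]
    rfl)
  have hT : ∀ n, n₀ + a ≤ n + 1 → ∀ q, q ≤ 1 → Subsingleton (Coh.HH X (T.obj (ClSub.idealMod (𝓘 ^ (n + 1)))) q) :=
      fun n hn q hq => by
    obtain ⟨e'⟩ : Nonempty (CohB1.tensorPow (ClSub.idealMod 𝓘) (n + 1 - a) ≅ T.obj (ClSub.idealMod (𝓘 ^ (n + 1)))) :=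
      cl_eq_iff.1 (by
        show _ = PicF.cl (CohB1.tensorMod (ClSub.idealMod (𝓘 ^ (n + 1))) (CohB1.tensorPow L a))
        rw [cl_tensor, cl_idealMod_pow hE, cl_tensorPow, cl_tensorPow]
        conv_rhs => rw [show n + 1 = (n + 1 - a) + a from by omega, pow_add, mul_assoc, ← mul_pow,
          mul_comm (PicF.cl (ClSub.idealMod 𝓘)) (PicF.cl L), h1, one_pow, mul_one])
    have := hv (n + 1 - a) (by omega)
    rcases Nat.le_one_iff_eq_zero_or_eq_one.1 hq with rfl | rfl
    · exact AmpleVan.subsingleton_of_iso e' _ this.1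
    · exact AmpleVan.subsingleton_of_iso e' _ this.2
  have inj : ∀ n, n₀ + a ≤ n + 1 → ∀ φ ψ : P ⟶ Coh.structureModule X,
      φ ≫ ClSub.toSubscheme (𝓘 ^ (n + 1)) = ψ ≫ ClSub.toSubscheme (𝓘 ^ (n + 1)) → φ = ψ := fun n hn φ ψ h => by
    have h0 : (φ - ψ) ≫ ClSub.toSubscheme (𝓘 ^ (n + 1)) = 0 := by rw [Preadditive.sub_comp, h, sub_self]
    rw [← sub_eq_zero, ← kernel.lift_ι _ _ h0, hom_eq_zero_of_twist T e (hT n hn 0 zero_le_one) (kernel.lift _ _ h0),
      zero_comp]
  refine ⟨fun φ ψ h => inj (n₀ + a) (by omega) φ ψ (h _), fun y hy => ?_⟩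
  choose z hz using fun j : ℕ => exists_lift_of_twist T e (shortExact_idealMod (𝓘 ^ (n₀ + a + j + 1)))
    (hT (n₀ + a + j) (by omega) 1 le_rfl) (y (n₀ + a + j))
  have hdown : ∀ n (φ : P ⟶ Coh.structureModule X),
      φ ≫ ClSub.unitToPush (FSch.completionToX X 𝓘 (n + 1)) = y (n + 1) →
        φ ≫ ClSub.unitToPush (FSch.completionToX X 𝓘 n) = y n := fun n φ h => by
    rw [← hy n, ← h, Category.assoc, toSub_oTrans]
  have hconst : ∀ j, z j = z 0 := fun j => by
    induction j with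
    | zero => rfl
    | succ j ih =>
      rw [← ih]
      exact inj (n₀ + a + j) (by omega) _ _ ((hdown _ _ (hz (j + 1))).trans (hz j).symm)
  refine ⟨z 0, fun n => ?_⟩
  rcases le_or_gt (n₀ + a) n with hn | hn
  · obtain ⟨j, rfl⟩ := Nat.exists_eq_add_of_le hn
    rw [← hconst j]
    exact hz j
  · obtain ⟨j, hj⟩ := Nat.exists_eq_add_of_le hn.le
    induction j generalizing n with
    | zero => omega
    | succ j ih =>
      refine hdown n _ ?_
      rcases eq_or_lt_of_le (Nat.succ_le_of_lt hn) with h' | h'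
      · rw [show n + 1 = n₀ + a from h']
        exact hz 0
      · exact ih (n + 1) h' (by omega)

include k in
/-- The Lefschetz condition for an ample effective Cartier divisor in depth two. -/
theorem lefCond_of_ample (hL : ClSub.IsInverseOf L (ClSub.idealMod 𝓘)) (hamp : CohB1.IsAmple L)
    (hdepth : ∀ x : X, IsClosed ({x} : Set X) → (2 : ℕ∞) ≤ LocCoh.depth (X.presheaf.stalk x) (X.presheaf.stalk x)) :
    Lef.LefCond X 𝓘 := by
  intro U hU D hD
  haveI := CurveCohLib.isNoetherian_of_proper (k := k) (X := X)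
  haveI : CompactSpace (U : Scheme.{u}) := isCompact_iff_compactSpace.1 (NoetherianSpace.isCompact (U : Set X))
  have hout : ∀ x : X, x ∉ U → (2 : ℕ∞) ≤ LocCoh.depth (X.presheaf.stalk x) (X.presheaf.stalk x) := by
    intro x hx
    refine hdepth x ?_
    let J := Scheme.IdealSheafData.vanishingIdeal ⟨(U : Set X)ᶜ, U.2.isClosed_compl⟩
    have hJ : Set.range J.subschemeι.base = (U : Set X)ᶜ := by
      rw [Scheme.IdealSheafData.range_subschemeι, Scheme.IdealSheafData.coe_support_vanishingIdeal]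
      rfl
    haveI : IsFinite (J.subschemeι ≫ X ↘ Spec (CommRingCat.of k)) :=
      isFinite_of_disjoint (X ↘ Spec (CommRingCat.of k)) 𝓘 hL hamp J.subschemeι (by
        rw [hJ, Set.disjoint_left]
        exact fun y hy hy' => hy (hU hy'))
    haveI : IsLocallyArtinian (Spec (CommRingCat.of k)) :=
      Scheme.isLocallyArtinianScheme_Spec.2 (inferInstanceAs (IsArtinianRing k))
    haveI := IsLocallyArtinian.of_locallyQuasiFinite (J.subschemeι ≫ X ↘ Spec (CommRingCat.of k))
    haveI := (IsLocallyArtinian.iff_isLocallyNoetherian_and_discreteTopology.1 this).2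
    obtain ⟨z, rfl⟩ : x ∈ Set.range J.subschemeι.base := hJ ▸ hx
    rw [← Set.image_singleton]
    exact J.subschemeι.isClosedEmbedding.isClosedMap _ (isClosed_discrete _)
  have hpow : ∀ n, ((𝓘 ^ (n + 1)).support : Set X) ⊆ (U : Set X) := fun n => by
    rwa [Scheme.IdealSheafData.support_pow_succ]
  choose a ha hac using fun n =>
    exists_subscheme_iso_open U (𝓘 ^ (n + 1)) (hpow n) _ (comap_pow 𝓘 U.ι (n + 1)).symm
  let Z' := (FSch.completionAlong (U : Scheme.{u}) (𝓘.comap U.ι)).X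
  let c : ∀ n, Z' n ≅ (FSch.completionAlong X 𝓘).X n := fun n => haveI := ha n; asIso (a n)
  let g : ∀ n, (FSch.completionAlong X 𝓘).X n ⟶ U := fun n =>
    (c n).inv ≫ FSch.completionToX (U : Scheme.{u}) (𝓘.comap U.ι) n
  have hg : ∀ n, g n ≫ U.ι = FSch.completionToX X 𝓘 n := fun n => by
    rw [Category.assoc, Iso.inv_comp_eq]
    exact (hac n).symm
  haveI : ∀ n, IsClosedImmersion (g n) := fun n => by
    show IsClosedImmersion ((c n).inv ≫ _)
    infer_instance
  have htg : ∀ n, (FSch.completionAlong X 𝓘).ι n ≫ g (n + 1) = g n := fun n => by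
    rw [← cancel_mono U.ι, Category.assoc, hg, hg]
    exact compl_ι_toX 𝓘 n
  let LU := (Scheme.Modules.pullback U.ι).obj L
  let MU := (Scheme.Modules.pullback U.ι).obj (ClSub.idealMod 𝓘)
  have hLM : ClSub.IsInverseOf LU MU := cl_eq_iff.1 (by
    rw [cl_tensor]
    show PicF.pullCl U.ι (PicF.cl L) * PicF.pullCl U.ι (PicF.cl (ClSub.idealMod 𝓘)) = _
    rw [← pullCl_mul, show PicF.cl L * PicF.cl (ClSub.idealMod 𝓘) = 1 from cl_eq_iff.2 hL, pullCl_one]
    rfl)
  refine towerBij_of_ample (i := FSch.completionToX (U : Scheme.{u}) (𝓘.comap U.ι)) (compl_ι_toX _)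
    (isAmple_pullback_opens hamp U) hLM (fun N => ?_) hD
  obtain ⟨e⟩ : Nonempty ((CohB1.tensorPow (ClSub.idealMod 𝓘) N).restrict U.ι ≅ CohB1.tensorPow MU N) :=
    cl_eq_iff.1 (by
      rw [cl_eq_iff.2 ⟨(Scheme.Modules.restrictFunctorIsoPullback U.ι).app _⟩, cl_tensorPow]
      show PicF.pullCl U.ι (PicF.cl (CohB1.tensorPow (ClSub.idealMod 𝓘) N)) = _
      rw [cl_tensorPow, pullCl_pow]
      rfl)
  refine TowerBij.of_iso _ e (towerBij_transport htg (compl_ι_toX _) c (fun n => ?_)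
    (towerBij_restrict hg (compl_ι_toX 𝓘) htg hout (towerBij_pow k 𝓘 hL hamp hdepth N)))
  exact (c n).hom_inv_id_assoc _

end Groth.Agent.Lef73
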