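import Groth.Agent.PP38.GrCoh
import Groth.Agent.QCoh.AffineCohom
import Groth.Agent.QCoh.OpenSub
import Groth.Agent.QCoh.TensorUnit
import Groth.Prelude.Def_Lef

/-!
# The ideal of a closed subscheme as a module, and its cohomology
-/

set_option backward.isDefEq.respectTransparency false
set_option backward.isDefEq.respectTransparency.types false

universe u

open CategoryTheory CategoryTheory.Limits AlgebraicGeometry TopologicalSpace Opposite

noncomputable section

namespace Groth.Agent.Lef73

open Groth.Agent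

variable {A B C : Scheme.{u}}

/-- The kernel of `O ⟶ t_* O`. -/
abbrev kerMod (t : A ⟶ B) : B.Modules := kernel (ClSub.unitToPush t)

theorem unitToPush_comp (a : A ⟶ B) (b : B ⟶ C) :
    ClSub.unitToPush (a ≫ b) = ClSub.unitToPush b ≫ (Scheme.Modules.pushforward b).map (ClSub.unitToPush a) ≫
      (Scheme.Modules.pushforwardComp a b).hom.app _ := by
  refine QCoh.hom_ext_app fun W r => ?_
  rfl

/-- The kernel is unchanged by an isomorphism of the subscheme. -/
def kerModIsoComp (e : A ⟶ B) [IsIso e] (t : B ⟶ C) [IsIso (ClSub.unitToPush e)] :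
    kerMod (e ≫ t) ≅ kerMod t :=
  kernelIsoOfEq (unitToPush_comp e t) ≪≫ kernelCompMono _ _

theorem isIso_unitToPush (e : A ⟶ B) [IsIso e] : IsIso (ClSub.unitToPush e) := by
  refine QCoh.isIso_of_isBasis _ B.isBasis_affineOpens fun U _ => ?_
  exact ConcreteCategory.bijective_of_isIso (e.app U)

/-- The kernel of `O ⟶ t_* O` pushed forward along an isomorphism. -/
def pushKerModIso (t : A ⟶ B) (e : B ⟶ C) [IsIso (ClSub.unitToPush e)] :
    (Scheme.Modules.pushforward e).obj (kerMod t) ≅ kerMod (t ≫ e) :=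
  PreservesKernel.iso _ _ ≪≫
    (kernelCompMono ((Scheme.Modules.pushforward e).map (ClSub.unitToPush t))
      ((Scheme.Modules.pushforwardComp t e).hom.app _)).symm ≪≫
    (kernelIsIsoComp (ClSub.unitToPush e) _).symm ≪≫
    kernelIsoOfEq (unitToPush_comp t e).symm

/-- `ker (O/I ⟶ O/J)` is the direct image of the ideal of `V(J)` in `V(I)`. -/
def pushKerQuotIso {I J : B.IdealSheafData} (h : I ≤ J) :
    (Scheme.Modules.pushforward I.subschemeι).obj (kerMod (Scheme.IdealSheafData.inclusion h)) ≅
      kernel (Lef.quotMap h) :=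
  PreservesKernel.iso _ _ ≪≫
    (kernelCompMono ((Scheme.Modules.pushforward I.subschemeι).map (ClSub.unitToPush _))
      ((Scheme.Modules.pushforwardComp (Scheme.IdealSheafData.inclusion h) I.subschemeι).hom.app _ ≫
        (Scheme.Modules.pushforwardCongr (Scheme.IdealSheafData.inclusion_subschemeι h)).hom.app _)).symm

theorem isQCoh_kerMod (t : A ⟶ B) [IsAffineHom t] : Coh.IsQCoh (kerMod t) :=
  QCoh.isQCoh_kernel QCoh.isQCoh_structureModule (QCoh.isQCoh_pushforward t QCoh.isQCoh_structureModule) _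

theorem subsingleton_HH_push (f : A ⟶ B) [IsAffineHom f] {M : A.Modules} (hM : Coh.IsQCoh M) (p : ℕ) :
    Subsingleton (Coh.HH A M p) ↔ Subsingleton (Coh.HH B ((Scheme.Modules.pushforward f).obj M) p) := by
  obtain ⟨e⟩ := QCoh.HH_push_of_isAffineHom f hM p
  exact e.toEquiv.subsingleton_congr

/-- Vanishing of cohomology of the ideal, transported along a commutative square with isomorphisms. -/
theorem subsingleton_HH_kerMod_of_square {A' B' : Scheme.{u}} (t : A ⟶ B) (t' : A' ⟶ B') [IsAffineHom t]
    (e : A ⟶ A') (e' : B ⟶ B') [IsIso e] [IsIso e'] (h : t ≫ e' = e ≫ t') (p : ℕ)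
    (h' : Subsingleton (Coh.HH B' (kerMod t') p)) : Subsingleton (Coh.HH B (kerMod t) p) := by
  haveI := isIso_unitToPush e
  haveI := isIso_unitToPush e'
  rw [subsingleton_HH_push e' (isQCoh_kerMod t)]
  exact QCoh.subsingleton_HH_of_iso
    (pushKerModIso t e' ≪≫ kernelIsoOfEq (show ClSub.unitToPush (t ≫ e') = _ from rfl) ≪≫
      eqToIso (congrArg kerMod h) ≪≫ kerModIsoComp e t').symm p h'

/-- The cohomology of `ker (O/I ⟶ O/J)` computed on `V(I)`. -/
theorem subsingleton_HH_kerMod_inclusion {I J : B.IdealSheafData} (h : I ≤ J) (p : ℕ)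
    (h' : Subsingleton (Coh.HH B (kernel (Lef.quotMap h)) p)) :
    Subsingleton (Coh.HH I.subscheme (kerMod (Scheme.IdealSheafData.inclusion h)) p) := by
  rw [subsingleton_HH_push I.subschemeι (isQCoh_kerMod _)]
  exact QCoh.subsingleton_HH_of_iso (pushKerQuotIso h).symm p h'

theorem subsingleton_HH_idealMod_ker (t : A ⟶ B) [IsClosedImmersion t] (p : ℕ)
    (h : Subsingleton (Coh.HH B (kerMod t) p)) : Subsingleton (Coh.HH B (ClSub.idealMod t.ker) p) := by
  haveI : IsIso t.toImage := inferInstance
  haveI := isIso_unitToPush t.toImage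
  have e : kerMod t = kerMod (t.toImage ≫ t.ker.subschemeι) := congrArg kerMod t.toImage_imageι.symm
  exact QCoh.subsingleton_HH_of_iso (eqToIso e ≪≫ kerModIsoComp t.toImage t.ker.subschemeι) p h

end Groth.Agent.Lef73
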