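import Groth.Agent.Lef73.Pairing
import Groth.Agent.QCoh.ClosedPush
import Groth.Agent.AmpleVan.LiftFibre
import Groth.Agent.QCoh.LocFree
import Groth.Prelude.Def_ClSub2

/-!
# Reduction of the evaluation pairing modulo a closed subscheme
-/

set_option backward.isDefEq.respectTransparency false
set_option backward.isDefEq.respectTransparency.types false

universe u

open CategoryTheory CategoryTheory.Limits AlgebraicGeometry TopologicalSpace Opposite

noncomputable section

namespace Groth.Agent.Lef73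

open Groth.Agent Groth.Agent.AModX

variable {X Z : Scheme.{u}} (i : Z ⟶ X)

/-- `i_* i^* G`. -/
abbrev red (G : X.Modules) : X.Modules :=
  (Scheme.Modules.pushforward i).obj ((Scheme.Modules.pullback i).obj G)

/-- `G ⟶ i_* i^* G`. -/
abbrev toRed (G : X.Modules) : G ⟶ red i G :=
  (Scheme.Modules.pullbackPushforwardAdjunction i).unit.app G

theorem epi_toRed [IsClosedImmersion i] {G : X.Modules} (hG : Coh.IsQCoh G) : Epi (toRed i G) := by
  refine ⟨fun {M} g g' e => QCoh.hom_ext_app fun W s => eq_of_locally _ _ fun p hp => ?_⟩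
  obtain ⟨_, ⟨U, hU, rfl⟩, hpU, hUW⟩ := X.isBasis_affineOpens.exists_subset_of_mem_open
    (show p ∈ (W : Set X) from hp) W.2
  have hUW' : U ≤ W := hUW
  refine ⟨U, hUW', hpU, ?_⟩
  rw [← app_res, ← app_res]
  obtain ⟨t, ht⟩ := (QCoh.unit_app_closed i hG hU).1 (res (red i G) hUW' s)
  rw [← ht]
  exact congr(($e).app U t)

variable (G : X.Modules)

/-- The transpose of `ev` followed by the reduction. -/
def redTranspose : G ⟶ (SheafHomX.hom (dual G)).obj ((Scheme.Modules.pushforward i).obj (Coh.structureModule Z)) :=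
  (SheafHomX.adj (dual G)).homEquiv _ _ (evPair G ≫ ClSub.unitToPush i)

/-- The transpose factored through `i_* i^* G`. -/
def redTranspose' : red i G ⟶ (SheafHomX.hom (dual G)).obj ((Scheme.Modules.pushforward i).obj (Coh.structureModule Z)) :=
  (Scheme.Modules.pushforward i).map
      (((Scheme.Modules.pullbackPushforwardAdjunction i).homEquiv _ _).symm
        (redTranspose i G ≫ (AmpleVan.pushHomIso i (dual G)).inv.app _)) ≫
    (AmpleVan.pushHomIso i (dual G)).hom.app _

theorem toRed_redTranspose' : toRed i G ≫ redTranspose' i G = redTranspose i G := by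
  rw [redTranspose', ← Category.assoc]
  erw [← Adjunction.homEquiv_unit, Equiv.apply_symm_apply]
  rw [Category.assoc, Iso.inv_hom_id_app]
  exact Category.comp_id _

/-- The reduced pairing `i_* i^* G ⊗ G^∨ ⟶ i_* O`. -/
def redPair : (AmpleVan.tw (dual G)).obj (red i G) ⟶ (Scheme.Modules.pushforward i).obj (Coh.structureModule Z) :=
  ((SheafHomX.adj (dual G)).homEquiv _ _).symm (redTranspose' i G)

theorem map_toRed_redPair :
    (AmpleVan.tw (dual G)).map (toRed i G) ≫ redPair i G = evPair G ≫ ClSub.unitToPush i := by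
  rw [redPair]
  erw [← Adjunction.homEquiv_naturality_left_symm, toRed_redTranspose', redTranspose, Equiv.symm_apply_apply]

theorem redPair_tmul {W : X.Opens} (m : Γ(G, W)) (f : Γ(dual G, W)) :
    (redPair i G).app W (InvX.tmul ((toRed i G).app W m) f) =
      (show Γ(Z, i ⁻¹ᵁ W) from (i.app W).hom (pairVal m f)) := by
  have h := congr(($(map_toRed_redPair i G)).app W (InvX.tmul m f))
  refine Eq.trans ?_ (h.trans ?_)
  · show _ = (redPair i G).app W (((AmpleVan.tw (dual G)).map (toRed i G)).app W (InvX.tmul m f))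
    rw [AmpleVan.map_tmul_left]
  · show (i.app W).hom ((evPair G).app W (InvX.tmul m f)) = _
    rw [evPair_tmul]

variable {G}

/-- `y ↦ (y ⊗ 1) ≫` the reduced pairing. -/
def toRedForm {F : X.Modules} (y : F ⟶ red i G) :
    (AmpleVan.tw (dual G)).obj F ⟶ (Scheme.Modules.pushforward i).obj (Coh.structureModule Z) :=
  (AmpleVan.tw (dual G)).map y ≫ redPair i G

theorem toRedForm_comp {F : X.Modules} (φ : F ⟶ G) :
    toRedForm i (φ ≫ toRed i G) = toForm φ ≫ ClSub.unitToPush i := by
  simp only [toRedForm, toForm, Functor.map_comp, Category.assoc, map_toRed_redPair]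

theorem toRedForm_tmul {F : X.Modules} (y : F ⟶ red i G) {W : X.Opens} (a : Γ(F, W)) (f : Γ(dual G, W)) :
    (toRedForm i y).app W (InvX.tmul a f) = (redPair i G).app W (InvX.tmul (y.app W a) f) := by
  show (redPair i G).app W (((AmpleVan.tw (dual G)).map y).app W (InvX.tmul a f)) = _
  rw [AmpleVan.map_tmul_left]

theorem toRedForm_injective [IsClosedImmersion i] (hG : FlatMod.IsFinLocFree G) {F : X.Modules} :
    Function.Injective (toRedForm (F := F) (G := G) i) := by
  intro y y' h
  refine QCoh.hom_ext_app fun W a => eq_of_locally _ _ fun p hp => ?_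
  obtain ⟨U₀, n, hpU, ⟨e⟩⟩ := hG p
  obtain ⟨s, hs⟩ := H23.Frame.exists_frame e
  obtain ⟨_, ⟨U, hU, rfl⟩, hpU', hUW⟩ := X.isBasis_affineOpens.exists_subset_of_mem_open
    (show p ∈ ((W ⊓ U₀ : X.Opens) : Set X) from ⟨hp, hpU⟩) (W ⊓ U₀).2
  have hW : U ≤ W := fun x hx => (hUW hx).1
  have hU₀ : U ≤ U₀ := fun x hx => (hUW hx).2
  refine ⟨U, hW, hpU', ?_⟩
  rw [← app_res, ← app_res]
  have hq := QCoh.isQCoh_of_isFinLocFree hG
  obtain ⟨b, hb⟩ := (QCoh.unit_app_closed i hq hU).1 (y.app U (res F hW a))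
  obtain ⟨b', hb'⟩ := (QCoh.unit_app_closed i hq hU).1 (y'.app U (res F hW a))
  rw [← hb, ← hb', ← sum_coord hs U hU₀ b, ← sum_coord hs U hU₀ b']
  rw [map_sum, map_sum]
  refine Finset.sum_congr rfl fun k _ => ?_
  rw [Scheme.Modules.Hom.app_smul, Scheme.Modules.Hom.app_smul]
  let m : Γ((Scheme.Modules.pullback i).obj G, i ⁻¹ᵁ U) :=
    (toRed i G).app U (res G hU₀ (s k))
  show (i.app U).hom (coord hs U hU₀ b k) • m = (i.app U).hom (coord hs U hU₀ b' k) • m
  refine congrArg (· • m) ?_
  have e := congr(($h).app U (InvX.tmul (res F hW a) (res (dual G) hU₀ (coordForm hs k))))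
  rw [toRedForm_tmul, toRedForm_tmul, ← hb, ← hb'] at e
  erw [redPair_tmul, redPair_tmul] at e
  rwa [pairVal_coordForm, pairVal_coordForm] at e

end Groth.Agent.Lef73
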