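import Groth.Agent.Lef73.AlgCompletion
import Groth.Agent.Lef73.LefSteps
import Groth.Agent.ParaFX.Closed

/-!
# Extension of finite étale covers to a neighbourhood
-/

set_option backward.isDefEq.respectTransparency false
set_option backward.isDefEq.respectTransparency.types false
set_option linter.style.haveILetI false
set_option linter.unusedSectionVars false

universe u

open CategoryTheory CategoryTheory.Limits AlgebraicGeometry TopologicalSpace Opposite

noncomputable section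

namespace Groth.Agent.Lef73

open Groth.Agent

theorem pullback_coherence {Z Z' U X : Scheme.{u}} (t : Z ⟶ Z') (g' : Z' ⟶ U) (v : U ⟶ X) {g : Z ⟶ U} {i : Z ⟶ X}
    {i' : Z' ⟶ X} (hg : t ≫ g' = g) (hi' : g' ≫ v = i') (hi : g ≫ v = i) (ht : t ≫ i' = i) (G : X.Modules) :
    (Scheme.Modules.pullback t).map ((Scheme.Modules.pullbackComp g' v ≪≫ Scheme.Modules.pullbackCongr hi').hom.app G) ≫
      (Scheme.Modules.pullbackComp t i' ≪≫ Scheme.Modules.pullbackCongr ht).hom.app G =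
    (Scheme.Modules.pullbackComp t g' ≪≫ Scheme.Modules.pullbackCongr hg).hom.app ((Scheme.Modules.pullback v).obj G) ≫
      (Scheme.Modules.pullbackComp g v ≪≫ Scheme.Modules.pullbackCongr hi).hom.app G := by
  subst hg hi' hi
  have h := congr(($(Scheme.Modules.pseudofunctor_associativity t g' v)).app G)
  simp [Scheme.Modules.pullbackCongr] at h ⊢
  rw [← cancel_epi ((Scheme.Modules.pullback t).map ((Scheme.Modules.pullbackComp g' v).inv.app G)),
    ← cancel_epi ((Scheme.Modules.pullbackComp t (g' ≫ v)).inv.app G)]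
  simp [← Functor.map_comp_assoc, h]

section Transport

variable {X : Scheme.{u}}

theorem redTrans_comp {Z Z' Z'' : Scheme.{u}} {i : Z ⟶ X} {i' : Z' ⟶ X} {i'' : Z'' ⟶ X} [IsClosedImmersion i'']
    (a : Z ⟶ Z') (b : Z' ⟶ Z'') (ha : a ≫ i' = i) (hb : b ≫ i'' = i') {G : X.Modules} (hG : Coh.IsQCoh G) :
    redTrans b hb G ≫ redTrans a ha G = redTrans (a ≫ b) (by rw [Category.assoc, hb, ha]) G := by
  haveI := epi_toRed i'' hG
  rw [← cancel_epi (toRed i'' G), reassoc_of% toRed_redTrans b hb G, toRed_redTrans, toRed_redTrans]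

theorem redTrans_id {Z : Scheme.{u}} {i : Z ⟶ X} [IsClosedImmersion i] {G : X.Modules} (hG : Coh.IsQCoh G) :
    redTrans (𝟙 Z) (Category.id_comp i) G = 𝟙 _ := by
  haveI := epi_toRed i hG
  rw [← cancel_epi (toRed i G), toRed_redTrans, Category.comp_id]

theorem redTrans_congr {Z Z' : Scheme.{u}} {i : Z ⟶ X} {i' : Z' ⟶ X} {a b : Z ⟶ Z'} (e : a = b)
    (ha : a ≫ i' = i) (G : X.Modules) : redTrans a ha G = redTrans b (e ▸ ha) G := by
  subst e
  rfl

variable {Z Z' : ℕ → Scheme.{u}} {i : ∀ n, Z n ⟶ X} {i' : ∀ n, Z' n ⟶ X} [∀ n, IsClosedImmersion (i n)]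
  [∀ n, IsClosedImmersion (i' n)]
  {t : ∀ n, Z n ⟶ Z (n + 1)} {t' : ∀ n, Z' n ⟶ Z' (n + 1)}
  (ht : ∀ n, t n ≫ i (n + 1) = i n) (ht' : ∀ n, t' n ≫ i' (n + 1) = i' n)

/-- `MapBij` only depends on the closed subschemes. -/
theorem mapBij_transport (e : ∀ n, Z' n ≅ Z n) (he : ∀ n, (e n).hom ≫ i n = i' n) (h : MapBij ht') : MapBij ht := by
  intro F G hF hG y hy
  have hq := QCoh.isQCoh_of_isFinLocFree hG
  have he' : ∀ n, (e n).inv ≫ i' n = i n := fun n => by rw [← he n, Iso.inv_hom_id_assoc]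
  have hsq : ∀ n, t' n ≫ (e (n + 1)).hom = (e n).hom ≫ t n := fun n => by
    rw [← cancel_mono (i (n + 1)), Category.assoc, Category.assoc, he, ht, ht', he]
  let r : ∀ n, red (i n) G ⟶ red (i' n) G := fun n => redTrans (e n).hom (he n) G
  let r' : ∀ n, red (i' n) G ⟶ red (i n) G := fun n => redTrans (e n).inv (he' n) G
  have hrr : ∀ n, r n ≫ r' n = 𝟙 _ := fun n => by
    show redTrans _ _ G ≫ redTrans _ _ G = _
    rw [redTrans_comp _ _ _ _ hq, redTrans_congr (e n).inv_hom_id, redTrans_id hq]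
  obtain ⟨φ, hφ, huniq⟩ := h F G hF hG (fun n => y n ≫ r n) fun n => by
    show (y (n + 1) ≫ redTrans _ _ G) ≫ redTrans _ _ G = y n ≫ redTrans _ _ G
    rw [Category.assoc, redTrans_comp _ _ _ _ hq, redTrans_congr (hsq n), ← redTrans_comp _ _ _ (ht n) hq,
      ← Category.assoc, hy n]
  refine ⟨φ, fun n => ?_, fun φ' hφ' => huniq φ' fun n => ?_⟩
  · have e1 := congrArg (· ≫ r' n) (hφ n)
    simp only [Category.assoc, hrr, Category.comp_id] at e1
    rw [← e1, show toRed (i' n) G ≫ r' n = toRed (i n) G from toRed_redTrans _ _ G]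
  · rw [← hφ' n, Category.assoc, show toRed (i n) G ≫ r n = toRed (i' n) G from toRed_redTrans _ _ G]

end Transport

/-- The transition isomorphism of a pullback tower. -/
def pullTransIso {X : Scheme.{u}} (F : X.Modules) {Z : ℕ → Scheme.{u}} (t : ∀ n, Z n ⟶ Z (n + 1)) (i : ∀ n, Z n ⟶ X)
    (h : ∀ n, t n ≫ i (n + 1) = i n) (n : ℕ) :
    (Scheme.Modules.pullback (t n)).obj ((Scheme.Modules.pullback (i (n + 1))).obj F) ≅
      (Scheme.Modules.pullback (i n)).obj F :=
  (Scheme.Modules.pullbackComp (t n) (i (n + 1))).app F ≪≫ (Scheme.Modules.pullbackCongr (h n)).app F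

theorem pullTransIso_hom {X : Scheme.{u}} (F : X.Modules) {Z : ℕ → Scheme.{u}} (t : ∀ n, Z n ⟶ Z (n + 1))
    (i : ∀ n, Z n ⟶ X) (h : ∀ n, t n ≫ i (n + 1) = i n) (n : ℕ) :
    (pullTransIso F t i h n).hom =
      (Scheme.Modules.pullbackComp (t n) (i (n + 1)) ≪≫ Scheme.Modules.pullbackCongr (h n)).hom.app F := rfl

theorem completionMod_e_eq {X : Scheme.{u}} (𝓙 : X.IdealSheafData) (F : X.Modules) (n : ℕ) :
    (FSch.completionMod 𝓙 F).e n =
      pullTransIso F (FSch.completionAlong X 𝓙).ι (FSch.completionToX X 𝓙) (compl_ι_toX 𝓙) n := by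
  delta FSch.completionMod pullTransIso FSch.completionAlong
  dsimp only

/-- An isomorphism with a completion, levelwise. -/
theorem exists_levels_of_completionMod_iso {X : Scheme.{u}} (𝓙 : X.IdealSheafData) (F : X.Modules)
    (M : ∀ n, ((FSch.completionAlong X 𝓙).X n).Modules)
    (e : ∀ n, (Scheme.Modules.pullback ((FSch.completionAlong X 𝓙).ι n)).obj (M (n + 1)) ≅ M n)
    (φ : FSch.completionMod 𝓙 F ≅ (⟨M, e⟩ : FSch.ModSys (FSch.completionAlong X 𝓙))) :
    ∃ ψ : ∀ n, (Scheme.Modules.pullback (FSch.completionToX X 𝓙 n)).obj F ≅ M n,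
      ∀ n, (Scheme.Modules.pullback ((FSch.completionAlong X 𝓙).ι n)).map (ψ (n + 1)).hom ≫ (e n).hom =
        (Scheme.Modules.pullbackComp ((FSch.completionAlong X 𝓙).ι n) (FSch.completionToX X 𝓙 (n + 1)) ≪≫
          Scheme.Modules.pullbackCongr (compl_ι_toX 𝓙 n)).hom.app F ≫ (ψ n).hom := by
  refine ⟨fun n => ⟨φ.hom.app n, φ.inv.app n,
    congrFun (congrArg FSch.ModSys.Hom.app φ.hom_inv_id) n,
    congrFun (congrArg FSch.ModSys.Hom.app φ.inv_hom_id) n⟩, fun n => ?_⟩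
  have he : ((FSch.completionMod 𝓙 F).e n).hom =
      (Scheme.Modules.pullbackComp ((FSch.completionAlong X 𝓙).ι n) (FSch.completionToX X 𝓙 (n + 1)) ≪≫
          Scheme.Modules.pullbackCongr (compl_ι_toX 𝓙 n)).hom.app F :=
    (congrArg Iso.hom (completionMod_e_eq 𝓙 F n)).trans (pullTransIso_hom F _ (FSch.completionToX X 𝓙) _ n)
  exact (φ.hom.comm n).trans (congrArg (· ≫ _) he)

section System

variable {X : Scheme.{u}} {Z : ℕ → Scheme.{u}} {t : ∀ n, Z n ⟶ Z (n + 1)} [∀ n, IsClosedImmersion (t n)]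
  [∀ n, Surjective (t n)] {i : ∀ n, Z n ⟶ X} (ht : ∀ n, t n ≫ i (n + 1) = i n)

/-- A cover of a neighbourhood from a system coming from it. -/
theorem exists_cover_nhd (U : X.Opens) (g : ∀ n, Z n ⟶ U) [∀ n, IsClosedImmersion (g n)]
    (hg : ∀ n, g n ≫ U.ι = i n) (htg : ∀ n, t n ≫ g (n + 1) = g n) (hMap : MapBij htg)
    (Rs : ∀ n, FEt.Cat (Z n)) (s : ∀ n, (Rs n).left ⟶ (Rs (n + 1)).left)
    (hsq : ∀ n, IsPullback (s n) (Rs n).hom (Rs (n + 1)).hom (t n))
    {E : (U : Scheme.{u}).Modules} (hE : FlatMod.IsFinLocFree E)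
    (φn : ∀ n, (Scheme.Modules.pullback (i n)).obj ((Scheme.Modules.pushforward U.ι).obj E) ≅ pushO (Rs n).hom)
    (hc : ∀ n, (Scheme.Modules.pullback (t n)).map (φn (n + 1)).hom ≫ baseHom (hsq n).w =
        (Scheme.Modules.pullbackComp (t n) (i (n + 1)) ≪≫ Scheme.Modules.pullbackCongr (ht n)).hom.app _ ≫
          (φn n).hom) :
    ∃ (W : FEt.Cat (U : Scheme.{u})) (f₀ : (Rs 0).left ⟶ W.left), IsPullback f₀ (Rs 0).hom W.hom (g 0) := by
  let G := (Scheme.Modules.pushforward U.ι).obj E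
  let β : (Scheme.Modules.pullback U.ι).obj G ≅ E :=
    ((Scheme.Modules.restrictFunctorIsoPullback U.ι).app G).symm ≪≫ ParaFX.restrictPushforward U.ι E
  let ψ : ∀ n, (Scheme.Modules.pullback (g n)).obj E ≅ pushO (Rs n).hom := fun n =>
    (Scheme.Modules.pullback (g n)).mapIso β.symm ≪≫
      (Scheme.Modules.pullbackComp (g n) U.ι ≪≫ Scheme.Modules.pullbackCongr (hg n)).app G ≪≫ φn n
  refine exists_cover_of_system htg hMap Rs s hsq hE ψ fun n => ?_
  have hn := (Scheme.Modules.pullbackComp (t n) (g (n + 1)) ≪≫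
    Scheme.Modules.pullbackCongr (htg n)).hom.naturality β.inv
  let C : ∀ m, (Scheme.Modules.pullback (g m)).obj ((Scheme.Modules.pullback U.ι).obj G) ⟶
      (Scheme.Modules.pullback (i m)).obj G := fun m =>
    (Scheme.Modules.pullbackComp (g m) U.ι ≪≫ Scheme.Modules.pullbackCongr (hg m)).hom.app G
  show (Scheme.Modules.pullback (t n)).map
      ((Scheme.Modules.pullback (g (n + 1))).map β.inv ≫ C (n + 1) ≫ (φn (n + 1)).hom) ≫ baseHom (hsq n).w =
    (Scheme.Modules.pullbackComp (t n) (g (n + 1)) ≪≫ Scheme.Modules.pullbackCongr (htg n)).hom.app E ≫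
      (Scheme.Modules.pullback (g n)).map β.inv ≫ C n ≫ (φn n).hom
  rw [Functor.map_comp, Functor.map_comp, Category.assoc, Category.assoc]
  rw [hc, reassoc_of% pullback_coherence (t n) (g (n + 1)) U.ι (htg n) (hg (n + 1)) (hg n) (ht n) G]
  exact (reassoc_of% hn) _

end System

theorem exists_nhd_extension {X : Scheme.{u}} (𝓘 : X.IdealSheafData) (hLeff : LefX.LeffCond X 𝓘)
    (R : FEt.Cat 𝓘.subscheme) :
    ∃ (U : X.Opens) (R' : FEt.Cat (U : Scheme.{u})), (𝓘.support : Set X) ⊆ (U : Set X) ∧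
      ∀ i : 𝓘.subscheme ⟶ (U : Scheme.{u}), i ≫ U.ι = 𝓘.subschemeι →
        Nonempty ((FEt.restrict i).obj R' ≅ R) := by
  let Z := (FSch.completionAlong X 𝓘).X
  let t := (FSch.completionAlong X 𝓘).ι
  haveI : ∀ n, Surjective (t n) := surjective_completion_ι 𝓘
  let R₀ : FEt.Cat (Z 0) := MorphismProperty.Over.mk ⊤ (R.hom ≫ (completionZeroIso 𝓘).hom)
    ((FEt.prop).comp_mem _ _ R.prop ((FEt.prop).of_isIso _))
  obtain ⟨Rs, s, hsq, hR0⟩ := exists_tower t R₀
  haveI : ∀ n, IsFinite (Rs n).hom := fun n => (Rs n).prop.1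
  haveI : ∀ n, IsIso (baseHom (hsq n).w) := fun n => isIso_baseHom (hsq n)
  obtain ⟨U, E, hU, hE, ⟨φ⟩⟩ := hLeff.2 ⟨fun n => pushO (Rs n).hom, fun n => asIso (baseHom (hsq n).w)⟩
    fun n => isFinLocFree_level n
  have hpow : ∀ n, ((𝓘 ^ (n + 1)).support : Set X) ⊆ (U : Set X) := fun n => by
    rwa [Scheme.IdealSheafData.support_pow_succ]
  have hex : ∀ n, ∃ gn : Z n ⟶ U, gn ≫ U.ι = FSch.completionToX X 𝓘 n ∧ IsClosedImmersion gn := fun n => by
    have hlift : Set.range (FSch.completionToX X 𝓘 n).base ⊆ Set.range U.ι.base := by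
      rw [Scheme.Opens.range_ι]
      show Set.range (𝓘 ^ (n + 1)).subschemeι.base ⊆ _
      rw [Scheme.IdealSheafData.range_subschemeι]
      exact hpow n
    have hg := IsOpenImmersion.lift_fac U.ι _ hlift
    haveI : IsClosedImmersion (IsOpenImmersion.lift U.ι _ hlift ≫ U.ι) := by rw [hg]; infer_instance
    exact ⟨_, hg, IsClosedImmersion.of_comp _ U.ι⟩
  choose g hg hgc using hex
  haveI := hgc
  have ht : ∀ n, t n ≫ g (n + 1) = g n := fun n => by
    rw [← cancel_mono U.ι, Category.assoc, hg, hg]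
    exact compl_ι_toX 𝓘 n
  obtain ⟨φn, hc⟩ := exists_levels_of_completionMod_iso 𝓘 _ _ _ φ
  have hMap : MapBij ht := by
    choose a ha hac using fun n =>
      exists_subscheme_iso_open U (𝓘 ^ (n + 1)) (hpow n) _ (comap_pow 𝓘 U.ι (n + 1)).symm
    refine mapBij_transport ht (compl_ι_toX (𝓘.comap U.ι))
      (fun n => haveI := ha n; asIso (a n)) (fun n => ?_) (mapBij_of_lef _ (hLeff.1 U hU))
    rw [← cancel_mono U.ι, Category.assoc, hg]
    exact hac n
  obtain ⟨W, f₀, hf⟩ := exists_cover_nhd (compl_ι_toX 𝓘) U g hg ht hMap Rs s hsq hE φn hc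
  obtain ⟨W, f₀, hf⟩ : ∃ (W : FEt.Cat (U : Scheme.{u})) (f : R₀.left ⟶ W.left), IsPullback f R₀.hom W.hom (g 0) := by
    rw [← hR0]
    exact ⟨W, f₀, hf⟩
  refine ⟨U, W, hU, fun j hj => restrict_iso_of_isPullback (f := f₀) ?_⟩
  exact hf.of_iso (Iso.refl _) (Iso.refl _) (completionZeroIso 𝓘).symm (Iso.refl _)
    (by simp) (by simp [R₀]) (by simp) (by
      simp only [Iso.refl_hom, Category.comp_id]
      rw [← cancel_mono U.ι, Category.assoc, hj, hg, Iso.symm_hom, Iso.eq_inv_comp]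
      exact completionZeroIso_hom 𝓘)

end Groth.Agent.Lef73
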