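import Groth.Agent.Lef73.Dual
import Groth.Agent.KFlatLib.Perfect.Tensor

/-!
# Homomorphisms into a finite locally free module as forms on a tensor product
-/

set_option backward.isDefEq.respectTransparency false
set_option backward.isDefEq.respectTransparency.types false

universe u

open CategoryTheory CategoryTheory.Limits AlgebraicGeometry TopologicalSpace Opposite MonoidalCategory

noncomputable section

namespace Groth.Agent.Lef73

open Groth.Agent Groth.Agent.AModX

variable {X : Scheme.{u}} {F G : X.Modules}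

/-- `u ↦ (u ⊗ 1) ≫ ev`. -/
def toForm (u : F ⟶ G) : (AmpleVan.tw (dual G)).obj F ⟶ Coh.structureModule X :=
  (AmpleVan.tw (dual G)).map u ≫ evPair G

theorem toForm_tmul (u : F ⟶ G) {W : X.Opens} (a : Γ(F, W)) (f : Γ(dual G, W)) :
    (toForm u).app W (InvX.tmul a f) = pairVal (u.app W a) f := by
  show (evPair G).app W (((AmpleVan.tw (dual G)).map u).app W (InvX.tmul a f)) = _
  rw [AmpleVan.map_tmul_left, evPair_tmul]

theorem tmul_add_right' {M N : X.Modules} {U : X.Opens} (a : Γ(M, U)) (b b' : Γ(N, U)) :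
    InvX.tmul a (b + b') = InvX.tmul a b + InvX.tmul a b' := by
  refine Eq.trans ?_ (map_add ((KFlatLib.unitShP (CohB1.toPMod M ⊗ CohB1.toPMod N)).app (op U)).hom _ _)
  exact congrArg _ (TensorProduct.tmul_add _ _ _)

theorem eq_of_pairVal (hG : FlatMod.IsFinLocFree G) {W : X.Opens} {b b' : Γ(G, W)}
    (h : ∀ (V : X.Opens) (hV : V ≤ W) (f : Γ(dual G, V)),
      pairVal (res G hV b) f = pairVal (res G hV b') f) : b = b' := by
  refine eq_of_locally _ _ fun p hp => ?_
  obtain ⟨U, n, hpU, ⟨e⟩⟩ := hG p
  obtain ⟨s, hs⟩ := H23.Frame.exists_frame e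
  refine ⟨W ⊓ U, inf_le_left, ⟨hp, hpU⟩, ?_⟩
  rw [← sum_coord hs (W ⊓ U) inf_le_right (res G inf_le_left b),
    ← sum_coord hs (W ⊓ U) inf_le_right (res G inf_le_left b')]
  refine Finset.sum_congr rfl fun i _ => ?_
  rw [← pairVal_coordForm hs _ inf_le_right _ i, ← pairVal_coordForm hs _ inf_le_right _ i,
    h _ inf_le_left]

/-- The value at `a` of the homomorphism attached to the form `φ`. -/
def IsValue (φ : (AmpleVan.tw (dual G)).obj F ⟶ Coh.structureModule X) {W : X.Opens} (a : Γ(F, W))
    (b : Γ(G, W)) : Prop :=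
  ∀ (V : X.Opens) (hV : V ≤ W) (f : Γ(dual G, V)),
    pairVal (res G hV b) f = φ.app V (InvX.tmul (res F hV a) f)

variable {φ : (AmpleVan.tw (dual G)).obj F ⟶ Coh.structureModule X}

theorem IsValue.res {W W' : X.Opens} {a : Γ(F, W)} {b : Γ(G, W)} (h : IsValue φ a b) (hW : W' ≤ W) :
    IsValue φ (res F hW a) (res G hW b) := fun V hV f => by
  rw [res_res, res_res]; exact h V _ f

theorem tmul_smul_val (φ : (AmpleVan.tw (dual G)).obj F ⟶ Coh.structureModule X) {V : X.Opens}
    (r : Γ(X, V)) (a : Γ(F, V)) (f : Γ(dual G, V)) :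
    φ.app V (InvX.tmul (r • a) f) = r * (show Γ(X, V) from φ.app V (InvX.tmul a f)) := by
  rw [InvX.tmul_smul_left, Scheme.Modules.Hom.app_smul]; rfl

theorem exists_isValue (hG : FlatMod.IsFinLocFree G)
    (φ : (AmpleVan.tw (dual G)).obj F ⟶ Coh.structureModule X) {W : X.Opens} (a : Γ(F, W)) :
    ∃! b : Γ(G, W), IsValue φ a b := by
  have hloc : ∀ p : W, ∃ (V : X.Opens) (hV : V ≤ W) (b : Γ(G, V)), p.1 ∈ V ∧ IsValue φ (res F hV a) b := by
    intro p
    obtain ⟨U, n, hpU, ⟨e⟩⟩ := hG p.1
    obtain ⟨s, hs⟩ := H23.Frame.exists_frame e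
    let V := W ⊓ U
    let c : Fin n → Γ(X, V) := fun i =>
      φ.app V (InvX.tmul (res F inf_le_left a) (res (dual G) inf_le_right (coordForm hs i)))
    refine ⟨V, inf_le_left, ∑ i, c i • res G inf_le_right (s i), ⟨p.2, hpU⟩, fun V' hV' f => ?_⟩
    have hU : V' ≤ U := hV'.trans inf_le_right
    obtain ⟨d, hd⟩ := (isFrame_coordForm hs V' hU).2 f
    have hd' : ∑ i, d i • res (dual G) hU (coordForm hs i) = f := hd
    have hL : pairVal (res G hV' (∑ i, c i • res G inf_le_right (s i))) f = ∑ i, resR hV' (c i) * d i := by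
      rw [map_sum]
      simp only [res_smul, res_res]
      unfold pairVal
      rw [map_sum]
      refine Finset.sum_congr rfl fun i _ => ?_
      rw [map_smul, smul_eq_mul]
      congr 1
      rw [← hd', res_res]
      let g : Γ(dual G, V') →+ Γ(X, V') :=
        { toFun := fun f => (forms f).1 ⟨V', le_rfl⟩ (res G hU (s i)), map_zero' := rfl, map_add' := fun _ _ => rfl }
      change g (∑ j, d j • res (dual G) hU (coordForm hs j)) = d i
      rw [map_sum]
      refine (Finset.sum_congr rfl fun j _ => ?_).trans (Finset.sum_ite_eq Finset.univ i d |>.trans (if_pos (Finset.mem_univ i)))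
      show pairVal (res G hU (s i)) (d j • res (dual G) hU (coordForm hs j)) = _
      rw [pairVal_smul_right, pairVal_coordForm, coord_frame, mul_ite, mul_one, mul_zero]
    rw [hL, ← hd']
    let g : Γ(dual G, V') →+ Γ(X, V') :=
      (φ.app V').hom.comp (AddMonoidHom.mk' (InvX.tmul (res F hV' (res F inf_le_left a))) fun x y =>
        tmul_add_right' _ x y)
    show _ = g (∑ j, d j • res (dual G) hU (coordForm hs j))
    rw [map_sum]
    refine Finset.sum_congr rfl fun i _ => ?_
    show resR hV' (c i) * d i = φ.app V' (InvX.tmul _ (d i • _))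
    rw [InvX.tmul_smul_right, Scheme.Modules.Hom.app_smul, mul_comm]
    congr 1
    show res (Coh.structureModule X) hV' (c i) = _
    rw [← app_res]
    refine congrArg _ ((InvX.res_tmul _ _ _).trans ?_)
    rw [res_res, res_res]
  choose V hV b hp hb using hloc
  obtain ⟨t, ht, -⟩ := existsUnique_glue (M := G) V hV (fun p hp' => ⟨⟨p, hp'⟩, hp _⟩) b fun p q =>
    eq_of_pairVal hG fun V' hV' f => by
      rw [res_res, res_res, hb p V' _ f, hb q V' _ f, res_res, res_res]
  refine ⟨t, fun V' hV' f => eq_of_locally (M := Coh.structureModule X) _ _ fun p hp' => ?_, fun t' ht' => ?_⟩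
  · let i : W := ⟨p, hV' hp'⟩
    refine ⟨V' ⊓ V i, inf_le_left, ⟨hp', hp i⟩, ?_⟩
    show resR _ (pairVal _ f) = res (Coh.structureModule X) inf_le_left (φ.app V' _)
    rw [pairVal_res, ← app_res, res_res]
    refine Eq.trans ?_ (congrArg _ (InvX.res_tmul _ _ _).symm)
    rw [res_res]
    have := hb i (V' ⊓ V i) inf_le_right (res (dual G) inf_le_left f)
    rw [← ht i, res_res, res_res] at this
    exact this
  · refine eq_of_locally _ _ fun p hp' => ⟨V ⟨p, hp'⟩, hV _, hp _, ?_⟩
    rw [ht ⟨p, hp'⟩]
    exact eq_of_pairVal hG fun V' hV' f => by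
      rw [(ht'.res (hV _)) V' hV' f, hb _ V' hV' f]

theorem toForm_bijective (hG : FlatMod.IsFinLocFree G) :
    Function.Bijective (toForm (F := F) (G := G)) := by
  constructor
  · intro u v h
    refine QCoh.hom_ext_app fun W a => eq_of_pairVal hG fun V hV f => ?_
    rw [← app_res, ← app_res, ← toForm_tmul, ← toForm_tmul, h]
  · intro φ
    choose val hval huniq using fun W : X.Opens => fun a : Γ(F, W) => exists_isValue hG φ a
    have hadd : ∀ W (a a' : Γ(F, W)), val W (a + a') = val W a + val W a' := fun W a a' =>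
      (huniq W _ _ fun V hV f => by
        have e1 : InvX.tmul (res F hV a + res F hV a') f =
            InvX.tmul (res F hV a) f + InvX.tmul (res F hV a') f := AmpleVan.tmul_add_left _ _ _
        rw [map_add, map_add, e1, map_add, ← hval W a V hV f, ← hval W a' V hV f]
        exact map_add _ _ _).symm
    have hsmul : ∀ W (r : Γ(X, W)) (a : Γ(F, W)), val W (r • a) = r • val W a := fun W r a =>
      (huniq W _ _ fun V hV f => by
        rw [res_smul, res_smul, pairVal_smul_left, hval W a V hV f, tmul_smul_val]).symm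
    have hres : ∀ {W W' : X.Opens} (h : W' ≤ W) (a : Γ(F, W)), val W' (res F h a) = res G h (val W a) :=
      fun h a => (huniq _ _ _ ((show IsValue φ a _ from hval _ a).res h)).symm
    let u : F ⟶ G :=
      ⟨PresheafOfModules.homMk
        { app := fun W => AddCommGrpCat.ofHom (AddMonoidHom.mk' (val W.unop) (hadd W.unop))
          naturality := fun W W' i => by
            ext a
            exact hres i.unop.le a }
        fun W r a => hsmul W.unop r a⟩
    refine ⟨u, AmpleVan.hom_ext_tmul fun W a f => ?_⟩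
    rw [toForm_tmul]
    have := hval W a W le_rfl f
    rw [res_self, res_self] at this
    exact this

theorem isFinLocFree_tw_dual (hF : FlatMod.IsFinLocFree F) (hG : FlatMod.IsFinLocFree G) :
    FlatMod.IsFinLocFree ((AmpleVan.tw (dual G)).obj F) :=
  KFlatLib.isFinLocFree_tensor hF (isFinLocFree_dual hG)

end Groth.Agent.Lef73
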