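import Groth.Agent.Lef73.LefSteps
import Groth.Agent.LimitsH94.LimLocFree
import Groth.Agent.ParaFX.Closed
import Groth.Agent.Lib.InvEnd
import Groth.Prelude.Def_LefX
import Groth.Prelude.Def_Formal2

/-!
# The Picard group of the formal neighbourhood and of the neighbourhoods
-/

set_option backward.isDefEq.respectTransparency false
set_option backward.isDefEq.respectTransparency.types false
set_option linter.unusedSectionVars false
set_option linter.style.haveILetI false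

universe u

open CategoryTheory CategoryTheory.Limits AlgebraicGeometry TopologicalSpace Opposite
open scoped TensorProduct

noncomputable section

namespace Groth.Agent.Lef73

open Groth.Agent

/-- A finite locally free module with invertible pullback is free of rank one near the image. -/
theorem exists_rank_one {Z X : Scheme.{u}} (g : Z ⟶ X) [IsAffineHom g] {E : X.Modules}
    (hE : FlatMod.IsFinLocFree E) (hg : PicF.IsInvertible ((Scheme.Modules.pullback g).obj E)) (z : Z) :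
    ∃ W : X.Opens, g z ∈ W ∧ Nonempty (E.restrict W.ι ≅ Coh.structureModule (W : Scheme.{u})) := by
  obtain ⟨W, n, hW, ⟨e⟩⟩ := hE (g z)
  obtain ⟨_, ⟨V, hV, rfl⟩, hzV, hVW⟩ := X.isBasis_affineOpens.exists_subset_of_mem_open hW W.2
  have hV' : IsAffineOpen V := hV
  have hEq : Coh.IsQCoh E := QCoh.isQCoh_of_isFinLocFree hE
  letI := (g.app V).hom.toAlgebra
  let N := (Scheme.Modules.pullback g).obj E
  obtain ⟨b⟩ := LimitsH94.LM.exists_equiv_pullback g hEq hV'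
  obtain ⟨l⟩ := QCoh.free_sections hV' (show V ≤ W from hVW) e
  have hNq : Coh.IsQCoh N := QCoh.isQCoh_of_isFinLocFree (H23.PullPush.isFinLocFree_of_isInvertible hg)
  let l' : Γ(N, g ⁻¹ᵁ V) ≃ₗ[Γ(Z, g ⁻¹ᵁ V)] (ULift.{u} (Fin n) →₀ Γ(Z, g ⁻¹ᵁ V)) :=
    b.symm ≪≫ₗ TensorProduct.AlgebraTensorModule.congr (LinearEquiv.refl _ _) l ≪≫ₗ
      TensorProduct.AlgebraTensorModule.congr (LinearEquiv.refl _ _) (LinearEquiv.refl _ _) ≪≫ₗ
      TensorProduct.finsuppScalarRight Γ(X, V) Γ(Z, g ⁻¹ᵁ V) Γ(Z, g ⁻¹ᵁ V) (ULift.{u} (Fin n))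
  obtain ⟨W₁, hzW₁, ⟨e₁⟩⟩ := InvEnd.isFinLocFreeOfRank_one hg z
  obtain ⟨_, ⟨V₁, hV₁, rfl⟩, hzV₁, hVW₁⟩ := Z.isBasis_affineOpens.exists_subset_of_mem_open hzW₁ W₁.2
  obtain ⟨l₁⟩ := QCoh.free_sections (show IsAffineOpen V₁ from hV₁) (show V₁ ≤ W₁ from hVW₁) e₁
  have hn : n = 1 := (QCoh.finrank_stalk_of_freeChart (hV'.preimage g) hNq l' hzV).symm.trans
    (QCoh.finrank_stalk_of_freeChart (show IsAffineOpen V₁ from hV₁) hNq l₁ hzV₁)
  subst hn
  exact ⟨W, hW, ⟨e ≪≫ coproductUniqueIso fun _ : Fin 1 => Coh.structureModule (W : Scheme.{u})⟩⟩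

section RankOne

variable {X : Scheme.{u}} (E : X.Modules)

/-- The points near which `E` is free of rank one. -/
def rankOneLocus : X.Opens :=
  ⟨{x | ∃ W : X.Opens, x ∈ W ∧ Nonempty (E.restrict W.ι ≅ Coh.structureModule (W : Scheme.{u}))},
    isOpen_iff_forall_mem_open.2 fun _ ⟨W, hW, hiso⟩ => ⟨W, fun _ hy => ⟨W, hy, hiso⟩, W.2, hW⟩⟩

theorem isInvertible_restrict_rankOneLocus : PicF.IsInvertible (E.restrict (rankOneLocus E).ι) := by
  intro v
  obtain ⟨W, hW, ⟨e⟩⟩ := v.2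
  let W' : (rankOneLocus E : Scheme.{u}).Opens := (rankOneLocus E).ι ⁻¹ᵁ W
  refine ⟨W', hW, ?_⟩
  have hle : (W'.ι ≫ (rankOneLocus E).ι).opensRange ≤ W := by
    rintro _ ⟨y, rfl⟩
    exact y.2
  let c : (W' : Scheme.{u}) ⟶ (W : Scheme.{u}) :=
    IsOpenImmersion.lift W.ι (W'.ι ≫ (rankOneLocus E).ι) (by
      rw [Scheme.Opens.range_ι]
      rintro _ ⟨y, rfl⟩
      exact y.2)
  haveI : IsOpenImmersion c := by
    haveI : IsOpenImmersion (c ≫ W.ι) := by rw [IsOpenImmersion.lift_fac]; infer_instance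
    exact IsOpenImmersion.of_comp c W.ι
  exact ⟨((Scheme.Modules.restrictFunctorComp W'.ι (rankOneLocus E).ι).app E).symm ≪≫
    (Scheme.Modules.restrictFunctorCongr (IsOpenImmersion.lift_fac W.ι _ _).symm).app E ≪≫
    (Scheme.Modules.restrictFunctorComp c W.ι).app E ≪≫
    (Scheme.Modules.restrictFunctor c).mapIso e ≪≫ Scheme.Modules.restrictUnitIso c⟩

end RankOne

variable {X : Scheme.{u}} (𝓘 : X.IdealSheafData)

/-- A system of invertible modules through a given one. -/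
theorem exists_invertible_system (p : ℕ)
    (h2 : ∀ m, p ≤ m → Subsingleton (Coh.HH X (kernel (Lef.quotMap (Lef.pow_succ_le 𝓘 m))) 2))
    (n : ℕ) (hn : p ≤ n) (N : ((FSch.completionAlong X 𝓘).X n).Modules) (hN : PicF.IsInvertible N) :
    ∃ 𝔐 : FSch.ModSys (FSch.completionAlong X 𝓘), (∀ m, PicF.IsInvertible (𝔐.F m)) ∧ Nonempty (𝔐.F n ≅ N) := by
  let A : ℕ → Type (u + 1) := fun m => PicLoc.PicSet ((FSch.completionAlong X 𝓘).X m)
  let r : ∀ m, A (m + 1) → A m := fun m c => ⟨PicF.pullCl ((FSch.completionAlong X 𝓘).ι m) c.1, by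
    obtain ⟨L, hL, rfl⟩ := PicGrp.exists_eq_cls c
    exact ⟨_, rfl, PicClLib.isInvertible_pullback _ hL⟩⟩
  obtain ⟨f, hf, hfn⟩ := exists_compat (A := A) r n (fun m hm c => by
    haveI : IsClosedImmersion ((FSch.completionAlong X 𝓘).ι m) :=
      inferInstanceAs (IsClosedImmersion (Scheme.IdealSheafData.inclusion (FSch.pow_succ_le _ _ m)))
    obtain ⟨L, hL, rfl⟩ := PicGrp.exists_eq_cls c
    obtain ⟨L', hL', ⟨e⟩⟩ := exists_invertible_lift ((FSch.completionAlong X 𝓘).ι m)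
      (sq_ker_inclusion (FSch.pow_succ_le X 𝓘 m) (pow_sq_le 𝓘 m))
      (subsingleton_HH_kerMod_inclusion (FSch.pow_succ_le X 𝓘 m) 2 (h2 m (hn.trans hm))) hL
    exact ⟨PicGrp.cls L' hL', Subtype.ext (Quot.sound ⟨e⟩)⟩) (PicGrp.cls N hN)
  choose L hL hfL using fun m => PicGrp.exists_eq_cls (f m)
  have he : ∀ m, Nonempty ((Scheme.Modules.pullback ((FSch.completionAlong X 𝓘).ι m)).obj (L (m + 1)) ≅ L m) :=
    fun m => (PicGrp.cl_eq_cl_iff _ _).1 (by
      have h := congrArg Subtype.val (hf m)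
      rw [hfL m, hfL (m + 1)] at h
      exact h)
  refine ⟨⟨L, fun m => (he m).some⟩, hL, (PicGrp.cls_eq_cls_iff (hL n) hN).1 ?_⟩
  rw [← hfL n, hfn]

/-- Every invertible module on a thickening comes from a neighbourhood, under effective Lefschetz. -/
theorem exists_extension (hLeff : LefX.LeffCond X 𝓘) (p : ℕ)
    (h2 : ∀ m, p ≤ m → Subsingleton (Coh.HH X (kernel (Lef.quotMap (Lef.pow_succ_le 𝓘 m))) 2))
    (n : ℕ) (hn : p ≤ n) (N : ((𝓘 ^ (n + 1)).subscheme).Modules) (hN : PicF.IsInvertible N) :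
    ∃ (U : X.Opens) (L : (U : Scheme.{u}).Modules) (g : (𝓘 ^ (n + 1)).subscheme ⟶ U),
      (𝓘.support : Set X) ⊆ (U : Set X) ∧ g ≫ U.ι = (𝓘 ^ (n + 1)).subschemeι ∧ PicF.IsInvertible L ∧
        Nonempty ((Scheme.Modules.pullback g).obj L ≅ N) := by
  obtain ⟨𝔐, h𝔐, ⟨e0⟩⟩ := exists_invertible_system 𝓘 p h2 n hn N hN
  obtain ⟨U, E, hU, hE, ⟨φ⟩⟩ := hLeff.2 𝔐 fun m => H23.PullPush.isFinLocFree_of_isInvertible (h𝔐 m)
  have hrange : ∀ z, (𝓘 ^ (n + 1)).subschemeι z ∈ (𝓘.support : Set X) := fun z => by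
    rw [← Scheme.IdealSheafData.support_pow_succ 𝓘 n, ← Scheme.IdealSheafData.range_subschemeι]
    exact ⟨z, rfl⟩
  let g : (𝓘 ^ (n + 1)).subscheme ⟶ U :=
    IsOpenImmersion.lift U.ι (𝓘 ^ (n + 1)).subschemeι (by
      rw [Scheme.Opens.range_ι]; rintro _ ⟨z, rfl⟩; exact hU (hrange z))
  have hg : g ≫ U.ι = (𝓘 ^ (n + 1)).subschemeι := IsOpenImmersion.lift_fac _ _ _
  haveI : IsClosedImmersion (g ≫ U.ι) := by rw [hg]; infer_instance
  haveI : IsClosedImmersion g := IsClosedImmersion.of_comp g U.ι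
  let φn : (FSch.completionMod 𝓘 ((Scheme.Modules.pushforward U.ι).obj E)).F n ≅ 𝔐.F n :=
    ⟨φ.hom.app n, φ.inv.app n, congrFun (congrArg FSch.ModSys.Hom.app φ.hom_inv_id) n,
      congrFun (congrArg FSch.ModSys.Hom.app φ.inv_hom_id) n⟩
  let ψ : (Scheme.Modules.pullback g).obj E ≅ N :=
    (Scheme.Modules.pullback g).mapIso ((ParaFX.restrictPushforward U.ι E).symm ≪≫
        (Scheme.Modules.restrictFunctorIsoPullback U.ι).app _) ≪≫
      (Scheme.Modules.pullbackComp g U.ι ≪≫ Scheme.Modules.pullbackCongr hg).app _ ≪≫ φn ≪≫ e0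
  have hV : ∀ y : X, y ∈ (𝓘.support : Set X) → ∀ hy : y ∈ U, (⟨y, hy⟩ : (U : Scheme.{u})) ∈ rankOneLocus E :=
    fun y hy hyU => by
      rw [← Scheme.IdealSheafData.support_pow_succ 𝓘 n, ← Scheme.IdealSheafData.range_subschemeι] at hy
      obtain ⟨z, rfl⟩ := hy
      obtain ⟨W, hzW, hW⟩ := exists_rank_one g hE (ParaFX.isInvertible_of_iso ψ.symm hN) z
      refine ⟨W, ?_, hW⟩
      convert hzW using 1
      exact Subtype.ext (show (𝓘 ^ (n + 1)).subschemeι z = (g ≫ U.ι) z by rw [hg])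
  let V : X.Opens := U.ι ''ᵁ rankOneLocus E
  have hVU : V ≤ U := U.ι_image_le _
  let c : (V : Scheme.{u}) ⟶ (rankOneLocus E : Scheme.{u}) :=
    IsOpenImmersion.lift (rankOneLocus E).ι (X.homOfLE hVU) (by
      rw [Scheme.Opens.range_ι]
      rintro _ ⟨v, rfl⟩
      obtain ⟨v', hv', hv''⟩ := v.2
      convert hv' using 1
      exact U.ι.injective (((Scheme.Hom.comp_apply _ _ _).symm.trans (by rw [Scheme.homOfLE_ι]; rfl)).trans hv''.symm))
  have hcU : c ≫ (rankOneLocus E).ι = X.homOfLE hVU := IsOpenImmersion.lift_fac _ _ _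
  have hgV : Set.range (𝓘 ^ (n + 1)).subschemeι.base ⊆ Set.range V.ι.base := by
    rw [Scheme.Opens.range_ι]
    rintro _ ⟨z, rfl⟩
    exact ⟨⟨_, hU (hrange z)⟩, hV _ (hrange z) (hU (hrange z)), rfl⟩
  refine ⟨V, (Scheme.Modules.pullback c).obj (E.restrict (rankOneLocus E).ι),
    IsOpenImmersion.lift V.ι _ hgV, fun y hy => ⟨⟨y, hU hy⟩, hV y hy (hU hy), rfl⟩,
    IsOpenImmersion.lift_fac _ _ _,
    PicClLib.isInvertible_pullback _ (isInvertible_restrict_rankOneLocus E), ⟨?_⟩⟩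
  refine (Scheme.Modules.pullback _).mapIso
      ((Scheme.Modules.pullback c).mapIso ((Scheme.Modules.restrictFunctorIsoPullback _).app E) ≪≫
        (Scheme.Modules.pullbackComp c (rankOneLocus E).ι ≪≫ Scheme.Modules.pullbackCongr hcU).app E) ≪≫
      (Scheme.Modules.pullbackComp _ (X.homOfLE hVU) ≪≫ Scheme.Modules.pullbackCongr ?_).app E ≪≫ ψ
  rw [← cancel_mono U.ι, Category.assoc, Scheme.homOfLE_ι, IsOpenImmersion.lift_fac, hg]

/-- An invertible module near `V(𝓘)` trivial on a thickening is trivial. -/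
theorem trivial_of_thickening_nhd (hLef : Lef.LefCond X 𝓘) (p : ℕ)
    (h1 : ∀ m, p ≤ m → Subsingleton (Coh.HH X (kernel (Lef.quotMap (Lef.pow_succ_le 𝓘 m))) 1))
    (n : ℕ) (hn : p ≤ n) (U : X.Opens) (hU : (𝓘.support : Set X) ⊆ (U : Set X))
    (L : (U : Scheme.{u}).Modules) (g : (𝓘 ^ (n + 1)).subscheme ⟶ U)
    (hg : g ≫ U.ι = (𝓘 ^ (n + 1)).subschemeι) (hL : PicF.IsInvertible L)
    (e : Nonempty ((Scheme.Modules.pullback g).obj L ≅ Coh.structureModule _)) :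
    Nonempty (L ≅ Coh.structureModule (U : Scheme.{u})) := by
  obtain ⟨a, _, ha⟩ := exists_subscheme_iso_open U (𝓘 ^ (n + 1))
    (by rwa [Scheme.IdealSheafData.support_pow_succ]) _ (comap_pow 𝓘 U.ι (n + 1)).symm
  refine trivial_of_thickening (𝓘.comap U.ι) (hLef U hU) n
    (fun m hm => subsingleton_HH_step 𝓘 U hU m 1 (h1 m (hn.trans hm))) hL ?_
  obtain ⟨e⟩ := e
  have hag : a ≫ g = FSch.completionToX (U : Scheme.{u}) (𝓘.comap U.ι) n := by
    rw [← cancel_mono U.ι, Category.assoc, hg, ha]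
  exact ⟨((Scheme.Modules.pullbackComp a g ≪≫ Scheme.Modules.pullbackCongr hag).app L).symm ≪≫
    (Scheme.Modules.pullback a).mapIso e ≪≫ unitIso a⟩

end Groth.Agent.Lef73
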