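import Groth.Agent.Lef73.PicLeff
import Groth.Agent.Para81.Extend

/-!
# The Picard group of a scheme with parafactorial points off the neighbourhoods
-/

set_option backward.isDefEq.respectTransparency false
set_option backward.isDefEq.respectTransparency.types false
set_option linter.unusedSectionVars false
set_option linter.style.haveILetI false

universe u

open CategoryTheory CategoryTheory.Limits AlgebraicGeometry TopologicalSpace Opposite

noncomputable section

namespace Groth.Agent.Lef73

open Groth.Agent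

variable {X : Scheme.{u}} [IsLocallyNoetherian X] (U : X.Opens)
  (h : ∀ x : X, x ∉ U → ParaF.IsParafactorialLocalRing (X.presheaf.stalk x))

include h in
theorem invRestrictEquiv_ι : ParaF.InvRestrictEquiv U.ι := by
  let Y : Closeds X := ⟨(U : Set X)ᶜ, U.2.isClosed_compl⟩
  refine ParaFX.Good.invRestrictEquiv (ParaFX.good_of_openImmersion Y
    (Para81.isParafactorialPair_of_stalks X Y fun y hy => h y hy) (𝟙 X) U.ι ?_)
  ext x
  simp [Y]

include h in
theorem picInjective_ι : Formal2.PicPullbackInjective U.ι := fun L hL ⟨e⟩ => by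
  let a : L.restrict U.ι ≅ (Coh.structureModule X).restrict U.ι :=
    (Scheme.Modules.restrictFunctorIsoPullback U.ι).app L ≪≫ e ≪≫ (Scheme.Modules.restrictUnitIso U.ι).symm
  have hO := InvX.isInvertible_structureModule (X := X)
  have hb := (invRestrictEquiv_ι U h).1
  obtain ⟨φ, hφ⟩ := (hb L _ hL hO).2 a.hom
  obtain ⟨ψ, hψ⟩ := (hb _ L hO hL).2 a.inv
  refine ⟨⟨φ, ψ, (hb L L hL hL).1 ?_, (hb _ _ hO hO).1 ?_⟩⟩ <;>
    simp only [Functor.map_comp, CategoryTheory.Functor.map_id] at hφ hψ ⊢ <;> rw [hφ, hψ]
  · exact a.hom_inv_id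
  · exact a.inv_hom_id

include h in
theorem picSurjective_ι : Formal2.PicPullbackSurjective U.ι := fun L hL => by
  obtain ⟨M, hM, ⟨e⟩⟩ := (invRestrictEquiv_ι U h).2 L hL
  exact ⟨M, hM, ⟨((Scheme.Modules.restrictFunctorIsoPullback U.ι).app M).symm ≪≫ e⟩⟩

end Groth.Agent.Lef73
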