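import Groth.Agent.Lef73.ClopenFF
import Groth.Agent.AmpleX.QAGenerated
import Groth.Agent.H23.PullPush

/-!
# Criteria for sections of locally free modules to be formal limits
-/

set_option backward.isDefEq.respectTransparency false
set_option backward.isDefEq.respectTransparency.types false

universe u

open CategoryTheory CategoryTheory.Limits AlgebraicGeometry TopologicalSpace Opposite

noncomputable section

namespace Groth.Agent.Lef73

open Groth.Agent Groth.Agent.AModX

variable {X : Scheme.{u}}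
  {Z : ℕ → Scheme.{u}} {i : ∀ n, Z n ⟶ X} [∀ n, IsClosedImmersion (i n)]
  {t : ∀ n, Z n ⟶ Z (n + 1)} (ht : ∀ n, t n ≫ i (n + 1) = i n)

theorem isFinLocFree_structureModule : FlatMod.IsFinLocFree (Coh.structureModule X) :=
  H23.PullPush.isFinLocFree_of_isInvertible InvX.isInvertible_structureModule

theorem sectionBij_of_towerBij (hD : ∀ D : X.Modules, FlatMod.IsFinLocFree D → TowerBij ht D) :
    SectionBij ht := fun _ hG =>
  (hD _ (isFinLocFree_tw_dual isFinLocFree_structureModule hG)).existsUnique_section ht hG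

/-- Bijectivity for `O` gives bijectivity for free modules. -/
theorem TowerBij.free (h : TowerBij ht (Coh.structureModule X)) (σ : Type u) :
    TowerBij ht (SheafOfModules.free σ : X.Modules) := by
  refine ⟨fun φ ψ e => Cofan.IsColimit.hom_ext (SheafOfModules.isColimitFreeCofan σ) _ _ fun k =>
    h.1 _ _ fun n => ?_, fun y hy => ?_⟩
  · rw [Category.assoc, Category.assoc, e n]
  · choose φ hφ using fun k : σ => h.2 (fun n => SheafOfModules.ιFree k ≫ y n)
      fun n => by rw [Category.assoc, hy n]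
    refine ⟨Cofan.IsColimit.desc (SheafOfModules.isColimitFreeCofan σ) φ, fun n =>
      Cofan.IsColimit.hom_ext (SheafOfModules.isColimitFreeCofan σ) _ _ fun k => ?_⟩
    rw [← Category.assoc, Cofan.IsColimit.fac, hφ]
    rfl

/-- Bijectivity passes to quotients of presentations. -/
theorem TowerBij.of_presentation {P R D : X.Modules} (p : P ⟶ D) [Epi p] (q : R ⟶ kernel p) [Epi q]
    (hP : TowerBij ht P) (hR : TowerBij ht R) : TowerBij ht D := by
  refine ⟨fun φ ψ e => ?_, fun y hy => ?_⟩
  · rw [← cancel_epi p]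
    exact hP.1 _ _ fun n => by rw [Category.assoc, Category.assoc, e n]
  · obtain ⟨φ, hφ⟩ := hP.2 (fun n => p ≫ y n) fun n => by rw [Category.assoc, hy n]
    have h0 : kernel.ι p ≫ φ = 0 := by
      rw [← cancel_epi q, comp_zero]
      exact hR.1 _ _ fun n => by
        rw [Category.assoc, Category.assoc, hφ n, kernel.condition_assoc, zero_comp, comp_zero, zero_comp]
    refine ⟨(Abelian.epiIsCokernelOfKernel _ (kernelIsKernel p)).desc (CokernelCofork.ofπ φ h0), fun n => ?_⟩
    rw [← cancel_epi p, ← Category.assoc]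
    refine Eq.trans ?_ (hφ n)
    congr 1
    exact (Abelian.epiIsCokernelOfKernel _ (kernelIsKernel p)).fac _ WalkingParallelPair.one

/-- On a quasi-affine scheme it suffices to know the functions. -/
theorem towerBij_of_isQuasiAffine [X.IsQuasiAffine] (h : TowerBij ht (Coh.structureModule X))
    {D : X.Modules} (hD : FlatMod.IsFinLocFree D) : TowerBij ht D := by
  have hDq : Coh.IsQCoh D := QCoh.isQCoh_of_isFinLocFree hD
  obtain ⟨σ, p, hp⟩ := AmpleX.isGloballyGenerated_of_isQuasiAffine hDq
  have hσ : Coh.IsQCoh (SheafOfModules.free σ : X.Modules) :=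
    QCoh.isQCoh_colimit _ fun _ => QCoh.isQCoh_structureModule
  obtain ⟨τ, q, hq⟩ := AmpleX.isGloballyGenerated_of_isQuasiAffine (QCoh.isQCoh_kernel hσ hDq p)
  exact TowerBij.of_presentation ht p q (h.free ht σ) (h.free ht τ)

/-- If maps out of `O` into a locally free module are the compatible families of maps between pullbacks,
its sections are the compatible families of sections. -/
theorem existsUnique_section_of_pullback {G : X.Modules}
    (h : ∀ v : ∀ n, (Scheme.Modules.pullback (i n)).obj (Coh.structureModule X) ⟶ (Scheme.Modules.pullback (i n)).obj G,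
      (∀ n, (Scheme.Modules.pullback (t n)).map (v (n + 1)) ≫
          (Scheme.Modules.pullbackComp (t n) (i (n + 1)) ≪≫ Scheme.Modules.pullbackCongr (ht n)).hom.app G =
        (Scheme.Modules.pullbackComp (t n) (i (n + 1)) ≪≫ Scheme.Modules.pullbackCongr (ht n)).hom.app _ ≫ v n) →
      ∃! φ : Coh.structureModule X ⟶ G, ∀ n, (Scheme.Modules.pullback (i n)).map φ = v n)
    (y : ∀ n, Γ(red (i n) G, ⊤)) (hy : ∀ n, (redTrans (t n) (ht n) G).app ⊤ (y (n + 1)) = y n) :
    ∃! σ : Γ(G, ⊤), ∀ n, (toRed (i n) G).app ⊤ σ = y n := by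
  have hone : ∀ {M : X.Modules} (s : Γ(M, ⊤)),
      (InvX.ofSect s).app ⊤ (1 : Γ(X, ⊤)) = s := fun s => InvX.one_ofSect s
  have hext : ∀ {M : X.Modules} (a b : Coh.structureModule X ⟶ M),
      a.app ⊤ (1 : Γ(X, ⊤)) = b.app ⊤ (1 : Γ(X, ⊤)) → a = b := fun a b e => QCoh.hom_ext_app fun W r => by
    rw [InvX.app_eq_smul a r, InvX.app_eq_smul b r, show InvX.one a = InvX.one b from e]
  let v : ∀ n, (Scheme.Modules.pullback (i n)).obj (Coh.structureModule X) ⟶
      (Scheme.Modules.pullback (i n)).obj G := fun n =>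
    ((Scheme.Modules.pullbackPushforwardAdjunction (i n)).homEquiv _ _).symm (InvX.ofSect (y n))
  obtain ⟨φ, hφ, huniq⟩ := h v fun n => by
    have e : InvX.ofSect (y (n + 1)) ≫ redTrans (t n) (ht n) G = InvX.ofSect (y n) := hext _ _ (by
      show (redTrans (t n) (ht n) G).app ⊤ ((InvX.ofSect (y (n + 1))).app ⊤ (1 : Γ(X, ⊤))) = _
      rw [hone, hone, hy])
    have e2 := congrArg ((Scheme.Modules.pullbackPushforwardAdjunction (i n)).homEquiv _ _).symm e
    rw [show InvX.ofSect (y (n + 1)) =
      ((Scheme.Modules.pullbackPushforwardAdjunction (i (n + 1))).homEquiv _ _) (v (n + 1))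
      from (Equiv.apply_symm_apply _ _).symm, homEquiv_redTrans, Equiv.symm_apply_apply] at e2
    exact (Iso.inv_comp_eq ((Scheme.Modules.pullbackComp (t n) (i (n + 1)) ≪≫
      Scheme.Modules.pullbackCongr (ht n)).app (Coh.structureModule X))).1 e2
  have hφn : ∀ n, φ ≫ toRed (i n) G = InvX.ofSect (y n) := fun n => by
    rw [← adj_map φ n, hφ n]
    exact Equiv.apply_symm_apply _ _
  refine ⟨φ.app ⊤ (1 : Γ(X, ⊤)), fun n => (congr(($(hφn n)).app ⊤ (1 : Γ(X, ⊤)))).trans (hone _),
    fun σ hσ => ?_⟩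
  rw [← huniq (InvX.ofSect σ) fun n =>
    ((Scheme.Modules.pullbackPushforwardAdjunction (i n)).homEquiv _ _).injective
      ((adj_map _ n).trans ((hext _ _ ?_).trans (Equiv.apply_symm_apply _ _).symm)), hone]
  show (toRed (i n) G).app ⊤ ((InvX.ofSect σ).app ⊤ (1 : Γ(X, ⊤))) = _
  rw [hone, hone, hσ]

omit ht

/-- A fully faithful completion gives bijectivity on sections. -/
theorem sectionBij_of_completion (𝓙 : X.IdealSheafData)
    (h : ∀ F G : X.Modules, FlatMod.IsFinLocFree F → FlatMod.IsFinLocFree G →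
      Function.Bijective (fun φ : F ⟶ G => FSch.complModMap 𝓙 φ)) :
    SectionBij (i := FSch.completionToX X 𝓙) (compl_ι_toX 𝓙) := by
  intro G hG
  refine existsUnique_section_of_pullback (compl_ι_toX 𝓙) fun v hv => ?_
  simp only [← complTransIso_eq] at hv
  obtain ⟨φ, hφ⟩ := (h _ G isFinLocFree_structureModule hG).2 ⟨v, hv⟩
  refine ⟨φ, fun n => congrFun (congrArg FSch.ModSys.Hom.app hφ) n, fun φ' hφ' => ?_⟩
  refine (h _ G isFinLocFree_structureModule hG).1 ?_
  refine Eq.trans ?_ hφ.symm
  exact FSch.ModSys.Hom.ext (funext hφ')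

end Groth.Agent.Lef73
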