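import Groth.Agent.Lef73.PushTrans
import Groth.Agent.Lef73.SectionCrit
import Groth.Agent.Lef73.LefTower
import Groth.Agent.ParaFX.Closed
import Groth.Agent.Hartogs.Basic
import Groth.Prelude.Def_Lef

/-!
# Restricting the formal Hom condition to a neighbourhood
-/

set_option backward.isDefEq.respectTransparency false
set_option backward.isDefEq.respectTransparency.types false
set_option linter.unusedSectionVars false
set_option linter.style.haveILetI false

universe u

open CategoryTheory CategoryTheory.Limits AlgebraicGeometry TopologicalSpace Opposite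

noncomputable section

namespace Groth.Agent.Lef73

open Groth.Agent Groth.Agent.AModX

variable {X : Scheme.{u}}

/-- Direct images from a subscheme inside an open do not see the complement. -/
theorem sectBij_push_of_range {Z U : Scheme.{u}} (i : Z ⟶ X) (j : U ⟶ X) [IsOpenImmersion j]
    (h : Set.range i.base ⊆ Set.range j.base) (L : Z.Modules) :
    ParaFX.SectBij j ((Scheme.Modules.pushforward i).obj L) := by
  intro O O' hle hO'
  rw [Scheme.Modules.pushforward_obj_presheaf_map]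
  have he : i ⁻¹ᵁ O' = i ⁻¹ᵁ O := by
    subst hO'
    ext x
    exact ⟨fun hx => hx.1, fun hx => ⟨hx, h ⟨x, rfl⟩⟩⟩
  exact ParaFX.isIso_map_of_eq L he.le he

/-- Functions do not see a closed set of depth at least two. -/
theorem sectBij_structureModule [IsLocallyNoetherian X] (U : X.Opens)
    (hU : ∀ x : X, x ∉ U → (2 : ℕ∞) ≤ LocCoh.depth (X.presheaf.stalk x) (X.presheaf.stalk x)) :
    ParaFX.SectBij U.ι (Coh.structureModule X) := by
  intro O O' hle hO'
  rw [Scheme.Opens.opensRange_ι] at hO'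
  subst hO'
  exact (ConcreteCategory.isIso_iff_bijective _).2 (Hartogs.restrict_bijective U hU O)

theorem resR_appLE {P Q : Scheme.{u}} (t : P ⟶ Q) {A A' : Q.Opens} {B B' : P.Opens} (e : B ≤ t ⁻¹ᵁ A)
    (e' : B' ≤ t ⁻¹ᵁ A') (h : B' ≤ B) (h' : A' ≤ A) (x : Γ(Q, A)) :
    resR h ((t.appLE A B e).hom x) = (t.appLE A' B' e').hom (resR h' x) := by
  show (t.appLE A B e ≫ P.presheaf.map (homOfLE h).op).hom x = (Q.presheaf.map (homOfLE h').op ≫ t.appLE A' B' e').hom x
  rw [Scheme.Hom.appLE_map, Scheme.Hom.map_appLE]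

section Comparison

variable {U : X.Opens} {Z : Scheme.{u}} {i : Z ⟶ X} {g : Z ⟶ U} (hg : g ≫ U.ι = i)

/-- The direct image to `X` restricts to the direct image to `U`. -/
def pushRestrictIso :
    ((Scheme.Modules.pushforward i).obj (Coh.structureModule Z)).restrict U.ι ≅ pushO g :=
  (Scheme.Modules.restrictFunctor U.ι).mapIso
      ((Scheme.Modules.pushforwardCongr hg.symm).app _ ≪≫ ((Scheme.Modules.pushforwardComp g U.ι).app _).symm) ≪≫
    ParaFX.restrictPushforward U.ι (pushO g)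

theorem pushRestrictIso_app (V : (U : Scheme.{u}).Opens)
    (a : Γ((Scheme.Modules.pushforward i).obj (Coh.structureModule Z), U.ι ''ᵁ V)) :
    fn ((pushRestrictIso hg).hom.app V a) =
      resR (show g ⁻¹ᵁ V ≤ i ⁻¹ᵁ (U.ι ''ᵁ V) by
        subst hg; rw [Scheme.Hom.comp_preimage, Scheme.Hom.preimage_image_eq]) (show Γ(Z, i ⁻¹ᵁ (U.ι ''ᵁ V)) from a) := by
  subst hg
  rw [pushRestrictIso]
  show resR (show g ⁻¹ᵁ V ≤ (g ≫ U.ι) ⁻¹ᵁ (U.ι ''ᵁ V) from fun z hz => ⟨g z, hz, (Scheme.Hom.comp_apply g U.ι z).symm⟩) (resR (le_of_eq rfl) (show Γ(Z, (g ≫ U.ι) ⁻¹ᵁ (U.ι ''ᵁ V)) from a)) = _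
  rw [resR_resR]

/-- Restrictions of morphisms to the direct image. -/
def toRestr (F : X.Modules) (φ : F ⟶ (Scheme.Modules.pushforward i).obj (Coh.structureModule Z)) :
    F.restrict U.ι ⟶ pushO g :=
  (Scheme.Modules.restrictFunctor U.ι).map φ ≫ (pushRestrictIso hg).hom

include hg in
theorem toRestr_bijective (F : X.Modules) : Function.Bijective (toRestr hg F) := by
  have h1 := ParaFX.map_bijective U.ι (sectBij_push_of_range i U.ι (by
    rintro _ ⟨z, rfl⟩; exact ⟨g z, by rw [← hg]; rfl⟩) (Coh.structureModule Z)) F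
  exact (Iso.homToEquiv (pushRestrictIso hg)).bijective.comp h1

theorem restrict_unitToPush :
    (Scheme.Modules.restrictFunctor U.ι).map (ClSub.unitToPush i) ≫ (pushRestrictIso hg).hom =
      (Scheme.Modules.restrictUnitIso U.ι).hom ≫ ClSub.unitToPush g := by
  refine QCoh.hom_ext_app fun V a => ?_
  refine (pushRestrictIso_app hg V _).trans ?_
  show resR _ ((i.app (U.ι ''ᵁ V)).hom a) = (g.app V).hom ((U.ι.appIso V).hom.hom a)
  subst hg
  rw [Scheme.Hom.appIso_hom']
  show ((g ≫ U.ι).app (U.ι ''ᵁ V) ≫ Z.presheaf.map (homOfLE _).op).hom a = (U.ι.appLE _ _ _ ≫ g.app V).hom a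
  rw [← Scheme.Hom.appLE, Scheme.Hom.app_eq_appLE, Scheme.Hom.appLE_comp_appLE]

theorem restrict_oTrans {Z' : Scheme.{u}} {i' : Z' ⟶ X} {g' : Z' ⟶ U} (hg' : g' ≫ U.ι = i') (t : Z ⟶ Z')
    (ht : t ≫ i' = i) (htg : t ≫ g' = g) :
    (Scheme.Modules.restrictFunctor U.ι).map (oTrans t ht) ≫ (pushRestrictIso hg).hom =
      (pushRestrictIso hg').hom ≫ oTrans t htg := by
  refine QCoh.hom_ext_app fun V a => ?_
  refine (pushRestrictIso_app hg V _).trans (Eq.trans ?_ (oTrans_app t htg V _).symm)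
  refine (congrArg _ (oTrans_app t ht (U.ι ''ᵁ V) _)).trans ?_
  refine Eq.trans ?_ (congrArg _ (pushRestrictIso_app hg' V a).symm)
  exact resR_appLE t _ _ _ _ _

end Comparison

section Tower

variable {U : X.Opens} {Z : ℕ → Scheme.{u}} {i : ∀ n, Z n ⟶ X} [∀ n, IsClosedImmersion (i n)]
  {g : ∀ n, Z n ⟶ U} [∀ n, IsClosedImmersion (g n)] (hg : ∀ n, g n ≫ U.ι = i n)
  {t : ∀ n, Z n ⟶ Z (n + 1)} (ht : ∀ n, t n ≫ i (n + 1) = i n) (htg : ∀ n, t n ≫ g (n + 1) = g n)

include hg in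
/-- Bijectivity passes to a neighbourhood with complement of depth at least two. -/
theorem towerBij_restrict [IsLocallyNoetherian X]
    (hU : ∀ x : X, x ∉ U → (2 : ℕ∞) ≤ LocCoh.depth (X.presheaf.stalk x) (X.presheaf.stalk x))
    {P : X.Modules} (h : TowerBij ht P) : TowerBij htg (P.restrict U.ι) := by
  let e := Scheme.Modules.restrictUnitIso U.ι
  have hb := ParaFX.map_bijective U.ι (sectBij_structureModule U hU) P
  have key : ∀ (φ : P ⟶ Coh.structureModule X) n,
      ((Scheme.Modules.restrictFunctor U.ι).map φ ≫ e.hom) ≫ ClSub.unitToPush (g n) =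
        toRestr (hg n) P (φ ≫ ClSub.unitToPush (i n)) := fun φ n => by
    rw [toRestr, Functor.map_comp, Category.assoc, Category.assoc, restrict_unitToPush]
  refine ⟨fun α β hαβ => ?_, fun y hy => ?_⟩
  · obtain ⟨a, ha⟩ := hb.2 (α ≫ e.inv)
    obtain ⟨b, hb'⟩ := hb.2 (β ≫ e.inv)
    have hα : (Scheme.Modules.restrictFunctor U.ι).map a ≫ e.hom = α := by
      rw [show (Scheme.Modules.restrictFunctor U.ι).map a = _ from ha, Category.assoc, Iso.inv_hom_id, Category.comp_id]
    have hβ : (Scheme.Modules.restrictFunctor U.ι).map b ≫ e.hom = β := by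
      rw [show (Scheme.Modules.restrictFunctor U.ι).map b = _ from hb', Category.assoc, Iso.inv_hom_id, Category.comp_id]
    rw [← hα, ← hβ, h.1 a b fun n => (toRestr_bijective (hg n) P).1 (by rw [← key, ← key, hα, hβ, hαβ n])]
  · choose z hz using fun n => (toRestr_bijective (hg n) P).2 (y n)
    obtain ⟨φ, hφ⟩ := h.2 z fun n => (toRestr_bijective (hg n) P).1 (by
      rw [hz n, ← hy n, ← hz (n + 1), toRestr, toRestr, Functor.map_comp, Category.assoc, Category.assoc,
        restrict_oTrans (hg n) (hg (n + 1)) (t n) (ht n) (htg n)])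
    exact ⟨_, fun n => by rw [key, hφ n, hz n]⟩

theorem oTrans_comp {Z Z' Z'' : Scheme.{u}} {i : Z ⟶ X} {i' : Z' ⟶ X} {i'' : Z'' ⟶ X}
    (a : Z ⟶ Z') (b : Z' ⟶ Z'') (ha : a ≫ i' = i) (hb : b ≫ i'' = i') :
    oTrans b hb ≫ oTrans a ha = oTrans (a ≫ b) (by rw [Category.assoc, hb, ha]) := by
  refine QCoh.hom_ext_app fun V s => ?_
  refine (oTrans_app a ha V _).trans (Eq.trans ?_ (oTrans_app _ _ V _).symm)
  erw [oTrans_app b hb V]
  show (b.appLE _ _ _ ≫ a.appLE _ _ _).hom (fn s) = _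
  rw [Scheme.Hom.appLE_comp_appLE]

theorem oTrans_congr {Z Z' : Scheme.{u}} {i : Z ⟶ X} {i' : Z' ⟶ X} {a b : Z ⟶ Z'} (e : a = b)
    (ha : a ≫ i' = i) : oTrans a ha = oTrans b (e ▸ ha) := by
  subst e
  rfl

theorem oTrans_id {Z : Scheme.{u}} {i : Z ⟶ X} : oTrans (𝟙 Z) (Category.id_comp i) = 𝟙 _ := by
  refine QCoh.hom_ext_app fun V s => (oTrans_app _ _ V _).trans ?_
  show ((𝟙 Z : Z ⟶ Z).appLE _ _ _).hom (fn s) = s
  simp [Scheme.Hom.appLE]
  exact resR_self _

variable {Z' : ℕ → Scheme.{u}} {i' : ∀ n, Z' n ⟶ X} [∀ n, IsClosedImmersion (i' n)]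
  {t' : ∀ n, Z' n ⟶ Z' (n + 1)} (ht' : ∀ n, t' n ≫ i' (n + 1) = i' n)

include ht' in
/-- `TowerBij` only depends on the closed subschemes. -/
theorem towerBij_transport (e : ∀ n, Z' n ≅ Z n) (he : ∀ n, (e n).hom ≫ i n = i' n) {D : X.Modules}
    (h : TowerBij ht D) : TowerBij ht' D := by
  have he' : ∀ n, (e n).inv ≫ i' n = i n := fun n => by rw [← he n, Iso.inv_hom_id_assoc]
  have hsq : ∀ n, t n ≫ (e (n + 1)).inv = (e n).inv ≫ t' n := fun n => by
    rw [← cancel_mono (i' (n + 1)), Category.assoc, Category.assoc, he', ht, ht', he']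
  refine ⟨fun φ ψ hφψ => h.1 φ ψ fun n => ?_, fun y hy => ?_⟩
  · have := congrArg (· ≫ oTrans (e n).inv (he' n)) (hφψ n)
    simpa only [Category.assoc, toSub_oTrans] using this
  · obtain ⟨φ, hφ⟩ := h.2 (fun n => y n ≫ oTrans (e n).inv (he' n)) fun n => by
      show (y (n + 1) ≫ oTrans _ _) ≫ oTrans _ _ = y n ≫ oTrans _ _
      rw [Category.assoc, oTrans_comp, oTrans_congr (hsq n), ← oTrans_comp _ _ _ (ht' n), ← Category.assoc, hy n]
    refine ⟨φ, fun n => ?_⟩
    rw [← toSub_oTrans (e n).hom (he n), ← Category.assoc, hφ n, Category.assoc, oTrans_comp,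
      oTrans_congr (e n).hom_inv_id, oTrans_id, Category.comp_id]

end Tower

end Groth.Agent.Lef73
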