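import Groth.Agent.Lef73.KerMod
import Groth.Agent.PicfLib.PicSeq
import Groth.Agent.H23.PicMul
import Groth.Agent.ModPairLib.BlowUp

/-!
# Invertible modules along a square zero thickening
-/

set_option backward.isDefEq.respectTransparency false
set_option backward.isDefEq.respectTransparency.types false

universe u

open CategoryTheory CategoryTheory.Limits AlgebraicGeometry TopologicalSpace Opposite

noncomputable section

namespace Groth.Agent.Lef73

open Groth.Agent

set_option linter.unusedSectionVars false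
set_option linter.style.haveILetI false

variable {Z Z' : Scheme.{u}} (t : Z ⟶ Z') [IsClosedImmersion t]

theorem cls_pullback {X Y : Scheme.{u}} [PicGrp.Law X] [PicGrp.Law Y] (f : Y ⟶ X) (hf : PicGrp.PullMul f)
    {L : X.Modules} (hL : PicF.IsInvertible L) :
    PicGrp.pullHom f hf (PicGrp.cls L hL) =
      PicGrp.cls ((Scheme.Modules.pullback f).obj L) (PicClLib.isInvertible_pullback f hL) :=
  Subtype.ext rfl

theorem appTop_toImage :
    t.appTop = t.ker.subschemeι.appTop ≫ t.toImage.appTop := by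
  conv_lhs => rw [← Scheme.Hom.toImage_imageι t]
  exact Scheme.Hom.comp_appTop _ _

/-- With `H¹(ker) = 0` units lift along a square zero thickening. -/
theorem exists_unit_lift (hsq : t.ker * t.ker = ⊥) (h1 : Subsingleton (Coh.HH Z' (kerMod t) 1))
    (v : (Γ(Z, ⊤))ˣ) : ∃ w : (Γ(Z', ⊤))ˣ, t.appTop (w : Γ(Z', ⊤)) = (v : Γ(Z, ⊤)) := by
  letI := H23.PicMul.law Z'
  letI := H23.PicMul.law t.ker.subscheme
  obtain ⟨_, δ₀, _, _, -, -, hδ, -, -, -⟩ := PicfLib.PicSeq.exists_exact t.ker hsq (H23.PicMul.pullMul _)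
  haveI := subsingleton_HH_idealMod_ker t 1 h1
  haveI : IsIso t.toImage.appTop := inferInstance
  let v' : (Γ(t.ker.subscheme, ⊤))ˣ := Units.map (inv t.toImage.appTop).hom.toMonoidHom v
  have : v' ∈ δ₀.ker := (MonoidHom.mem_ker).2 (Subsingleton.elim _ _)
  rw [hδ] at this
  obtain ⟨w, hw⟩ := this
  refine ⟨w, ?_⟩
  rw [appTop_toImage]
  show t.toImage.appTop (t.ker.subschemeι.appTop (w : Γ(Z', ⊤))) = _
  rw [show t.ker.subschemeι.appTop (w : Γ(Z', ⊤)) = (v' : Γ(t.ker.subscheme, ⊤)) from congrArg Units.val hw]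
  exact congr(($(IsIso.inv_hom_id t.toImage.appTop)) (v : Γ(Z, ⊤)))

/-- With `H¹(ker) = 0` an invertible module trivial on the closed subscheme is trivial. -/
theorem trivial_of_pullback_trivial (hsq : t.ker * t.ker = ⊥) (h1 : Subsingleton (Coh.HH Z' (kerMod t) 1))
    {L : Z'.Modules} (hL : PicF.IsInvertible L)
    (e : Nonempty ((Scheme.Modules.pullback t).obj L ≅ Coh.structureModule Z)) :
    Nonempty (L ≅ Coh.structureModule Z') := by
  letI := H23.PicMul.law Z'
  letI := H23.PicMul.law t.ker.subscheme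
  letI := H23.PicMul.law Z
  obtain ⟨_, _, α, _, -, -, -, -, hα, -⟩ := PicfLib.PicSeq.exists_exact t.ker hsq (H23.PicMul.pullMul _)
  haveI := subsingleton_HH_idealMod_ker t 1 h1
  have hker : PicGrp.pullHom t.ker.subschemeι (H23.PicMul.pullMul _) (PicGrp.cls L hL) = 1 := by
    rw [cls_pullback, PicGrp.cls_eq_one_iff]
    obtain ⟨e⟩ := e
    let j := t.ker.subschemeι
    refine ⟨(Scheme.Modules.pullbackId _).symm.app _ ≪≫
      (Scheme.Modules.pullbackCongr (IsIso.inv_hom_id t.toImage)).symm.app _ ≪≫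
      (Scheme.Modules.pullbackComp (inv t.toImage) t.toImage).symm.app _ ≪≫
      (Scheme.Modules.pullback (inv t.toImage)).mapIso
        ((Scheme.Modules.pullbackComp t.toImage j ≪≫
          Scheme.Modules.pullbackCongr (Scheme.Hom.toImage_imageι t)).app L ≪≫ e) ≪≫ ?_⟩
    exact @asIso _ _ _ _ (show (Scheme.Modules.pullback (inv t.toImage)).obj (Coh.structureModule Z) ⟶
        Coh.structureModule t.ker.subscheme from
        SheafOfModules.pullbackObjUnitToUnit (inv t.toImage).toRingCatSheafHom)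
      (inferInstanceAs (IsIso (SheafOfModules.pullbackObjUnitToUnit (inv t.toImage).toRingCatSheafHom)))
  rw [← MonoidHom.mem_ker, hα] at hker
  obtain ⟨x, hx⟩ := hker
  rw [Subsingleton.elim x 1, map_one, eq_comm, PicGrp.cls_eq_one_iff] at hx
  exact hx

/-- With `H²(ker) = 0` invertible modules lift along a square zero thickening. -/
theorem exists_invertible_lift (hsq : t.ker * t.ker = ⊥) (h2 : Subsingleton (Coh.HH Z' (kerMod t) 2))
    {N : Z.Modules} (hN : PicF.IsInvertible N) :
    ∃ L : Z'.Modules, PicF.IsInvertible L ∧ Nonempty ((Scheme.Modules.pullback t).obj L ≅ N) := by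
  letI := H23.PicMul.law Z'
  letI := H23.PicMul.law t.ker.subscheme
  obtain ⟨_, _, _, δ₁, -, -, -, -, -, hδ⟩ := PicfLib.PicSeq.exists_exact t.ker hsq (H23.PicMul.pullMul _)
  haveI := subsingleton_HH_idealMod_ker t 2 h2
  let c := PicGrp.cls ((Scheme.Modules.pullback (inv t.toImage)).obj N) (PicClLib.isInvertible_pullback _ hN)
  have : c ∈ δ₁.ker := (MonoidHom.mem_ker).2 (Subsingleton.elim _ _)
  rw [hδ] at this
  obtain ⟨l, hl⟩ := this
  obtain ⟨L, hL, rfl⟩ := PicGrp.exists_eq_cls l
  rw [cls_pullback, PicGrp.cls_eq_cls_iff] at hl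
  obtain ⟨e⟩ := hl
  refine ⟨L, hL, ⟨(Scheme.Modules.pullbackComp t.toImage t.ker.subschemeι ≪≫
      Scheme.Modules.pullbackCongr (Scheme.Hom.toImage_imageι t)).symm.app L ≪≫
    (Scheme.Modules.pullback t.toImage).mapIso e ≪≫
    (Scheme.Modules.pullbackComp t.toImage (inv t.toImage) ≪≫
      Scheme.Modules.pullbackCongr (IsIso.hom_inv_id t.toImage) ≪≫ Scheme.Modules.pullbackId _).app N⟩⟩

end Groth.Agent.Lef73
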