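import Groth.Agent.Lef73.Level
import Groth.Prelude.Def_Lef
import Mathlib.CategoryTheory.Adjunction.Mates

/-!
# Transition maps between reductions modulo nested closed subschemes
-/

set_option backward.isDefEq.respectTransparency false
set_option backward.isDefEq.respectTransparency.types false

universe u

open CategoryTheory CategoryTheory.Limits AlgebraicGeometry TopologicalSpace Opposite

noncomputable section

namespace Groth.Agent.Lef73

open Groth.Agent Groth.Agent.AModX

variable {X Z Z' : Scheme.{u}} {i : Z ⟶ X} {i' : Z' ⟶ X} (t : Z ⟶ Z') (h : t ≫ i' = i)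

/-- `i'_* i'^* G ⟶ i_* i^* G` for `Z ⊆ Z'`. -/
def redTrans (G : X.Modules) : red i' G ⟶ red i G :=
  (Scheme.Modules.pushforward i').map
      ((Scheme.Modules.pullbackPushforwardAdjunction t).unit.app ((Scheme.Modules.pullback i').obj G)) ≫
    (Scheme.Modules.pushforwardComp t i').hom.app _ ≫
    (Scheme.Modules.pushforwardCongr h).hom.app _ ≫
    (Scheme.Modules.pushforward i).map
      ((Scheme.Modules.pullbackComp t i' ≪≫ Scheme.Modules.pullbackCongr h).hom.app G)

/-- `i'_* O ⟶ i_* O` for `Z ⊆ Z'`. -/
def oTrans : (Scheme.Modules.pushforward i').obj (Coh.structureModule Z') ⟶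
    (Scheme.Modules.pushforward i).obj (Coh.structureModule Z) :=
  (Scheme.Modules.pushforward i').map (ClSub.unitToPush t) ≫
    (Scheme.Modules.pushforwardComp t i').hom.app _ ≫
    (Scheme.Modules.pushforwardCongr h).hom.app _

theorem pushforwardCongr_rfl_hom_app {f : Z ⟶ X} (M : Z.Modules) :
    (Scheme.Modules.pushforwardCongr (rfl : f = f)).hom.app M = 𝟙 _ :=
  QCoh.hom_ext_app fun U s => by
    rw [Scheme.Modules.pushforwardCongr_hom_app_app]
    exact QCoh.map_id' (eqToHom rfl) s

theorem toRed_redTrans (G : X.Modules) : toRed i' G ≫ redTrans t h G = toRed i G := by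
  subst h
  have hc := unit_conjugateEquiv
    ((Scheme.Modules.pullbackPushforwardAdjunction i').comp (Scheme.Modules.pullbackPushforwardAdjunction t))
    (Scheme.Modules.pullbackPushforwardAdjunction (t ≫ i')) (Scheme.Modules.pullbackComp t i').inv G
  rw [Scheme.Modules.conjugateEquiv_pullbackComp_inv, Adjunction.comp_unit_app, Category.assoc] at hc
  show _ ≫ _ ≫ _ ≫ _ ≫ _ = _
  rw [pushforwardCongr_rfl_hom_app, Category.id_comp]
  erw [reassoc_of% hc]
  rw [← Functor.map_comp]
  simp [Scheme.Modules.pullbackCongr]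

theorem toSub_oTrans : ClSub.unitToPush i' ≫ oTrans t h = ClSub.unitToPush i := by
  subst h
  rw [oTrans, pushforwardCongr_rfl_hom_app, Category.comp_id]
  refine QCoh.hom_ext_app fun U s => ?_
  show (t.app (i' ⁻¹ᵁ U)).hom ((i'.app U).hom s) = ((t ≫ i').app U).hom s
  rw [Scheme.Hom.comp_app]
  rfl

theorem map_redTrans_redPair [IsClosedImmersion i'] {G : X.Modules} (hG : FlatMod.IsFinLocFree G) :
    (AmpleVan.tw (dual G)).map (redTrans t h G) ≫ redPair i G = redPair i' G ≫ oTrans t h := by
  haveI := epi_toRed i' (QCoh.isQCoh_of_isFinLocFree hG)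
  haveI : (AmpleVan.tw (dual G)).IsLeftAdjoint := ⟨_, ⟨SheafHomX.adj (dual G)⟩⟩
  rw [← cancel_epi ((AmpleVan.tw (dual G)).map (toRed i' G)), ← Functor.map_comp_assoc, toRed_redTrans,
    map_toRed_redPair, ← Category.assoc, map_toRed_redPair, Category.assoc, toSub_oTrans]

theorem homEquiv_redTrans {F G : X.Modules}
    (v : (Scheme.Modules.pullback i').obj F ⟶ (Scheme.Modules.pullback i').obj G) :
    ((Scheme.Modules.pullbackPushforwardAdjunction i').homEquiv _ _) v ≫ redTrans t h G =
      ((Scheme.Modules.pullbackPushforwardAdjunction i).homEquiv _ _)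
        ((Scheme.Modules.pullbackComp t i' ≪≫ Scheme.Modules.pullbackCongr h).inv.app F ≫
          (Scheme.Modules.pullback t).map v ≫
          (Scheme.Modules.pullbackComp t i' ≪≫ Scheme.Modules.pullbackCongr h).hom.app G) := by
  let e := Scheme.Modules.pullbackComp t i' ≪≫ Scheme.Modules.pullbackCongr h
  have hF := toRed_redTrans t h F
  have h1 : (toRed i' F ≫ (Scheme.Modules.pushforward i').map
      ((Scheme.Modules.pullbackPushforwardAdjunction t).unit.app ((Scheme.Modules.pullback i').obj F))) ≫
      (Scheme.Modules.pushforwardComp t i').hom.app _ ≫ (Scheme.Modules.pushforwardCongr h).hom.app _ =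
        toRed i F ≫ (Scheme.Modules.pushforward i).map (e.inv.app F) := by
    conv_rhs => rw [← hF, redTrans]
    simp only [Category.assoc, ← Functor.map_comp]
    rw [Iso.hom_inv_id_app]
    erw [CategoryTheory.Functor.map_id, Category.comp_id]
  rw [Adjunction.homEquiv_unit, Adjunction.homEquiv_unit, redTrans, Category.assoc]
  rw [← Functor.map_comp_assoc]
  erw [(Scheme.Modules.pullbackPushforwardAdjunction t).unit.naturality v]
  rw [Functor.map_comp, Functor.map_comp, Functor.map_comp, Category.assoc]
  erw [(Scheme.Modules.pushforwardComp t i').hom.naturality_assoc,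
    (Scheme.Modules.pushforwardCongr h).hom.naturality_assoc]
  rw [← reassoc_of% h1]

end Groth.Agent.Lef73
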